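import Cfsg.Agent.OddOrder.PF6.Sibley
import Cfsg.Prelude.Def_Transfer
import Cfsg.Agent.S1535
import Mathlib.GroupTheory.FixedPointFree

/-!
# Coherence for trivial-intersection nilpotent subgroups with small centralisers
-/

set_option autoImplicit false

namespace Cfsg.Agent.OddOrder.PF6

open Cfsg.Agent Finset
open scoped commutatorElement

universe u

section Kernel

variable {L : Type u} [Group L] [Fintype L] {K : Subgroup L} [hK : K.Normal]

/-- A kernel that is not commutative forces an odd index. -/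
theorem odd_index_of_not_comm (hF : H28.Frob.IsFrobKer K) (hna : ¬ IsMulCommutative K) :
    Odd K.index := by
  by_contra hc
  rw [Nat.not_odd_iff_even, even_iff_two_dvd] at hc
  have h2K : ¬ 2 ∣ Nat.card K := fun h =>
    (by omega : ¬ 2 ∣ 1) ((H28.Frob.coprime_index hF) ▸ Nat.dvd_gcd h hc)
  obtain ⟨t, ht⟩ := exists_prime_orderOf_dvd_card' 2 (G := L) (hc.trans (Subgroup.index_dvd_card K))
  have htK : t ∉ K := fun h =>
    h2K ((ht.symm.trans (Subgroup.orderOf_coe (⟨t, h⟩ : K))).symm ▸ orderOf_dvd_natCard _)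
  let φ : K ≃* K := MulAut.conjNormal t
  have hfix : MonoidHom.FixedPointFree φ := fun k hk => by
    by_contra hk1
    refine htK (hF k k.2 (fun e => hk1 (Subtype.ext e)) (Subgroup.mem_centralizer_singleton_iff.2 ?_))
    have h : t * (k : L) * t⁻¹ = k := congrArg Subtype.val hk
    exact mul_inv_eq_iff_eq_mul.1 h
  have hinv : Function.Involutive φ := fun k => Subtype.ext (by
    show t * (t * (k : L) * t⁻¹) * t⁻¹ = k
    have h2 : t * t = 1 := by rw [← sq, ← ht, pow_orderOf_eq_one]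
    calc t * (t * (k : L) * t⁻¹) * t⁻¹ = (t * t) * k * (t * t)⁻¹ := by group
      _ = k := by rw [h2]; simp)
  exact hna ⟨⟨fun a b => hfix.commute_all_of_involutive hinv a b⟩⟩

theorem odd_card_of_not_comm (hF : H28.Frob.IsFrobKer K) (hna : ¬ IsMulCommutative K)
    (hK : Odd (Nat.card K)) : Odd (Nat.card L) := by
  rw [← K.card_mul_index]
  exact hK.mul (odd_index_of_not_comm hF hna)

/-- The exceptional case `|K| = e + 1`. -/
theorem single_of_card_eq (hF : H28.Frob.IsFrobKer K) (hnil : Group.IsNilpotent K) (hK1 : K ≠ ⊥)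
    (hcard : Nat.card K = K.index + 1) :
    (seqInd K ⊥).card = 1 ∧ ∃ p : ℕ, p.Prime ∧ p ∣ Nat.card K ∧ Cfsg.IsElementaryAbelian p K := by
  classical
  refine ⟨?_, ?_⟩
  · have hne := seqInd_nonempty (K := K) (A := ⊥) inferInstance (bot_lt_iff_ne_bot.2 hK1)
    have hsum := sum_weight_seqInd K (⊥ : Subgroup L)
    rw [Subgroup.relIndex_bot_left, hcard] at hsum
    have hle : ((seqInd K ⊥).card : ℝ) * (K.index : ℝ) ^ 2 ≤ ∑ φ ∈ seqInd K ⊥, weight φ := by
      rw [← nsmul_eq_mul]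
      refine card_nsmul_le_sum _ _ _ fun φ hφ => ?_
      obtain ⟨θ, -, m, hm0, -, -, hd⟩ := seqInd_degree K hφ
      rw [weight, hd, CharBasic.classInner_irr_self (seqInd_irr hF hφ), Complex.natCast_re,
        Complex.one_re, div_one, Nat.cast_mul]
      have : (1 : ℝ) ≤ m := by exact_mod_cast hm0
      rw [mul_pow]
      exact le_mul_of_one_le_right (sq_nonneg _) (one_le_pow₀ this)
    rw [hsum] at hle
    push_cast at hle
    have he : (0 : ℝ) < K.index :=
      Nat.cast_pos.2 (Nat.pos_of_ne_zero Subgroup.FiniteIndex.index_ne_zero)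
    have h1 : ((seqInd K ⊥).card : ℝ) ≤ 1 := by
      refine le_of_mul_le_mul_right ?_ (sq_pos_of_pos he)
      linarith
    exact le_antisymm (by exact_mod_cast h1) hne.card_pos
  · haveI := (Subgroup.nontrivial_iff_ne_bot K).2 hK1
    haveI : Nontrivial (Subgroup.center K) :=
      (Subgroup.nontrivial_iff_ne_bot _).2 (Group.IsNilpotent.center_ne_bot _)
    obtain ⟨⟨k₀, hk₀⟩, hne⟩ := exists_ne (1 : Subgroup.center K)
    have hk₀1 : (k₀ : L) ≠ 1 := fun e => hne (Subtype.ext (Subtype.ext e))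
    let X := {z : L // z ∈ K ∧ z ≠ 1}
    letI : MulAction L X :=
      { smul := fun g z => ⟨g * z * g⁻¹, Subgroup.Normal.conj_mem inferInstance _ z.2.1 g, fun e =>
          z.2.2 (by simpa using e)⟩
        one_smul := fun z => Subtype.ext (show 1 * (z : L) * 1⁻¹ = z by simp)
        mul_smul := fun g g' z => Subtype.ext (show (g * g') * (z : L) * (g * g')⁻¹ =
          g * (g' * z * g'⁻¹) * g⁻¹ by simp [mul_assoc]) }
    set x₀ : X := ⟨k₀, k₀.2, hk₀1⟩
    have hst : MulAction.stabilizer L x₀ = K := by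
      ext g
      refine Subtype.ext_iff.trans ⟨fun h => ?_, fun h => ?_⟩
      · exact hF k₀ k₀.2 hk₀1 (Subgroup.mem_centralizer_singleton_iff.2
          (mul_inv_eq_iff_eq_mul.1 h))
      · show g * (k₀ : L) * g⁻¹ = k₀
        rw [mul_inv_eq_iff_eq_mul]
        exact congrArg Subtype.val (Subgroup.mem_center_iff.1 hk₀ ⟨g, h⟩)
    have hX : Nat.card X = K.index := by
      have h : Nat.card K = 1 + Nat.card X := by
        rw [Nat.card_eq_fintype_card (α := X), Fintype.card_subtype, Nat.card_eq_fintype_card,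
          Fintype.card_subtype]
        rw [← Finset.card_insert_of_notMem (a := (1 : L)) (by simp) |>.trans (add_comm _ _)]
        congr 1
        ext x
        simp only [Finset.mem_filter, Finset.mem_univ, true_and, Finset.mem_insert]
        exact ⟨fun h => (em (x = 1)).imp id fun h1 => ⟨h, h1⟩,
          fun h => h.elim (fun h => h ▸ one_mem K) And.left⟩
      omega
    have horb : MulAction.orbit L x₀ = Set.univ := by
      apply Set.eq_of_subset_of_ncard_le (Set.subset_univ _)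
      rw [Set.ncard_univ, hX, ← hst, MulAction.index_stabilizer]
    have hconj : ∀ z ∈ K, z ≠ 1 → ∃ g : L, g * (k₀ : L) * g⁻¹ = z := fun z hz hz1 => by
      obtain ⟨g, hg⟩ : (⟨z, hz, hz1⟩ : X) ∈ MulAction.orbit L x₀ := horb ▸ Set.mem_univ _
      exact ⟨g, congrArg Subtype.val hg⟩
    obtain ⟨p, hp, hpd⟩ := Nat.exists_prime_and_dvd (n := Nat.card K)
      (fun e => hK1 (Subgroup.card_eq_one.1 e))
    haveI := Fact.mk hp
    obtain ⟨y, hy⟩ := exists_prime_orderOf_dvd_card' p hpd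
    have hy1 : (y : L) ≠ 1 := fun e => by
      rw [show y = 1 from Subtype.ext e, orderOf_one] at hy
      exact hp.ne_one hy.symm
    obtain ⟨gy, hgy⟩ := hconj y y.2 hy1
    have hk₀p : (k₀ : L) ^ p = 1 := by
      have h : (y : L) ^ p = 1 := by
        have := congrArg Subtype.val (hy ▸ pow_orderOf_eq_one y)
        simpa using this
      rw [← hgy, conj_pow] at h
      simpa using h
    refine ⟨p, hp, hpd, ⟨⟨fun a b => Subtype.ext ?_⟩⟩, fun a ha => ?_⟩
    · rcases eq_or_ne (a : L) 1 with h | h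
      · simp [h]
      obtain ⟨g, hg⟩ := hconj a a.2 h
      have := Subgroup.mem_center_iff.1 hk₀ ⟨g⁻¹ * b * g, by
        simpa using hK.conj_mem _ b.2 g⁻¹⟩
      have h' : g⁻¹ * (b : L) * g * k₀ = k₀ * (g⁻¹ * b * g) := congrArg Subtype.val this
      show (a : L) * b = b * a
      rw [← hg]
      calc g * (k₀ : L) * g⁻¹ * b = g * ((k₀ : L) * (g⁻¹ * b * g)) * g⁻¹ := by group
        _ = g * (g⁻¹ * (b : L) * g * k₀) * g⁻¹ := by rw [h']
        _ = b * (g * k₀ * g⁻¹) := by group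
    · rcases eq_or_ne a 1 with rfl | h
      · exact one_pow p
      obtain ⟨g, hg⟩ := hconj a ha h
      rw [← hg, conj_pow, hk₀p]
      simp

end Kernel

section TI

variable {G : Type u} [Group G] [Fintype G] {H N : Subgroup G} [Fintype N]

omit [Fintype G] [Fintype N] in
theorem isFrobKer (hC : ∀ h ∈ H, h ≠ 1 → N ⊓ Subgroup.centralizer ({h} : Set G) ≤ H) :
    H28.Frob.IsFrobKer (H.subgroupOf N) := fun h hh h1 x hx => by
  refine Subgroup.mem_subgroupOf.2 (hC h (Subgroup.mem_subgroupOf.1 hh)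
    (fun e => h1 (Subtype.ext e)) ⟨x.2, ?_⟩)
  exact Subgroup.mem_centralizer_singleton_iff.2
    (congrArg Subtype.val (Subgroup.mem_centralizer_singleton_iff.1 hx))

omit [Fintype G] [Fintype N] in
theorem set_eq (T : Subgroup G) :
    {χ : N → ℂ | Cfsg.IsIrrCharacter N χ ∧ ∃ z : N, (z : G) ∈ T ∧ χ z ≠ χ 1}
      = {χ | Cfsg.IsIrrCharacter N χ ∧ ∃ k ∈ T.subgroupOf N, χ k ≠ χ 1} := by
  simp [Subgroup.mem_subgroupOf]

/-- The common conclusion: a single character, or coherence, unless the kernel is a nonabelian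
`p`-group with small abelianisation. -/
theorem trichotomy (hN : Subgroup.normalizer (H : Set G) = N) (hH1 : H ≠ ⊥) (hlt : H < N)
    (hnil : Group.IsNilpotent H) (hTI : Cfsg.IsTISubset (H : Set G))
    (hC : ∀ h ∈ H, h ≠ 1 → N ⊓ Subgroup.centralizer ({h} : Set G) ≤ H) :
    (Nat.card {χ : N → ℂ // Cfsg.IsIrrCharacter N χ ∧ ∃ x : N, (x : G) ∈ H ∧ χ x ≠ χ 1} = 1 ∧
      Nat.card H = (H.subgroupOf N).index + 1 ∧
      ∃ p : ℕ, p.Prime ∧ p ∣ Nat.card H ∧ Cfsg.IsElementaryAbelian p H) ∨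
    (∃ p : ℕ, p.Prime ∧ p = 2 ∧ (∃ m, Nat.card H = p ^ m) ∧
      (⁅H, H⁆.subgroupOf H).index ≤ 4 * (H.subgroupOf N).index ^ 2 + 1) ∨
    Cfsg.IsCoherent {χ : N → ℂ | Cfsg.IsIrrCharacter N χ ∧ ∃ x : N, (x : G) ∈ H ∧ χ x ≠ χ 1}
      {1}ᶜ (fun α => Cfsg.indFun N α) := by
  classical
  set K := H.subgroupOf N with hKdef
  haveI : K.Normal := by
    subst hN
    exact Subgroup.normal_in_normalizer
  have hF := isFrobKer hC
  have hcardK : Nat.card K = Nat.card H :=
    Nat.card_congr (Subgroup.subgroupOfEquivOfLe hlt.le).toEquiv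
  have hKtop : K ≠ ⊤ := fun e => hlt.not_ge (Subgroup.subgroupOf_eq_top.1 e)
  have hKbot : K ≠ ⊥ := fun e => hH1 <| by
    have := Subgroup.map_subgroupOf_eq_of_le hlt.le
    rw [← hKdef, e, Subgroup.map_bot] at this
    exact this.symm
  have hS := coe_seqInd_bot hF
  rw [set_eq]
  by_cases he : Nat.card K = K.index + 1
  · left
    have hKnil : Group.IsNilpotent K :=
      (Group.isNilpotent_congr (Subgroup.subgroupOfEquivOfLe hlt.le)).2 hnil
    obtain ⟨hone, p, hp, hpd, hel⟩ := single_of_card_eq hF hKnil hKbot he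
    refine ⟨?_, hcardK.symm.trans he, p, hp, hcardK ▸ hpd, ⟨⟨fun a b => Subtype.ext ?_⟩⟩,
      fun a ha => ?_⟩
    · rw [← hone, ← Nat.card_eq_finsetCard]
      refine Nat.card_congr (Equiv.subtypeEquivRight fun χ => ?_)
      rw [← mem_coe, hS, Set.mem_setOf_eq]
      simp [Subgroup.mem_subgroupOf, hKdef]
    · have := hel.1.1.comm ⟨⟨a, hlt.le a.2⟩, a.2⟩ ⟨⟨b, hlt.le b.2⟩, b.2⟩
      exact congrArg (fun k : K => ((k : N) : G)) this
    · have := hel.2 ⟨a, hlt.le ha⟩ ha
      exact congrArg Subtype.val this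
  obtain ⟨hτ, hτ1⟩ := isometry_indFun hN hTI
  rw [hS] at hτ hτ1
  rcases Cfsg.Agent.S1535.result K hKbot hKtop hF he (fun α => Cfsg.indFun N α) hτ hτ1 with
    hcoh | ⟨p, hp, ⟨m, hm⟩, hna, hle⟩
  · exact Or.inr (Or.inr hcoh)
  right
  rcases hp.eq_two_or_odd' with rfl | hpo
  · refine Or.inl ⟨2, hp, rfl, ⟨m, hcardK ▸ hm⟩, ?_⟩
    refine le_of_eq_of_le ?_ hle
    show ⁅H, H⁆.relIndex H = ⁅K, K⁆.relIndex K
    have e1 : K.map N.subtype = H := Subgroup.map_subgroupOf_eq_of_le hlt.le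
    conv_lhs => rw [← e1, ← Subgroup.map_commutator]
    exact Subgroup.relIndex_map_map_of_injective _ _ N.subtype_injective
  · refine Or.inr ?_
    rw [← hS, coe_seqInd]
    have hodd : Odd (Nat.card N) := odd_card_of_not_comm hF hna (hm ▸ hpo.pow)
    exact sibley hN hnil hH1 hlt hTI hodd hC

end TI

end Cfsg.Agent.OddOrder.PF6
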