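import Cfsg.Agent.OddOrder.PF6.FrobKernel
import Cfsg.Agent.S1531

/-!
# Joining `S ∖ S(Z)` with the members of degree `[L : K]` (Peterfalvi 6.8)
-/

set_option autoImplicit false

namespace Cfsg.Agent.OddOrder.PF6

open Cfsg.Agent Cfsg.Agent.CharInduce Cfsg.Agent.CharBasic Finset
open scoped ComplexConjugate

universe u v

section Flip

variable {L : Type u} [Group L] [Fintype L] {G : Type v} [Group G] [Fintype G]

omit [Fintype L] in
theorem gen_of_mem_zspan {T : Set (L → ℂ)} (hT : ∀ χ ∈ T, Cfsg.IsCharacter L χ) {α : L → ℂ}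
    (h : α ∈ Cfsg.zspan T) : Cfsg.IsGeneralizedCharacter L α :=
  Submodule.span_induction (p := fun x _ => Cfsg.IsGeneralizedCharacter L x)
    (fun x hx => H43.gen_of_char (hT x hx)) H43.gen_zero (fun _ _ _ _ => H43.gen_add)
    (fun n _ _ hx => H43.gen_zsmul hx n) h

theorem gen_conjFun {θ : G → ℂ} (h : Cfsg.IsGeneralizedCharacter G θ) :
    Cfsg.IsGeneralizedCharacter G (Cfsg.conjFun θ) := by
  obtain ⟨a, b, ha, hb, rfl⟩ := h
  refine ⟨_, _, IsChar.conj ha, IsChar.conj hb, ?_⟩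
  funext g
  simp [Cfsg.conjFun]

/-- On a conjugate pair the image of an isometry may be replaced by its negated twist. -/
theorem exists_flip {χ : L → ℂ} (hχ : Cfsg.IsCharacter L χ) (hd : χ 1 ≠ 0)
    (hne : Cfsg.conjFun χ ≠ χ) {α σ : (L → ℂ) → (G → ℂ)}
    (hσ : Cfsg.IsLinearIsometryOn (Cfsg.zspan {χ, Cfsg.conjFun χ}) σ)
    (hagr : ∀ θ ∈ Cfsg.zspanOn {χ, Cfsg.conjFun χ} ({1}ᶜ : Set L), σ θ = α θ) :
    ∃ σ' : (L → ℂ) → (G → ℂ), Cfsg.IsLinearIsometryOn (Cfsg.zspan {χ, Cfsg.conjFun χ}) σ' ∧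
      (∀ θ ∈ Cfsg.zspanOn {χ, Cfsg.conjFun χ} ({1}ᶜ : Set L), σ' θ = α θ) ∧
      σ' χ = - σ (Cfsg.conjFun χ) := by
  set T : Set (L → ℂ) := {χ, Cfsg.conjFun χ} with hT
  have hTc : ∀ φ ∈ T, Cfsg.IsCharacter L φ := by
    rintro φ (rfl | rfl)
    · exact hχ
    · exact IsChar.conj hχ
  have hconj : ∀ θ ∈ Cfsg.zspan T, Cfsg.conjFun θ ∈ Cfsg.zspan T := fun θ hθ => by
    obtain ⟨a, b, rfl⟩ := Submodule.mem_span_pair.1 hθ
    rw [show Cfsg.conjFun (a • χ + b • Cfsg.conjFun χ) = b • χ + a • Cfsg.conjFun χ by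
      funext g
      simp [Cfsg.conjFun, add_comm]]
    exact Submodule.mem_span_pair.2 ⟨b, a, rfl⟩
  refine ⟨fun θ => - σ (Cfsg.conjFun θ), ⟨fun a ha b hb => ?_, fun a ha n => ?_,
    fun a ha b hb => ?_, fun a ha => H43.gen_neg (hσ.2.2.2 _ (hconj a ha))⟩, fun θ hθ => ?_, rfl⟩
  · show -σ _ = _
    rw [show Cfsg.conjFun (a + b) = Cfsg.conjFun a + Cfsg.conjFun b by funext g; simp [Cfsg.conjFun],
      hσ.1 _ (hconj a ha) _ (hconj b hb), neg_add]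
  · show -σ _ = _
    rw [show Cfsg.conjFun (n • a) = n • Cfsg.conjFun a by funext g; simp [Cfsg.conjFun],
      hσ.2.1 _ (hconj a ha), smul_neg]
  · show classInner (-σ _) (-σ _) = _
    rw [classInner_neg_left, classInner_neg_right, neg_neg,
      hσ.2.2.1 _ (hconj a ha) _ (hconj b hb), H43.classInner_conjFun]
    obtain ⟨k, hk⟩ := H43.gen_inner_int (gen_of_mem_zspan hTc ha) (gen_of_mem_zspan hTc hb)
    rw [hk, map_intCast]
  · obtain ⟨a, b, rfl⟩ := Submodule.mem_span_pair.1 hθ.1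
    have h0 := (H43.zspanOn_compl_one.1 hθ).2
    obtain ⟨d, hd'⟩ := CharBasic.IsChar.exists_degree hχ
    simp [Cfsg.conjFun, hd'] at h0
    have hd0 : (d : ℂ) ≠ 0 := hd' ▸ hd
    have hab : (a : ℂ) = -(b : ℂ) := by
      have : ((a : ℂ) + b) * d = 0 := by linear_combination h0
      exact eq_neg_of_add_eq_zero_left ((mul_eq_zero.1 this).resolve_right hd0)
    obtain rfl : a = -b := by exact_mod_cast hab
    show -σ _ = _
    rw [← hagr _ hθ]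
    have e : Cfsg.conjFun ((-b) • χ + b • Cfsg.conjFun χ)
        = (-1 : ℤ) • ((-b) • χ + b • Cfsg.conjFun χ) := by
      funext g
      simp [Cfsg.conjFun, add_comm]
    rw [e, hσ.2.1 _ hθ.1, neg_one_smul, neg_neg]

end Flip

section Glue

variable {G : Type u} [Group G] [Fintype G] {N : Subgroup G} [Fintype N] {K : Subgroup N}
  [hK : K.Normal]

/-- Peterfalvi (6.8), the main step for a Frobenius group. -/
theorem coherent_glue
    (hτ : Cfsg.IsLinearIsometryOn (Cfsg.zspanOn (↑(seqInd K ⊥) : Set (N → ℂ)) {1}ᶜ)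
      (Cfsg.indFun N))
    (hτ1 : ∀ α ∈ Cfsg.zspanOn (↑(seqInd K ⊥) : Set (N → ℂ)) {1}ᶜ, Cfsg.indFun N α 1 = 0)
    (Z C : Subgroup N) [Z.Normal] [C.Normal] (hZC : Z ≤ C) (hZK : Z ≤ K)
    (hX : Cfsg.IsCoherent (↑(outside K Z) : Set (N → ℂ)) {1}ᶜ (Cfsg.indFun N))
    (hY : Cfsg.IsCoherent (↑(seqInd K C) : Set (N → ℂ)) {1}ᶜ (Cfsg.indFun N))
    (hXne : (outside K Z).Nonempty) (hYne : (seqInd K C).Nonempty)
    (hYdeg : ∀ η ∈ seqInd K C, η 1 = (K.index : ℂ))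
    (hdiv : ∀ θ : G → ℂ, Cfsg.IsIrrCharacter G θ →
      (∀ z ∈ Z, ∀ z' ∈ Z, z ≠ 1 → z' ≠ 1 → θ (z : G) = θ (z' : G)) → ∀ z ∈ Z, z ≠ 1 →
      ∃ n d : ℤ, θ (z : G) = n ∧ θ 1 = d ∧ (Nat.card K : ℤ) ∣ d - n)
    (hdpow : ∀ ξ ∈ outside K Z, ∃ b : ℕ, 0 < b ∧ ξ 1 = ((K.index * b : ℕ) : ℂ))
    (hirr : ∀ φ ∈ (↑(outside K Z) : Set (N → ℂ)) ∪ ↑(seqInd K C), Cfsg.IsIrrCharacter N φ)
    (hne : ∀ φ ∈ (↑(outside K Z) : Set (N → ℂ)) ∪ ↑(seqInd K C), Cfsg.conjFun φ ≠ φ)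
    (hZ1 : Z ≠ ⊥) :
    Cfsg.IsCoherent ((↑(outside K Z) : Set (N → ℂ)) ∪ ↑(seqInd K C)) {1}ᶜ (Cfsg.indFun N) := by
  classical
  set X := outside K Z with hXdef
  set Y := seqInd K C with hYdef
  set e := K.index with hedef
  have he0 : 0 < e := Nat.pos_of_ne_zero Subgroup.FiniteIndex.index_ne_zero
  have heC : (e : ℂ) ≠ 0 := by exact_mod_cast he0.ne'
  set S₀ := X ∪ Y with hS₀
  have hXS : X ⊆ S₀ := subset_union_left
  have hYS : Y ⊆ S₀ := subset_union_right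
  have hmem : ∀ {φ : N → ℂ}, φ ∈ S₀ → φ ∈ (↑X : Set (N → ℂ)) ∪ ↑Y := fun {φ} h => by
    rw [← coe_union]
    exact h
  replace hirr : ∀ φ ∈ S₀, Cfsg.IsIrrCharacter N φ := fun φ h => hirr φ (hmem h)
  replace hne : ∀ φ ∈ S₀, Cfsg.conjFun φ ≠ φ := fun φ h => hne φ (hmem h)
  have hsub₀ : Cfsg.zspanOn (↑S₀ : Set (N → ℂ)) ({1}ᶜ : Set N)
      ⊆ Cfsg.zspanOn (↑(seqInd K ⊥) : Set (N → ℂ)) ({1}ᶜ : Set N) := fun α h =>
    ⟨H43.zspan_mono (coe_subset.2 (union_subset (fun φ h => (mem_outside.1 h).1)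
      (seqInd_subset_bot K C))) h.1, h.2⟩
  replace hτ : Cfsg.IsLinearIsometryOn (Cfsg.zspanOn (↑S₀ : Set (N → ℂ)) {1}ᶜ) (Cfsg.indFun N) :=
    ⟨fun a ha b hb => hτ.1 a (hsub₀ ha) b (hsub₀ hb), fun a ha n => hτ.2.1 a (hsub₀ ha) n,
      fun a ha b hb => hτ.2.2.1 a (hsub₀ ha) b (hsub₀ hb), fun a ha => hτ.2.2.2 a (hsub₀ ha)⟩
  replace hτ1 : ∀ α ∈ Cfsg.zspanOn (↑S₀ : Set (N → ℂ)) {1}ᶜ, Cfsg.indFun N α 1 = 0 :=
    fun α h => hτ1 α (hsub₀ h)
  have hdisj : Disjoint (↑X : Set (N → ℂ)) ↑Y := Set.disjoint_left.2 fun φ h h' =>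
    (mem_outside.1 h).2 (seqInd_mono K hZC h')
  have hXc : ∀ φ ∈ X, Cfsg.conjFun φ ∈ X := fun φ h => outside_conj h
  have hYc : ∀ φ ∈ Y, Cfsg.conjFun φ ∈ Y := fun φ h => seqInd_conj K h
  obtain ⟨χ₀, hχ₀⟩ := hXne
  obtain ⟨η₀, hη₀⟩ := hYne
  have hX2 : ∃ a ∈ (↑X : Set (N → ℂ)), ∃ b ∈ (↑X : Set (N → ℂ)), a ≠ b :=
    ⟨χ₀, hχ₀, _, hXc χ₀ hχ₀, (hne _ (hXS hχ₀)).symm⟩
  have hY2 : ∃ a ∈ (↑Y : Set (N → ℂ)), ∃ b ∈ (↑Y : Set (N → ℂ)), a ≠ b :=
    ⟨η₀, hη₀, _, hYc η₀ hη₀, (hne _ (hYS hη₀)).symm⟩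
  obtain ⟨-, σ, hσ, hσα⟩ := hX
  obtain ⟨-, τ₁, hτ₁, hτα⟩ := hY
  have hcross : ∀ {σ τ₁ : (N → ℂ) → (G → ℂ)}, Cfsg.IsLinearIsometryOn (Cfsg.zspan (↑X : Set (N → ℂ))) σ →
      (∀ θ ∈ Cfsg.zspanOn (↑X : Set (N → ℂ)) {1}ᶜ, σ θ = Cfsg.indFun N θ) →
      Cfsg.IsLinearIsometryOn (Cfsg.zspan (↑Y : Set (N → ℂ))) τ₁ →
      (∀ θ ∈ Cfsg.zspanOn (↑Y : Set (N → ℂ)) {1}ᶜ, τ₁ θ = Cfsg.indFun N θ) →
      (∀ χ ∈ X, ∀ η ∈ Y, classInner (σ χ) (τ₁ η) = 0) ∧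
      ((∃ χ ∈ (↑X : Set (N → ℂ)), ∃ η ∈ (↑Y : Set (N → ℂ)), Cfsg.indFun N (χ 1 • η - η 1 • χ)
          = χ 1 • τ₁ η - η 1 • σ χ) →
        Cfsg.IsCoherent ((↑X : Set (N → ℂ)) ∪ ↑Y) {1}ᶜ (Cfsg.indFun N)) := fun h1 h2 h3 h4 =>
    Cfsg.Agent.S1531.result N (↑(S₀) : Set (N → ℂ)) ↑X ↑Y hirr (coe_subset.2 hXS)
      (coe_subset.2 hYS) hdisj hX2 hY2 _ hτ hτ1 _ _ h1 h2 h3 h4
  obtain ⟨hXY, -⟩ := hcross hσ hσα hτ₁ hτα
  choose dd hdd0 hdd using hdpow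
  let b : (N → ℂ) → ℕ := fun ξ => if h : ξ ∈ X then dd ξ h else 0
  have hb : ∀ ξ ∈ X, 0 < b ξ ∧ ξ 1 = ((e * b ξ : ℕ) : ℂ) := fun ξ h => by
    simp only [b, dif_pos h]
    exact ⟨hdd0 ξ h, hdd ξ h⟩
  set a := b χ₀ with hadef
  obtain ⟨ha0, hχ₀d⟩ := hb χ₀ hχ₀
  have hη₀d := hYdeg η₀ hη₀
  have horth : ∀ φ ∈ S₀, ∀ ψ ∈ S₀,
      classInner φ ψ = if φ = ψ then 1 else 0 := fun φ h ψ h' => by
    rw [CharBasic.classInner_irr (hirr φ h) (hirr ψ h')]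
  have hXY0 : ∀ φ ∈ X, ∀ ψ ∈ Y, classInner φ ψ = 0 ∧ classInner ψ φ = 0 := fun φ h ψ h' => by
    have hne' : φ ≠ ψ := fun e => Set.disjoint_left.1 hdisj h (e ▸ h')
    exact ⟨by rw [horth φ (hXS h) ψ (hYS h'), if_neg hne'],
      by rw [horth ψ (hYS h') φ (hXS h), if_neg hne'.symm]⟩
  set β := χ₀ - (a : ℤ) • η₀ with hβdef
  have hβmem : β ∈ Cfsg.zspanOn (↑(S₀) : Set (N → ℂ)) {1}ᶜ := by
    rw [H43.zspanOn_compl_one]
    refine ⟨H43.zspan_sub (H43.zspan_mem (hXS hχ₀)) (H43.zspan_zsmul (H43.zspan_mem (hYS hη₀)) _), ?_⟩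
    simp [hβdef, hχ₀d, hη₀d]
    ring
  set v := Cfsg.indFun N β with hvdef
  have hvgen : Cfsg.IsGeneralizedCharacter G v := H43.iso_gen hτ hβmem
  have hvv : classInner v v = 1 + (a : ℂ) ^ 2 := by
    rw [hvdef, H43.iso_inner hτ hβmem hβmem, hβdef]
    simp only [classInner_sub_left, classInner_sub_right, H43.classInner_zsmul_left,
      H43.classInner_zsmul_right, (hXY0 χ₀ hχ₀ η₀ hη₀).1, (hXY0 χ₀ hχ₀ η₀ hη₀).2,
      horth χ₀ (hXS hχ₀) χ₀ (hXS hχ₀), horth η₀ (hYS hη₀) η₀ (hYS hη₀), if_true, Int.cast_natCast]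
    ring
  have hmono : ∀ {T : Finset (N → ℂ)}, T ⊆ S₀ → ∀ {α}, α ∈ Cfsg.zspanOn (↑T : Set (N → ℂ)) ({1}ᶜ : Set N) →
      α ∈ Cfsg.zspanOn (↑(S₀) : Set (N → ℂ)) ({1}ᶜ : Set N) := fun hT _ h =>
    ⟨H43.zspan_mono (coe_subset.2 hT) h.1, h.2⟩
  have hXpair : ∀ ξ ∈ X, (a : ℤ) • ξ - (b ξ : ℤ) • χ₀ ∈ Cfsg.zspanOn (↑X : Set (N → ℂ)) {1}ᶜ := by
    intro ξ hξ
    rw [H43.zspanOn_compl_one]
    refine ⟨H43.zspan_sub (H43.zspan_zsmul (H43.zspan_mem hξ) _)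
      (H43.zspan_zsmul (H43.zspan_mem hχ₀) _), ?_⟩
    simp [(hb ξ hξ).2, hχ₀d]
    ring
  have hYpair : ∀ η ∈ Y, η - η₀ ∈ Cfsg.zspanOn (↑Y : Set (N → ℂ)) {1}ᶜ := by
    intro η hη
    rw [H43.zspanOn_compl_one]
    exact ⟨H43.zspan_sub (H43.zspan_mem hη) (H43.zspan_mem hη₀), by simp [hYdeg η hη, hη₀d]⟩
  have hσimg : ∀ ξ ∈ X, Cfsg.indFun N ((a : ℤ) • ξ - (b ξ : ℤ) • χ₀)
      = (a : ℤ) • σ ξ - (b ξ : ℤ) • σ χ₀ := fun ξ hξ => by
    have m1 := H43.zspan_zsmul (H43.zspan_mem (S := (↑X : Set (N → ℂ))) hξ) (a : ℤ)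
    have m2 := H43.zspan_zsmul (H43.zspan_mem (S := (↑X : Set (N → ℂ))) hχ₀) (b ξ : ℤ)
    rw [← hσα _ (hXpair ξ hξ), H43.iso_sub hσ m1 m2 (hXpair ξ hξ).1,
      hσ.2.1 _ (H43.zspan_mem hξ), hσ.2.1 _ (H43.zspan_mem hχ₀)]
  have hτimg : ∀ η ∈ Y, Cfsg.indFun N (η - η₀) = τ₁ η - τ₁ η₀ := fun η hη => by
    rw [← hτα _ (hYpair η hη), H43.iso_sub hτ₁ (H43.zspan_mem hη) (H43.zspan_mem hη₀)
      (hYpair η hη).1]
  -- inner products of `v` with the images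
  obtain ⟨x, hx⟩ : ∃ x : ℤ, classInner v (σ χ₀) = x + 1 := by
    obtain ⟨n, hn⟩ := H43.gen_inner_int hvgen (H43.iso_gen hσ (H43.zspan_mem hχ₀))
    exact ⟨n - 1, by rw [hn]; push_cast; ring⟩
  obtain ⟨y, hy⟩ : ∃ y : ℤ, classInner v (τ₁ η₀) = y - a := by
    obtain ⟨n, hn⟩ := H43.gen_inner_int hvgen (H43.iso_gen hτ₁ (H43.zspan_mem hη₀))
    exact ⟨n + a, by rw [hn]; push_cast; ring⟩
  have hvX : ∀ ξ ∈ X, (a : ℂ) * classInner v (σ ξ)
      = (if ξ = χ₀ then (a : ℂ) else 0) + (b ξ : ℂ) * x := by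
    intro ξ hξ
    have h := H43.iso_inner hτ hβmem (hmono hXS (hXpair ξ hξ))
    rw [← hvdef, hσimg ξ hξ, hβdef] at h
    simp only [classInner_sub_left, classInner_sub_right, H43.classInner_zsmul_left,
      H43.classInner_zsmul_right, hx, horth χ₀ (hXS hχ₀) ξ (hXS hξ), horth χ₀ (hXS hχ₀) χ₀ (hXS hχ₀),
      (hXY0 ξ hξ η₀ hη₀).2, (hXY0 χ₀ hχ₀ η₀ hη₀).2, if_true, eq_comm (a := χ₀) (b := ξ),
      Int.cast_natCast, mul_zero, sub_zero] at h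
    split_ifs at h ⊢ with hc
    · linear_combination h
    · linear_combination h
  have hvY : ∀ η ∈ Y, classInner v (τ₁ η) = (y : ℂ) - if η = η₀ then (a : ℂ) else 0 := by
    intro η hη
    have h := H43.iso_inner hτ hβmem (hmono hYS (hYpair η hη))
    rw [← hvdef, hτimg η hη, hβdef] at h
    simp only [classInner_sub_left, classInner_sub_right, H43.classInner_zsmul_left, hy,
      (hXY0 χ₀ hχ₀ η hη).1, (hXY0 χ₀ hχ₀ η₀ hη₀).1, horth η₀ (hYS hη₀) η (hYS hη),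
      horth η₀ (hYS hη₀) η₀ (hYS hη₀), if_true, eq_comm (a := η₀) (b := η),
      Int.cast_natCast, sub_zero] at h
    split_ifs at h ⊢ with hc
    · linear_combination h
    · linear_combination h
  -- `a` divides `y`
  have hay : (a : ℤ) ∣ y := by
    set θ := τ₁ η₀ with hθdef
    have hθgen : Cfsg.IsGeneralizedCharacter G θ := H43.iso_gen hτ₁ (H43.zspan_mem hη₀)
    have hθsigned : H43.Signed θ := H43.iso_signed hτ₁ (H43.zspan_mem hη₀)
      (by rw [horth η₀ (hYS hη₀) η₀ (hYS hη₀), if_pos rfl])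
    have hθcl := H43.gen_isClassFunction hθgen
    set f : N → ℂ := fun k => θ k with hf
    have hfgen : Cfsg.IsGeneralizedCharacter N f := CharInduce.IsGen.comp hθgen N.subtype
    have hfc : Cfsg.IsClassFunction N f := H43.gen_isClassFunction hfgen
    have hrec : ∀ α : N → ℂ, classInner α f = classInner (Cfsg.indFun N α) θ := fun α =>
      (classInner_indFun_left N α θ hθcl).symm
    obtain ⟨c₁, hc₁⟩ := H43.gen_inner_int (H43.gen_of_irr (hirr χ₀ (hXS hχ₀))) hfgen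
    obtain ⟨c₀, hc₀⟩ := H43.gen_inner_int (H43.gen_of_irr (hirr η₀ (hYS hη₀))) hfgen
    have hrelX : ∀ ξ ∈ X, (a : ℂ) * classInner ξ f = (b ξ : ℂ) * c₁ := fun ξ hξ => by
      have h := hrec ((a : ℤ) • ξ - (b ξ : ℤ) • χ₀)
      rw [hσimg ξ hξ] at h
      simp only [classInner_sub_left, H43.classInner_zsmul_left, hc₁, hθdef,
        hXY ξ hξ η₀ hη₀, hXY χ₀ hχ₀ η₀ hη₀, mul_zero, sub_zero, Int.cast_natCast] at h
      exact sub_eq_zero.1 h
    have hrel0 : (c₁ : ℤ) = a * (c₀ - 1) + y := by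
      have h := hrec β
      rw [← hvdef, hθdef, hy, hβdef] at h
      simp only [classInner_sub_left, H43.classInner_zsmul_left, hc₁, hc₀] at h
      have : (c₁ : ℂ) = ((a * (c₀ - 1) + y : ℤ) : ℂ) := by
        push_cast at h ⊢
        linear_combination h
      exact_mod_cast this
    have hval : ∀ z ∈ Z, z ≠ 1 →
        (a : ℂ) * (θ (z : G) - θ 1) = -((c₁ : ℂ) * (Nat.card K : ℂ)) := by
      intro z hz hz1
      have hX' : (↑X : Set (N → ℂ)) = {χ | Cfsg.IsIrrCharacter N χ ∧ ∃ z ∈ Z, χ z ≠ χ 1} :=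
        outside_eq hZK fun χ h => hirr χ (hXS h)
      let I : Finset (IrrCharacter N) := univ.filter fun χ => (χ : N → ℂ) ∈ X
      have hIsum : ∀ F : (N → ℂ) → ℂ, ∑ χ ∈ I, F (χ : N → ℂ) = ∑ ξ ∈ X, F ξ := fun F =>
        sum_bij (fun χ _ => (χ : N → ℂ)) (fun χ h => (mem_filter.1 h).2)
          (fun _ _ _ _ h => Subtype.ext h)
          (fun ξ h => ⟨⟨ξ, hirr ξ (hXS h)⟩, mem_filter.2 ⟨mem_univ _, h⟩, rfl⟩) fun _ _ => rfl
      have htriv : ∀ χ : IrrCharacter N, χ ∉ I → (χ : N → ℂ) z = (χ : N → ℂ) 1 := fun χ h => by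
        by_contra hne'
        refine h (mem_filter.2 ⟨mem_univ _, mem_coe.1 ?_⟩)
        rw [hX']
        exact ⟨χ.2, z, hz, hne'⟩
      have hsum : ∑ χ ∈ I, (χ : N → ℂ) 1 * ((χ : N → ℂ) z - (χ : N → ℂ) 1) = -(Nat.card N : ℂ) := by
        rw [sum_subset (subset_univ I) fun χ _ h => by rw [htriv χ h, sub_self, mul_zero]]
        simp only [mul_sub, sum_sub_distrib, sum_degree_mul_apply, if_neg hz1, if_true, zero_sub]
      rw [hIsum fun ξ => ξ 1 * (ξ z - ξ 1)] at hsum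
      have hexp := classFunction_expansion hfc
      have e1 := congrFun hexp z
      have e2 := congrFun hexp 1
      simp only [Finset.sum_apply, Pi.smul_apply, smul_eq_mul] at e1 e2
      have hdiff : f z - f 1 = ∑ ξ ∈ X, classInner f ξ * (ξ z - ξ 1) := by
        rw [← hIsum fun ξ => classInner f ξ * (ξ z - ξ 1), e1, e2, ← sum_sub_distrib,
          sum_subset (subset_univ I) fun χ _ h => by rw [htriv χ h, sub_self, mul_zero]]
        exact sum_congr rfl fun χ _ => by ring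
      have h1 : (e : ℂ) * ((a : ℂ) * (f z - f 1))
          = (c₁ : ℂ) * ∑ ξ ∈ X, ξ 1 * (ξ z - ξ 1) := by
        rw [hdiff, mul_sum, mul_sum, mul_sum]
        refine sum_congr rfl fun ξ hξ => ?_
        rw [← H43.gen_inner_symm (H43.gen_of_irr (hirr ξ (hXS hξ))) hfgen]
        have hr := hrelX ξ hξ
        rw [(hb ξ hξ).2]
        push_cast
        linear_combination ((e : ℂ) * (ξ z - (e : ℂ) * (b ξ : ℂ))) * hr
      rw [hsum, ← K.index_mul_card, Nat.cast_mul] at h1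
      refine mul_left_cancel₀ heC ?_
      have hf1 : f 1 = θ 1 := rfl
      rw [hf1] at h1
      linear_combination h1
    have hconst : ∀ z ∈ Z, ∀ z' ∈ Z, z ≠ 1 → z' ≠ 1 → θ (z : G) = θ (z' : G) := fun z hz z' hz' h h' => by
      have := (hval z hz h).trans (hval z' hz' h').symm
      exact sub_left_inj.1 (mul_left_cancel₀ (by exact_mod_cast ha0.ne') this)
    obtain ⟨z, hz, hz1⟩ : ∃ z ∈ Z, z ≠ (1 : N) := by
      by_contra hc
      push Not at hc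
      exact hZ1 ((Subgroup.eq_bot_iff_forall Z).2 hc)
    obtain ⟨n, d, hn, hd, hdvd⟩ :
        ∃ n d : ℤ, θ (z : G) = n ∧ θ 1 = d ∧ (Nat.card K : ℤ) ∣ d - n := by
      rcases hθsigned with h | h
      · exact hdiv θ h hconst z hz hz1
      · obtain ⟨n, d, hn, hd, hdvd⟩ := hdiv (-θ) h
          (fun w hw w' hw' h1 h1' => by simp [hconst w hw w' hw' h1 h1']) z hz hz1
        simp only [Pi.neg_apply] at hn hd
        exact ⟨-n, -d, by rw [Int.cast_neg, ← hn, neg_neg], by rw [Int.cast_neg, ← hd, neg_neg],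
          by rw [show -d - -n = -(d - n) by ring]; exact dvd_neg.2 hdvd⟩
    obtain ⟨k, hk⟩ := hdvd
    have h1 : (a : ℤ) * (d - n) = c₁ * Nat.card K := by
      have h := hval z hz hz1
      rw [hn, hd] at h
      have : (((a : ℤ) * (d - n) : ℤ) : ℂ) = ((c₁ * Nat.card K : ℤ) : ℂ) := by
        push_cast
        linear_combination -h
      exact_mod_cast this
    have h2 : c₁ = (a : ℤ) * k := by
      rw [hk] at h1
      have hK0 : (Nat.card K : ℤ) ≠ 0 := by exact_mod_cast Nat.card_pos.ne'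
      exact mul_left_cancel₀ hK0 (by linear_combination -h1)
    exact ⟨k - (c₀ - 1), by linear_combination h2 - hrel0⟩
  obtain ⟨y', rfl⟩ := hay
  -- Bessel
  set w := (∑ ξ ∈ X, classInner v (σ ξ) • σ ξ) + ∑ η ∈ Y, classInner v (τ₁ η) • τ₁ η with hwdef
  have hgen_σ : ∀ ξ ∈ X, Cfsg.IsGeneralizedCharacter G (σ ξ) := fun ξ h =>
    H43.iso_gen hσ (H43.zspan_mem h)
  have hgen_τ : ∀ η ∈ Y, Cfsg.IsGeneralizedCharacter G (τ₁ η) := fun η h =>
    H43.iso_gen hτ₁ (H43.zspan_mem h)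
  have hYX : ∀ χ ∈ X, ∀ η ∈ Y, classInner (τ₁ η) (σ χ) = 0 := fun χ h η h' => by
    rw [← classInner_conj_symm, hXY χ h η h', map_zero]
  have hwσ : ∀ ξ ∈ X, classInner w (σ ξ) = classInner v (σ ξ) := fun ξ hξ => by
    rw [hwdef, classInner_add_left, classInner_sum_left, classInner_sum_left,
      sum_eq_zero (s := Y) fun η h => by rw [classInner_smul_left, hYX ξ hξ η h, mul_zero],
      add_zero, sum_eq_single ξ (fun ζ h hne' => by
        rw [classInner_smul_left, H43.iso_inner hσ (H43.zspan_mem h) (H43.zspan_mem hξ),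
          horth ζ (hXS h) ξ (hXS hξ), if_neg hne', mul_zero]) (fun h => absurd hξ h),
      classInner_smul_left, H43.iso_inner hσ (H43.zspan_mem hξ) (H43.zspan_mem hξ),
      horth ξ (hXS hξ) ξ (hXS hξ), if_pos rfl, mul_one]
  have hwτ : ∀ η ∈ Y, classInner w (τ₁ η) = classInner v (τ₁ η) := fun η hη => by
    rw [hwdef, classInner_add_left, classInner_sum_left, classInner_sum_left,
      sum_eq_zero (s := X) fun ξ h => by rw [classInner_smul_left, hXY ξ h η hη, mul_zero],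
      zero_add, sum_eq_single η (fun ζ h hne' => by
        rw [classInner_smul_left, H43.iso_inner hτ₁ (H43.zspan_mem h) (H43.zspan_mem hη),
          horth ζ (hYS h) η (hYS hη), if_neg hne', mul_zero]) (fun h => absurd hη h),
      classInner_smul_left, H43.iso_inner hτ₁ (H43.zspan_mem hη) (H43.zspan_mem hη),
      horth η (hYS hη) η (hYS hη), if_pos rfl, mul_one]
  choose g hg using fun ξ : {ξ // ξ ∈ X} => H43.gen_inner_int hvgen (hgen_σ ξ.1 ξ.2)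
  let cX : (N → ℂ) → ℤ := fun ξ => if h : ξ ∈ X then g ⟨ξ, h⟩ else 0
  have hcX : ∀ ξ ∈ X, classInner v (σ ξ) = cX ξ := fun ξ h => by
    simp only [cX, dif_pos h]; exact hg ⟨ξ, h⟩
  let cY : (N → ℂ) → ℤ := fun η => (a : ℤ) * y' - if η = η₀ then (a : ℤ) else 0
  have hcY : ∀ η ∈ Y, classInner v (τ₁ η) = cY η := fun η h => by
    rw [hvY η h]
    simp only [cY]
    push_cast
    rfl
  have hle : ∑ ξ ∈ X, cX ξ ^ 2 + ∑ η ∈ Y, cY η ^ 2 ≤ 1 + (a : ℤ) ^ 2 := by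
    have hvw : classInner v w = ((∑ ξ ∈ X, cX ξ ^ 2 + ∑ η ∈ Y, cY η ^ 2 : ℤ) : ℂ) := by
      rw [hwdef, classInner_add_right, classInner_sum_right, classInner_sum_right]
      push_cast
      congr 1
      · exact sum_congr rfl fun ξ h => by rw [classInner_smul_right, hcX ξ h, map_intCast, sq]
      · exact sum_congr rfl fun η h => by rw [classInner_smul_right, hcY η h, map_intCast, sq]
    have hww : classInner w w = ((∑ ξ ∈ X, cX ξ ^ 2 + ∑ η ∈ Y, cY η ^ 2 : ℤ) : ℂ) := by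
      rw [← hvw]
      nth_rewrite 2 [hwdef]
      conv_rhs => rw [hwdef]
      simp only [classInner_add_right, classInner_sum_right, classInner_smul_right]
      congr 1
      · exact sum_congr rfl fun ξ h => by rw [hwσ ξ h]
      · exact sum_congr rfl fun η h => by rw [hwτ η h]
    have hnn := H43.classInner_self_re_nonneg (v - w)
    rw [classInner_sub_left, classInner_sub_right, classInner_sub_right, hvv, hvw, hww,
      ← classInner_conj_symm v w, hvw, map_intCast] at hnn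
    have h2 : (0 : ℝ) ≤ ((1 + (a : ℤ) ^ 2 - (∑ ξ ∈ X, cX ξ ^ 2 + ∑ η ∈ Y, cY η ^ 2) : ℤ) : ℝ) := by
      refine hnn.trans_eq ?_
      rw [← Complex.intCast_re]
      congr 1
      push_cast
      ring
    have h3 : (0 : ℤ) ≤ 1 + (a : ℤ) ^ 2 - (∑ ξ ∈ X, cX ξ ^ 2 + ∑ η ∈ Y, cY η ^ 2) := by
      exact_mod_cast h2
    linarith
  have haX : ∀ ξ ∈ X, (a : ℤ) * cX ξ = (if ξ = χ₀ then (a : ℤ) else 0) + (b ξ : ℤ) * x := fun ξ h => by
    have h' := hvX ξ h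
    rw [hcX ξ h] at h'
    split_ifs at h' ⊢ <;> exact_mod_cast h'
  set B := ∑ ξ ∈ X, (b ξ : ℤ) ^ 2 with hBdef
  set nY : ℤ := (Y.card : ℤ) with hnY
  have hsX : (a : ℤ) ^ 2 * ∑ ξ ∈ X, cX ξ ^ 2 = (a : ℤ) ^ 2 + 2 * a ^ 2 * x + x ^ 2 * B := by
    rw [mul_sum, sum_congr rfl fun ξ h => show (a : ℤ) ^ 2 * cX ξ ^ 2
        = (if ξ = χ₀ then (a : ℤ) ^ 2 + 2 * a * b ξ * x else 0) + x ^ 2 * (b ξ : ℤ) ^ 2 by
      rw [← mul_pow, haX ξ h]; split_ifs <;> ring, sum_add_distrib, sum_ite_eq', if_pos hχ₀,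
      ← mul_sum, ← hadef, ← hBdef]
    ring
  have hsY : ∑ η ∈ Y, cY η ^ 2 = nY * (a * y') ^ 2 - 2 * a * (a * y') + (a : ℤ) ^ 2 := by
    rw [sum_congr rfl fun η _ => show cY η ^ 2
        = ((a : ℤ) * y') ^ 2 + if η = η₀ then (a : ℤ) ^ 2 - 2 * a * (a * y') else 0 by
      simp only [cY]; split_ifs <;> ring, sum_add_distrib, sum_ite_eq', if_pos hη₀, sum_const,
      nsmul_eq_mul]
    ring
  have hB2 : 2 * (a : ℤ) ^ 2 ≤ B := by
    have h := sum_le_sum_of_subset_of_nonneg (f := fun ξ => (b ξ : ℤ) ^ 2)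
      (show ({χ₀, Cfsg.conjFun χ₀} : Finset (N → ℂ)) ⊆ X from
        insert_subset hχ₀ (singleton_subset_iff.2 (hXc χ₀ hχ₀)))
      fun _ _ _ => by positivity
    rw [sum_pair (hne χ₀ (hXS hχ₀)).symm] at h
    have hbc : b (Cfsg.conjFun χ₀) = a := by
      have h1 : Cfsg.conjFun χ₀ 1 = χ₀ 1 := by
        show (starRingEnd ℂ) (χ₀ 1) = χ₀ 1
        rw [hχ₀d, Complex.conj_natCast]
      rw [(hb _ (hXc χ₀ hχ₀)).2, hχ₀d, Nat.cast_inj] at h1
      exact Nat.eq_of_mul_eq_mul_left he0 h1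
    rw [hbc] at h
    linarith
  have hn2 : 2 ≤ nY := by
    have : ({η₀, Cfsg.conjFun η₀} : Finset (N → ℂ)).card ≤ Y.card :=
      card_le_card (insert_subset hη₀ (singleton_subset_iff.2 (hYc η₀ hη₀)))
    rw [card_pair (hne η₀ (hYS hη₀)).symm] at this
    rw [hnY]
    exact_mod_cast this
  have haZ : (0 : ℤ) < (a : ℤ) ^ 2 := by positivity
  have hA : 0 ≤ x * (2 * (a : ℤ) ^ 2 + x * B) := by
    rcases le_or_gt 0 x with h | h
    · exact mul_nonneg h (by nlinarith)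
    · exact mul_nonneg_of_nonpos_of_nonpos h.le (by nlinarith)
  have hB' : 0 ≤ y' * (nY * y' - 2) := by
    rcases le_or_gt y' 0 with h | h
    · exact mul_nonneg_of_nonpos_of_nonpos h (by nlinarith)
    · exact mul_nonneg h.le (by nlinarith)
  have hzero : x * (2 * (a : ℤ) ^ 2 + x * B) + (a : ℤ) ^ 4 * (y' * (nY * y' - 2)) ≤ 0 := by
    have h := mul_le_mul_of_nonneg_left hle haZ.le
    rw [mul_add, hsX, hsY] at h
    nlinarith
  have hx0 : x * (2 * (a : ℤ) ^ 2 + x * B) = 0 := by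
    have : 0 ≤ (a : ℤ) ^ 4 * (y' * (nY * y' - 2)) := mul_nonneg (by positivity) hB'
    linarith
  have hy0 : y' * (nY * y' - 2) = 0 := by
    rw [hx0, zero_add] at hzero
    refine le_antisymm ?_ hB'
    exact nonpos_of_mul_nonpos_right hzero (by positivity)
  -- choose the images
  obtain ⟨σ', hσ', hσ'α, hvσ'⟩ : ∃ σ' : (N → ℂ) → (G → ℂ),
      Cfsg.IsLinearIsometryOn (Cfsg.zspan (↑X : Set (N → ℂ))) σ' ∧
      (∀ θ ∈ Cfsg.zspanOn (↑X : Set (N → ℂ)) {1}ᶜ, σ' θ = Cfsg.indFun N θ) ∧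
      classInner v (σ' χ₀) = 1 := by
    rcases mul_eq_zero.1 hx0 with hx' | hx'
    · exact ⟨σ, hσ, hσα, by rw [hx, hx']; simp⟩
    have hxn : x = -1 := by
      have h1 : x < 0 := by
        by_contra hc
        nlinarith
      have h2 : 0 ≤ B := by linarith
      by_contra hc
      have h3 : x ≤ -2 := by omega
      nlinarith
    have hBeq : B = 2 * (a : ℤ) ^ 2 := by rw [hxn] at hx'; linarith
    have hXeq : (↑X : Set (N → ℂ)) = {χ₀, Cfsg.conjFun χ₀} := by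
      ext ξ
      refine ⟨fun hξ => ?_, ?_⟩
      · by_contra hne'
        rw [Set.mem_insert_iff, Set.mem_singleton_iff, not_or] at hne'
        have h := sum_le_sum_of_subset_of_nonneg (f := fun ξ => (b ξ : ℤ) ^ 2)
          (show ({ξ, χ₀, Cfsg.conjFun χ₀} : Finset (N → ℂ)) ⊆ X from
            insert_subset hξ (insert_subset hχ₀ (singleton_subset_iff.2 (hXc χ₀ hχ₀))))
          fun _ _ _ => by positivity
        rw [sum_insert (by simp [hne'.1, hne'.2]), sum_pair (hne χ₀ (hXS hχ₀)).symm, ← hBdef] at h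
        have h1 : (0 : ℤ) < (b ξ : ℤ) ^ 2 := by have := (hb ξ hξ).1; positivity
        have hbc : b (Cfsg.conjFun χ₀) = a := by
          have h1 : Cfsg.conjFun χ₀ 1 = χ₀ 1 := by
            show (starRingEnd ℂ) (χ₀ 1) = χ₀ 1
            rw [hχ₀d, Complex.conj_natCast]
          rw [(hb _ (hXc χ₀ hχ₀)).2, hχ₀d, Nat.cast_inj] at h1
          exact Nat.eq_of_mul_eq_mul_left he0 h1
        rw [hbc] at h
        linarith
      · rintro (rfl | rfl)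
        · exact hχ₀
        · exact hXc χ₀ hχ₀
    rw [hXeq] at hσ hσα ⊢
    obtain ⟨σ', h1, h2, h3⟩ := exists_flip (CharBasic.IsIrr.isCharacter (hirr χ₀ (hXS hχ₀)))
      (CharBasic.IsIrr.one_ne_zero (hirr χ₀ (hXS hχ₀))) (hne χ₀ (hXS hχ₀)) hσ hσα
    refine ⟨σ', h1, h2, ?_⟩
    rw [h3, classInner_neg_right]
    have h := hvX _ (hXc χ₀ hχ₀)
    have hbc : b (Cfsg.conjFun χ₀) = a := by
      have h1 : Cfsg.conjFun χ₀ 1 = χ₀ 1 := by
        show (starRingEnd ℂ) (χ₀ 1) = χ₀ 1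
        rw [hχ₀d, Complex.conj_natCast]
      rw [(hb _ (hXc χ₀ hχ₀)).2, hχ₀d, Nat.cast_inj] at h1
      exact Nat.eq_of_mul_eq_mul_left he0 h1
    rw [if_neg (hne χ₀ (hXS hχ₀)), hxn, hbc] at h
    have ha' : (a : ℂ) ≠ 0 := by exact_mod_cast ha0.ne'
    refine mul_left_cancel₀ ha' ?_
    push_cast at h
    linear_combination -h
  obtain ⟨τ', hτ', hτ'α, hvτ'⟩ : ∃ τ' : (N → ℂ) → (G → ℂ),
      Cfsg.IsLinearIsometryOn (Cfsg.zspan (↑Y : Set (N → ℂ))) τ' ∧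
      (∀ θ ∈ Cfsg.zspanOn (↑Y : Set (N → ℂ)) {1}ᶜ, τ' θ = Cfsg.indFun N θ) ∧
      classInner v (τ' η₀) = -(a : ℂ) := by
    rcases mul_eq_zero.1 hy0 with hy' | hy'
    · exact ⟨τ₁, hτ₁, hτα, by rw [hy, hy']; simp⟩
    have hy1 : y' = 1 := by
      have h1 : 0 < y' := by
        by_contra hc
        nlinarith
      by_contra hc
      have h3 : 2 ≤ y' := by omega
      nlinarith
    have hnY2 : nY = 2 := by rw [hy1] at hy'; linarith
    have hYeq : (↑Y : Set (N → ℂ)) = {η₀, Cfsg.conjFun η₀} := by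
      rw [← eq_of_subset_of_card_le
        (show ({η₀, Cfsg.conjFun η₀} : Finset (N → ℂ)) ⊆ Y from
          insert_subset hη₀ (singleton_subset_iff.2 (hYc η₀ hη₀)))
        (by rw [card_pair (hne η₀ (hYS hη₀)).symm]; rw [hnY] at hnY2; exact_mod_cast hnY2.le)]
      simp
    rw [hYeq] at hτ₁ hτα ⊢
    obtain ⟨τ', h1, h2, h3⟩ := exists_flip (CharBasic.IsIrr.isCharacter (hirr η₀ (hYS hη₀)))
      (CharBasic.IsIrr.one_ne_zero (hirr η₀ (hYS hη₀))) (hne η₀ (hYS hη₀)) hτ₁ hτα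
    refine ⟨τ', h1, h2, ?_⟩
    rw [h3, classInner_neg_right, hvY _ (hYc η₀ hη₀), if_neg (hne η₀ (hYS hη₀)), hy1]
    simp
  obtain ⟨hXY', hglue⟩ := hcross hσ' hσ'α hτ' hτ'α
  refine hglue ⟨χ₀, hχ₀, η₀, hη₀, ?_⟩
  have hw' : v = σ' χ₀ - (a : ℂ) • τ' η₀ := by
    refine sub_eq_zero.1 (classInner_self_eq_zero.1 ?_)
    have e1 : classInner (σ' χ₀) (σ' χ₀) = 1 := by
      rw [H43.iso_inner hσ' (H43.zspan_mem hχ₀) (H43.zspan_mem hχ₀), horth χ₀ (hXS hχ₀) χ₀ (hXS hχ₀),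
        if_pos rfl]
    have e2 : classInner (τ' η₀) (τ' η₀) = 1 := by
      rw [H43.iso_inner hτ' (H43.zspan_mem hη₀) (H43.zspan_mem hη₀), horth η₀ (hYS hη₀) η₀ (hYS hη₀),
        if_pos rfl]
    have e3 : classInner (σ' χ₀) v = 1 := by rw [← classInner_conj_symm, hvσ', map_one]
    have e4 : classInner (τ' η₀) v = -(a : ℂ) := by
      rw [← classInner_conj_symm, hvτ', map_neg, Complex.conj_natCast]
    have e5 : classInner (τ' η₀) (σ' χ₀) = 0 := by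
      rw [← classInner_conj_symm, hXY' χ₀ hχ₀ η₀ hη₀, map_zero]
    simp only [classInner_sub_left, classInner_sub_right, classInner_smul_left,
      classInner_smul_right, hvv, hvσ', hvτ', e1, e2, e3, e4, e5, hXY' χ₀ hχ₀ η₀ hη₀,
      Complex.conj_natCast]
    ring
  have hlin : χ₀ 1 • η₀ - η₀ 1 • χ₀ = (-(e : ℂ)) • β := by
    rw [hη₀d, hχ₀d, hβdef]
    funext g
    simp
    ring
  rw [hlin, indFun_smul, ← hvdef, hw', hη₀d, hχ₀d]
  funext g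
  simp
  ring

end Glue

end Cfsg.Agent.OddOrder.PF6
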