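import Cfsg.Agent.OddOrder.PF6.Induced
import Cfsg.Agent.S1516
import Cfsg.Agent.S1517

/-!
# Enlarging coherent subsets of a coherence system
-/

set_option autoImplicit false

namespace Cfsg.Agent.OddOrder.PF6

open Cfsg.Agent Finset

universe u v

variable {L : Type u} [Group L] [Fintype L] {G : Type v} [Group G] [Fintype G]
  {S : Set (L → ℂ)} {τ : (L → ℂ) → (G → ℂ)} {R : (L → ℂ) → Finset (G → ℂ)}

theorem coherent_mono {S' T : Set (L → ℂ)} {A : Set L} (h : Cfsg.IsCoherent S' A τ) (hT : T ⊆ S')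
    (hne : ∃ α ∈ Cfsg.zspanOn T A, α ≠ 0) : Cfsg.IsCoherent T A τ := by
  obtain ⟨-, τ₁, hτ₁, hagr⟩ := h
  have hs := H43.zspan_mono (X := L) hT
  exact ⟨hne, τ₁, ⟨fun a ha b hb => hτ₁.1 a (hs ha) b (hs hb), fun a ha n => hτ₁.2.1 a (hs ha) n,
    fun a ha b hb => hτ₁.2.2.1 a (hs ha) b (hs hb), fun a ha => hτ₁.2.2.2 a (hs ha)⟩,
    fun a ha => hagr a ⟨hs ha.1, ha.2⟩⟩

theorem system_mono (hS : Cfsg.IsCoherenceSystem S τ R) {T : Set (L → ℂ)} (hT : T ⊆ S)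
    (hne : T.Nonempty) (hc : ∀ φ ∈ T, Cfsg.conjFun φ ∈ T) : Cfsg.IsCoherenceSystem T τ R where
  nonempty := hne
  isCharacter χ h := hS.isCharacter χ (hT h)
  conj_mem := hc
  conj_ne χ h := hS.conj_ne χ (hT h)
  isometry :=
    have hs : Cfsg.zspanOn T ({1}ᶜ : Set L) ⊆ Cfsg.zspanOn S ({1}ᶜ : Set L) :=
      fun α hα => ⟨H43.zspan_mono hT hα.1, hα.2⟩
    ⟨fun a ha b hb => hS.isometry.1 a (hs ha) b (hs hb),
      fun a ha n => hS.isometry.2.1 a (hs ha) n,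
      fun a ha b hb => hS.isometry.2.2.1 a (hs ha) b (hs hb),
      fun a ha => hS.isometry.2.2.2 a (hs ha)⟩
  map_one α hα := hS.map_one α ⟨H43.zspan_mono hT hα.1, hα.2⟩
  orthogonal χ h φ h' := hS.orthogonal χ (hT h) φ (hT h')
  orthonormal χ h := hS.orthonormal χ (hT h)
  virtual χ h := hS.virtual χ (hT h)
  sum_eq χ h := hS.sum_eq χ (hT h)
  disjoint χ h φ h' := hS.disjoint χ (hT h) φ (hT h')

/-- A nonempty conjugation-closed part of a coherent subset is coherent. -/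
theorem coherent_sub (hS : Cfsg.IsCoherenceSystem S τ R) {T T' : Set (L → ℂ)}
    (h : Cfsg.IsCoherent T' ({1}ᶜ : Set L) τ) (hT : T ⊆ T') (hT' : T' ⊆ S) (hne : T.Nonempty)
    (hc : ∀ φ ∈ T, Cfsg.conjFun φ ∈ T) : Cfsg.IsCoherent T ({1}ᶜ : Set L) τ := by
  obtain ⟨χ, hχ⟩ := hne
  refine coherent_mono h hT ⟨_, H43.sys_diff_mem (system_mono hS (hT.trans hT') ⟨χ, hχ⟩ hc) hχ, ?_⟩
  exact sub_ne_zero.2 (hS.conj_ne χ (hT' (hT hχ))).symm

/-- A nonempty conjugation-closed subset of constant degree is coherent. -/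
theorem coherent_const_degree (hS : Cfsg.IsCoherenceSystem S τ R) {T : Set (L → ℂ)} (hT : T ⊆ S)
    (hne : T.Nonempty) (hc : ∀ φ ∈ T, Cfsg.conjFun φ ∈ T) (hdeg : ∀ φ ∈ T, ∀ ψ ∈ T, φ 1 = ψ 1) :
    Cfsg.IsCoherent T ({1}ᶜ : Set L) τ :=
  Cfsg.Agent.S1517.result T τ R (system_mono hS hT hne hc) hdeg

open scoped Classical in
/-- Adjoining a conjugate pair: `2 φ(1) χ₁(1) < ∑ ψ(1)² / ⟨ψ, ψ⟩` suffices. -/
theorem coherent_insert_pair (hS : Cfsg.IsCoherenceSystem S τ R) {T : Finset (L → ℂ)}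
    (hT : ↑T ⊆ S) (hc : ∀ φ ∈ T, Cfsg.conjFun φ ∈ T)
    (hcoh : Cfsg.IsCoherent (↑T : Set (L → ℂ)) ({1}ᶜ : Set L) τ) {χ χ₁ : L → ℂ} (hχ : χ ∈ S)
    (hχT : χ ∉ T) (hχ₁ : χ₁ ∈ T) {a b : ℕ} (ha : χ₁ 1 = a) (hb : χ 1 = b) (hab : a ∣ b)
    (hlt : (2 * b * a : ℝ) < ∑ φ ∈ T, weight φ) :
    Cfsg.IsCoherent (↑(insert χ (insert (Cfsg.conjFun χ) T)) : Set (L → ℂ)) ({1}ᶜ : Set L) τ := by
  let d : (L → ℂ) → ℕ := fun φ => if h : φ ∈ S then (H43.sys_degree hS h).choose else 0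
  let n : (L → ℂ) → ℕ := fun φ => if h : φ ∈ S then (H43.sys_norm hS h).choose else 0
  have hd : ∀ φ ∈ S, φ 1 = (d φ : ℂ) := fun φ h => by
    simp only [d, dif_pos h]
    exact (H43.sys_degree hS h).choose_spec.2.1
  have hn : ∀ φ ∈ S, classInner φ φ = (n φ : ℂ) := fun φ h => by
    simp only [n, dif_pos h]
    exact (H43.sys_norm hS h).choose_spec.2.1
  have hda : d χ₁ = a := Nat.cast_injective ((hd χ₁ (hT hχ₁)).symm.trans ha)
  have hdb : d χ = b := Nat.cast_injective ((hd χ hχ).symm.trans hb)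
  have hχc : Cfsg.conjFun χ ∉ T := fun h => hχT (by
    simpa [H43.conjFun_conjFun] using hc _ h)
  have h := Cfsg.Agent.S1516.result S τ R hS d n hd hn T hT hc hcoh χ hχ hχT hχc χ₁ hχ₁
    (by rw [hda, hdb]; exact hab) (by
      rw [hda, hdb]
      refine hlt.trans_eq (sum_congr rfl fun φ hφ => ?_)
      rw [weight, hd φ (hT hφ), hn φ (hT hφ), Complex.natCast_re, Complex.natCast_re])
  have e : (↑(insert χ (insert (Cfsg.conjFun χ) T)) : Set (L → ℂ))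
      = ↑T ∪ {χ, Cfsg.conjFun χ} := by
    ext x
    simp only [coe_insert, Set.mem_insert_iff, mem_coe, Set.mem_union, Set.mem_singleton_iff]
    tauto
  rw [e]
  exact h

open scoped Classical in
/-- Closure of a coherent set under an admissible enlargement step. -/
theorem coherent_of_step (hS : Cfsg.IsCoherenceSystem S τ R) (B : Finset (L → ℂ)) (hBS : ↑B ⊆ S)
    (hB : B.Nonempty) (hBc : ∀ φ ∈ B, Cfsg.conjFun φ ∈ B) (T₀ : Finset (L → ℂ)) (hT₀ : ↑T₀ ⊆ S)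
    (hT₀c : ∀ φ ∈ T₀, Cfsg.conjFun φ ∈ T₀)
    (hcoh : Cfsg.IsCoherent (↑T₀ : Set (L → ℂ)) ({1}ᶜ : Set L) τ)
    (hstep : ∀ T : Finset (L → ℂ), T₀ ⊆ T → ↑T ⊆ S → (∀ φ ∈ T, Cfsg.conjFun φ ∈ T) →
      Cfsg.IsCoherent (↑T : Set (L → ℂ)) ({1}ᶜ : Set L) τ → (B \ T).Nonempty →
      ∃ χ ∈ B \ T,
        Cfsg.IsCoherent (↑(insert χ (insert (Cfsg.conjFun χ) T)) : Set (L → ℂ)) ({1}ᶜ : Set L) τ) :
    Cfsg.IsCoherent (↑B : Set (L → ℂ)) ({1}ᶜ : Set L) τ := by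
  have key : ∀ k : ℕ, ∀ T : Finset (L → ℂ), (B \ T).card = k → T₀ ⊆ T → ↑T ⊆ S →
      (∀ φ ∈ T, Cfsg.conjFun φ ∈ T) → Cfsg.IsCoherent (↑T : Set (L → ℂ)) ({1}ᶜ : Set L) τ →
      Cfsg.IsCoherent (↑B : Set (L → ℂ)) ({1}ᶜ : Set L) τ := by
    intro k
    induction k using Nat.strong_induction_on with
    | _ k ih =>
      intro T hk h0 hTS hTc hTcoh
      by_cases hne : (B \ T).Nonempty
      · obtain ⟨χ, hχ, hcoh'⟩ := hstep T h0 hTS hTc hTcoh hne
        rw [Finset.mem_sdiff] at hχ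
        refine ih _ ?_ _ rfl (h0.trans fun x hx => mem_insert_of_mem (mem_insert_of_mem hx)) ?_ ?_
          hcoh'
        · rw [← hk]
          refine card_lt_card ⟨fun x hx => ?_, fun h => ?_⟩
          · simp only [Finset.mem_sdiff, Finset.mem_insert, not_or] at hx
            exact Finset.mem_sdiff.2 ⟨hx.1, hx.2.2.2⟩
          · have := h (Finset.mem_sdiff.2 hχ)
            exact (Finset.mem_sdiff.1 this).2 (mem_insert_self _ _)
        · intro x hx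
          simp only [coe_insert, Set.mem_insert_iff, mem_coe] at hx
          rcases hx with rfl | rfl | hx
          · exact hBS hχ.1
          · exact hS.conj_mem χ (hBS hχ.1)
          · exact hTS hx
        · intro x hx
          simp only [Finset.mem_insert] at hx ⊢
          rcases hx with rfl | rfl | hx
          · exact Or.inr (Or.inl rfl)
          · exact Or.inl (H43.conjFun_conjFun χ)
          · exact Or.inr (Or.inr (hTc x hx))
      · refine coherent_sub hS hTcoh (fun x hx => ?_) hTS hB hBc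
        by_contra hx'
        exact hne ⟨x, Finset.mem_sdiff.2 ⟨hx, hx'⟩⟩
  exact key _ T₀ rfl subset_rfl hT₀ hT₀c hcoh

end Cfsg.Agent.OddOrder.PF6
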