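import Cfsg.Prelude.Def_OddOrderChar
import Cfsg.Agent.CharInduce.Induce
import Cfsg.Agent.CharBasic.Kernel

/-!
# Functions induced from the irreducible characters of a normal subgroup above a given subgroup

Peterfalvi, section 6, preliminaries: the sum of `φ(1)² / ⟨φ, φ⟩` over the functions induced from
the irreducible characters of `K` whose kernel contains `A`, linear members, degree bounds.
-/

set_option autoImplicit false

namespace Cfsg.Agent.OddOrder.PF6

open Cfsg.Agent Cfsg.Agent.CharBasic Cfsg.Agent.CharInduce Finset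
open scoped ComplexConjugate

universe u

section Kernel

variable {H : Type u} [Group H] [Fintype H]

/-- The kernel of a character is contained in that of each of its constituents. -/
theorem eq_one_of_constituent {χ : H → ℂ} (hχ : IsCharacter H χ) {ψ : H → ℂ}
    (hψ : IsIrrCharacter H ψ) (hne : classInner χ ψ ≠ 0) {g : H} (hg : χ g = χ 1) : ψ g = ψ 1 := by
  obtain ⟨r, hr, rfl⟩ := IsChar.exists_eq_add hχ hψ hne
  obtain ⟨a, ha⟩ := CharBasic.IsChar.exists_degree (CharBasic.IsIrr.isCharacter hψ)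
  obtain ⟨b, hb⟩ := CharBasic.IsChar.exists_degree hr
  have h1 := CharBasic.IsChar.norm_le (CharBasic.IsIrr.isCharacter hψ) g
  have h2 := CharBasic.IsChar.norm_le hr g
  rw [Pi.add_apply, Pi.add_apply, ha, hb] at hg
  rw [ha, Complex.norm_natCast] at h1
  rw [hb, Complex.norm_natCast] at h2
  have e1 := congrArg Complex.re hg
  have h1' := Complex.re_le_norm (ψ g)
  have h2' := Complex.re_le_norm (r g)
  simp at e1
  have hre : (ψ g).re = a := by linarith
  have h3 : ‖ψ g‖ = (ψ g).re := by linarith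
  rw [ha]
  refine Complex.ext (by simpa using hre) ?_
  have h4 := Complex.sq_norm (ψ g)
  rw [h3, Complex.normSq_apply] at h4
  have : (ψ g).im * (ψ g).im = 0 := by linarith
  simpa using mul_self_eq_zero.1 this

/-- An irreducible character with constant absolute value on a subgroup has small degree. -/
theorem degree_sq_mul_le {χ : H → ℂ} (hχ : IsIrrCharacter H χ) (D : Subgroup H) {d : ℕ}
    (hd : χ 1 = d) (hD : ∀ x ∈ D, ‖χ x‖ = ‖χ 1‖) : d ^ 2 * Nat.card D ≤ Nat.card H := by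
  classical
  haveI := Fintype.ofFinite D
  have h := classInner_irr_self hχ
  rw [CharBasic.classInner_self_eq, Complex.ofReal_eq_one,
    inv_mul_eq_one₀ (by exact_mod_cast Nat.card_pos.ne')] at h
  have h2 : ∑ g ∈ univ.filter (fun g : H => g ∈ D), ‖χ g‖ ^ 2 ≤ ∑ g : H, ‖χ g‖ ^ 2 :=
    sum_le_sum_of_subset_of_nonneg (subset_univ _) fun i _ _ => by positivity
  rw [sum_congr rfl fun g hg => by rw [hD g (mem_filter.1 hg).2, hd, Complex.norm_natCast],
    sum_const, nsmul_eq_mul, ← h, ← Fintype.card_subtype, ← Nat.card_eq_fintype_card] at h2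
  have : ((d ^ 2 * Nat.card D : ℕ) : ℝ) ≤ (Nat.card H : ℝ) := by
    push_cast
    linarith
  exact_mod_cast this

/-- An irreducible character is scalar on a subgroup that is central modulo its kernel. -/
theorem norm_eq_of_commutator_mem {χ : H → ℂ} (hχ : IsIrrCharacter H χ) (x : H)
    (hx : ∀ c : H, χ (x * c * x⁻¹ * c⁻¹) = χ 1) : ‖χ x‖ = ‖χ 1‖ := by
  obtain ⟨n, ρ, hρ, rfl⟩ := hχ
  obtain ⟨ω, hω⟩ := CharBasic.schur_scalar ρ (ρ x) fun c => by
    have h := (character_eq_finrank_iff ρ _).1 ((hx c).trans ρ.char_one)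
    have e : x * c = (x * c * x⁻¹ * c⁻¹) * (c * x) := by group
    rw [← map_mul, ← map_mul, e, map_mul, h]
    exact LinearMap.ext fun _ => rfl
  exact (CharBasic.IsChar.norm_eq_iff_scalar ρ x).2 ⟨ω, hω⟩

/-- A constituent of the restriction to a subgroup, with the degree bound. -/
theorem exists_constituent_res {θ : H → ℂ} (hθ : IsIrrCharacter H θ) (C : Subgroup H) {d : ℕ}
    (hd : θ 1 = d) :
    ∃ η : C → ℂ, ∃ a : ℕ, IsIrrCharacter C η ∧ η 1 = a ∧ d ≤ C.index * a ∧
      ∀ c : C, θ c = θ 1 → η c = η 1 := by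
  haveI := Fintype.ofFinite C
  have hθc := CharBasic.IsIrr.isCharacter hθ
  have hres : IsCharacter C (fun c : C => θ c) := IsChar.res hθc C
  obtain ⟨η, hη⟩ := exists_constituent hres fun e => CharBasic.IsIrr.one_ne_zero hθ (congrFun e 1)
  obtain ⟨a, -, ha⟩ := CharBasic.IsIrr.exists_degree η.2
  refine ⟨η, a, η.2, ha, ?_, fun c hc => eq_one_of_constituent hres η.2 hη hc⟩
  refine IsChar.degree_le_of_constituent (IsChar.ind C (CharBasic.IsIrr.isCharacter η.2)) hθ ?_ hd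
    (by rw [indFun_one, ha]; push_cast; ring)
  rw [classInner_indFun_left C _ θ (CharBasic.IsIrr.isClassFunction hθ), ← conj_classInner]
  simpa using hη

/-- `∑ θ(1)²` over the characters trivial on a normal subgroup `N` is the index of `N`. -/
theorem sum_sq_trivial_on [DecidableEq (IrrCharacter H)] (N : Subgroup H) [N.Normal]
    [DecidablePred fun χ : IrrCharacter H => ∀ n ∈ N, (χ : H → ℂ) n = (χ : H → ℂ) 1] :
    ∑ χ ∈ univ.filter (fun χ : IrrCharacter H => ∀ n ∈ N, (χ : H → ℂ) n = (χ : H → ℂ) 1),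
      (χ : H → ℂ) 1 ^ 2 = (N.index : ℂ) := by
  classical
  have hd : ∀ χ ∈ univ.filter (fun χ : IrrCharacter H => ∀ n ∈ N, (χ : H → ℂ) n = (χ : H → ℂ) 1),
      ∃ ψ : IrrCharacter (H ⧸ N), ∀ g : H, (χ : H → ℂ) g = (ψ : H ⧸ N → ℂ) g := by
    intro χ hχ
    obtain ⟨ψ, -, hψ, hirr⟩ :=
      IsChar.exists_deflate (CharBasic.IsIrr.isCharacter χ.2) N (mem_filter.1 hχ).2
    exact ⟨⟨ψ, hirr χ.2⟩, hψ⟩
  choose f hf using hd
  haveI := Fintype.ofFinite (H ⧸ N)
  rw [Subgroup.index_eq_card, ← sum_sq_degree (G := H ⧸ N)]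
  refine sum_bij f (fun χ hχ => mem_univ _) (fun χ hχ χ' hχ' e => ?_) (fun ψ _ => ?_)
    (fun χ hχ => by rw [hf χ hχ]; rfl)
  · exact Subtype.ext (funext fun g => by rw [hf χ hχ, hf χ' hχ', e])
  · have hm : (⟨_, IsIrr.comp ψ.2 (QuotientGroup.mk' N) (QuotientGroup.mk'_surjective N)⟩ :
        IrrCharacter H) ∈ univ.filter
          (fun χ : IrrCharacter H => ∀ n ∈ N, (χ : H → ℂ) n = (χ : H → ℂ) 1) := by
      refine mem_filter.2 ⟨mem_univ _, fun n hn => ?_⟩
      show (ψ : H ⧸ N → ℂ) (n : H ⧸ N) = (ψ : H ⧸ N → ℂ) ((1 : H) : H ⧸ N)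
      rw [(QuotientGroup.eq_one_iff n).2 hn, QuotientGroup.mk_one]
    refine ⟨_, hm, Subtype.ext (funext fun q => ?_)⟩
    induction q using QuotientGroup.induction_on with
    | H g => exact (hf _ hm g).symm

end Kernel

section Induced

variable {L : Type u} [Group L] [Fintype L] (K : Subgroup L)

open scoped Classical in
/-- The non-principal irreducible characters of `K` whose kernel contains `A ⊓ K`. -/
noncomputable def thetas (A : Subgroup L) : Finset (IrrCharacter K) :=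
  univ.filter fun θ => (θ : K → ℂ) ≠ (fun _ => 1) ∧
    ∀ a : K, (a : L) ∈ A → (θ : K → ℂ) a = (θ : K → ℂ) 1

theorem mem_thetas {A : Subgroup L} {θ : IrrCharacter K} :
    θ ∈ thetas K A ↔ (θ : K → ℂ) ≠ (fun _ => 1) ∧
      ∀ a : K, (a : L) ∈ A → (θ : K → ℂ) a = (θ : K → ℂ) 1 := by
  simp [thetas]

open scoped Classical in
/-- The set `S(A)`, as a finite set. -/
noncomputable def seqInd (A : Subgroup L) : Finset (L → ℂ) :=
  (thetas K A).image fun θ => indFun K (θ : K → ℂ)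

theorem mem_seqInd {A : Subgroup L} {φ : L → ℂ} :
    φ ∈ seqInd K A ↔ ∃ θ ∈ thetas K A, indFun K (θ : K → ℂ) = φ := by
  simp [seqInd]

theorem coe_seqInd (A : Subgroup L) :
    (↑(seqInd K A) : Set (L → ℂ)) = Cfsg.inducedIrrAbove K A := by
  ext φ
  rw [mem_coe, mem_seqInd]
  constructor
  · rintro ⟨θ, hθ, rfl⟩
    exact ⟨θ, θ.2, ((mem_thetas K).1 hθ).1, ((mem_thetas K).1 hθ).2, rfl⟩
  · rintro ⟨θ, hθ, h1, h2, rfl⟩
    exact ⟨⟨θ, hθ⟩, (mem_thetas K).2 ⟨h1, h2⟩, rfl⟩

theorem thetas_mono {A B : Subgroup L} (h : A ≤ B) : thetas K B ⊆ thetas K A := fun θ hθ =>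
  (mem_thetas K).2 ⟨((mem_thetas K).1 hθ).1, fun a ha => ((mem_thetas K).1 hθ).2 a (h ha)⟩

theorem seqInd_mono {A B : Subgroup L} (h : A ≤ B) : seqInd K B ⊆ seqInd K A := fun φ hφ => by
  obtain ⟨θ, hθ, rfl⟩ := (mem_seqInd K).1 hφ
  exact (mem_seqInd K).2 ⟨θ, thetas_mono K h hθ, rfl⟩

theorem seqInd_subset_bot (A : Subgroup L) : seqInd K A ⊆ seqInd K ⊥ := seqInd_mono K bot_le

theorem seqInd_degree {A : Subgroup L} {φ : L → ℂ} (hφ : φ ∈ seqInd K A) :
    ∃ θ ∈ thetas K A, ∃ m : ℕ, 0 < m ∧ indFun K (θ : K → ℂ) = φ ∧ (θ : K → ℂ) 1 = m ∧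
      φ 1 = ((K.index * m : ℕ) : ℂ) := by
  obtain ⟨θ, hθ, rfl⟩ := (mem_seqInd K).1 hφ
  obtain ⟨m, hm0, hm⟩ := CharBasic.IsIrr.exists_degree θ.2
  exact ⟨θ, hθ, m, hm0, rfl, hm, by rw [indFun_one, hm, Nat.cast_mul]⟩

theorem seqInd_conj {A : Subgroup L} {φ : L → ℂ} (hφ : φ ∈ seqInd K A) :
    Cfsg.conjFun φ ∈ seqInd K A := by
  obtain ⟨θ, hθ, rfl⟩ := (mem_seqInd K).1 hφ
  rw [mem_thetas] at hθ
  haveI := Fintype.ofFinite K
  refine (mem_seqInd K).2 ⟨⟨_, IsIrr.conj θ.2⟩, (mem_thetas K).2 ⟨fun e => hθ.1 ?_, fun a ha => ?_⟩,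
    funext fun g => (conj_indFun K _ g).symm⟩
  · funext k
    have := congrArg conj (congrFun e k)
    simpa using this
  · exact congrArg conj (hθ.2 a ha)

theorem inducedIrrAbove_conj {A : Subgroup L} {φ : L → ℂ} (hφ : φ ∈ Cfsg.inducedIrrAbove K A) :
    Cfsg.conjFun φ ∈ Cfsg.inducedIrrAbove K A := by
  rw [← coe_seqInd] at hφ ⊢
  exact seqInd_conj K hφ

variable [hK : K.Normal]

/-- Conjugate characters induce the same function. -/
theorem indFun_conjFun {θ : K → ℂ} (x : L) :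
    indFun K (CharInduce.conjFun K θ x) = indFun K θ := by
  classical
  funext g
  by_cases hg : g ∈ K
  · rw [show g = ((⟨g, hg⟩ : K) : L) from rfl, indFun_normal_coe, indFun_normal_coe]
    congr 1
    refine Fintype.sum_equiv (Equiv.mulLeft x) _ _ fun y => ?_
    rw [CharInduce.conjFun_mul]
    rfl
  · rw [indFun_eq_zero_of_normal K _ hg, indFun_eq_zero_of_normal K _ hg]

/-- The constituents of an induced function restricted to `K` are conjugate to the inducing
character. -/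
theorem exists_conj_of_inner_ne_zero [Fintype K] {θ θ' : K → ℂ} (hθ : IsIrrCharacter K θ)
    (hθ' : IsIrrCharacter K θ') (h : classInner (fun k : K => indFun K θ k) θ' ≠ 0) :
    ∃ x : L, θ' = CharInduce.conjFun K θ x := by
  by_contra hc
  push Not at hc
  apply h
  rw [indFun_res_normal, classInner_smul_left, classInner_sum_left,
    sum_eq_zero fun x _ => classInner_irr_of_ne (isIrrCharacter_conjFun K hθ x) hθ' (hc x).symm,
    mul_zero]

theorem classInner_indFun_self_ne_zero {θ : K → ℂ} (hθ : IsIrrCharacter K θ) :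
    classInner (indFun K θ) (indFun K θ) ≠ 0 := by
  rw [Ne, classInner_self_eq_zero]
  intro e
  have h := congrFun e 1
  rw [indFun_one, Pi.zero_apply, mul_eq_zero] at h
  exact h.elim (by exact_mod_cast Subgroup.FiniteIndex.index_ne_zero)
    (CharBasic.IsIrr.one_ne_zero hθ)

theorem exists_conj_of_indFun_eq {θ θ' : K → ℂ} (hθ : IsIrrCharacter K θ)
    (hθ' : IsIrrCharacter K θ') (h : indFun K θ = indFun K θ') :
    ∃ x : L, θ' = CharInduce.conjFun K θ x := by
  haveI := Fintype.ofFinite K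
  refine exists_conj_of_inner_ne_zero K hθ hθ' ?_
  rw [← classInner_indFun_right K _ _ (isClassFunction_indFun K θ)]
  rw [h]
  exact classInner_indFun_self_ne_zero K hθ'

theorem mem_thetas_of_indFun_eq {A : Subgroup L} [A.Normal] {θ θ' : IrrCharacter K}
    (hθ : θ ∈ thetas K A) (h : indFun K (θ : K → ℂ) = indFun K (θ' : K → ℂ)) :
    θ' ∈ thetas K A := by
  obtain ⟨x, hx⟩ := exists_conj_of_indFun_eq K θ.2 θ'.2 h
  rw [mem_thetas] at hθ ⊢
  refine ⟨fun e => hθ.1 ?_, fun a ha => ?_⟩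
  · rw [← CharInduce.conjFun_one K (θ : K → ℂ), ← mul_inv_cancel x, ← CharInduce.conjFun_mul, ← hx,
      e]
    rfl
  · rw [hx]
    show (θ : K → ℂ) _ = (θ : K → ℂ) _
    rw [hθ.2 ⟨x * a * x⁻¹, hK.conj_mem _ a.2 x⟩ (Subgroup.Normal.conj_mem ‹A.Normal› _ ha x)]
    refine congrArg (θ : K → ℂ) (Subtype.ext ?_)
    show (1 : L) = x * ((1 : K) : L) * x⁻¹
    rw [OneMemClass.coe_one, mul_one, mul_inv_cancel]

open scoped Classical in
theorem sum_weight_thetas (A : Subgroup L) [A.Normal] :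
    ∑ φ ∈ seqInd K A, φ 1 ^ 2 / classInner φ φ
      = (K.index : ℂ) * ∑ θ ∈ thetas K A, (θ : K → ℂ) 1 ^ 2 := by
  haveI := Fintype.ofFinite K
  rw [mul_sum, ← sum_fiberwise_of_maps_to (t := seqInd K A)
    (g := fun θ : IrrCharacter K => indFun K (θ : K → ℂ))
    (fun θ hθ => (mem_seqInd K).2 ⟨θ, hθ, rfl⟩)]
  refine sum_congr rfl fun φ hφ => ?_
  obtain ⟨θ₀, hθ₀, rfl⟩ := (mem_seqInd K).1 hφ
  set φ := indFun K (θ₀ : K → ℂ) with hφdef
  set s := (thetas K A).filter fun θ : IrrCharacter K => indFun K (θ : K → ℂ) = φ with hs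
  set n := classInner φ φ with hn
  have hn0 : n ≠ 0 := classInner_indFun_self_ne_zero K θ₀.2
  have hcoef : ∀ θ : IrrCharacter K, classInner (fun k : K => φ k) (θ : K → ℂ)
      = if θ ∈ s then n else 0 := by
    intro θ
    split_ifs with hm
    · rw [← classInner_indFun_right K _ _ (isClassFunction_indFun K _), (mem_filter.1 hm).2]
    · by_contra hne
      obtain ⟨x, hx⟩ := exists_conj_of_inner_ne_zero K θ₀.2 θ.2 hne
      have e : indFun K (θ : K → ℂ) = φ := by rw [hx, indFun_conjFun]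
      exact hm (mem_filter.2 ⟨mem_thetas_of_indFun_eq K hθ₀ (e.symm.trans rfl), e⟩)
  have hexp : (fun k : K => φ k) = ∑ θ ∈ s, n • (θ : K → ℂ) := by
    rw [classFunction_expansion (ψ := fun k : K => φ k)
      (fun a b => isClassFunction_indFun K _ (a : L) (b : L))]
    simp only [hcoef, ite_smul, zero_smul, sum_ite_mem, univ_inter]
  have hdeg : φ 1 = n * ∑ θ ∈ s, (θ : K → ℂ) 1 := by
    have h := congrFun hexp 1
    rw [Finset.sum_apply] at h
    rw [mul_sum]
    exact h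
  have hdeg' : ∀ θ ∈ s, (K.index : ℂ) * (θ : K → ℂ) 1 = φ 1 := fun θ hθ => by
    rw [← indFun_one, (mem_filter.1 hθ).2]
  calc φ 1 ^ 2 / n = φ 1 * ∑ θ ∈ s, (θ : K → ℂ) 1 := by rw [sq]; nth_rewrite 2 [hdeg]; field_simp
    _ = ∑ θ ∈ s, (K.index : ℂ) * (θ : K → ℂ) 1 ^ 2 := by
      rw [mul_sum]
      exact sum_congr rfl fun θ hθ => by rw [← hdeg' θ hθ]; ring

theorem sum_thetas (A : Subgroup L) [A.Normal] :
    ∑ θ ∈ thetas K A, (θ : K → ℂ) 1 ^ 2 = (A.relIndex K : ℂ) - 1 := by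
  classical
  haveI := Fintype.ofFinite K
  have h := sum_sq_trivial_on (A.subgroupOf K)
  have h1 : (⟨_, isIrrCharacter_one⟩ : IrrCharacter K) ∈ univ.filter
      fun χ : IrrCharacter K => ∀ n ∈ A.subgroupOf K, (χ : K → ℂ) n = (χ : K → ℂ) 1 :=
    mem_filter.2 ⟨mem_univ _, fun _ _ => rfl⟩
  rw [← add_sum_erase _ _ h1] at h
  have h2 : thetas K A = (univ.filter
      fun χ : IrrCharacter K => ∀ n ∈ A.subgroupOf K, (χ : K → ℂ) n = (χ : K → ℂ) 1).erase
        ⟨_, isIrrCharacter_one⟩ := by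
    ext θ
    simp [mem_thetas, Subgroup.mem_subgroupOf, Subtype.ext_iff]
  rw [h2, Subgroup.relIndex, ← h]
  simp

/-- The quantity `φ(1)² / ⟨φ, φ⟩`. -/
noncomputable def weight (φ : L → ℂ) : ℝ := (φ 1).re ^ 2 / (classInner φ φ).re

theorem weight_nonneg (φ : L → ℂ) : 0 ≤ weight φ := by
  refine div_nonneg (sq_nonneg _) ?_
  rw [CharBasic.classInner_self_eq, Complex.ofReal_re]
  positivity

theorem weight_cast {φ : L → ℂ} {a : ℕ} (ha : φ 1 = a) :
    (weight φ : ℂ) = φ 1 ^ 2 / classInner φ φ := by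
  rw [weight, ha, CharBasic.classInner_self_eq, Complex.ofReal_re, Complex.natCast_re]
  push_cast
  ring

/-- `∑ φ(1)² / ⟨φ, φ⟩ = e ([K : A] - 1)` over `S(A)`. -/
theorem sum_weight_seqInd (A : Subgroup L) [A.Normal] :
    ∑ φ ∈ seqInd K A, weight φ = (K.index : ℝ) * ((A.relIndex K : ℝ) - 1) := by
  apply Complex.ofReal_injective
  rw [Complex.ofReal_sum, sum_congr rfl fun φ hφ => by
    obtain ⟨θ, -, m, -, -, -, hd⟩ := seqInd_degree K hφ
    exact weight_cast hd, sum_weight_thetas K A, sum_thetas K A]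
  push_cast
  ring

/-- For a solvable `K` properly above `A` the set `S(A)` has a member of degree `[L : K]`. -/
theorem exists_linear (hsolv : Group.IsSolvable K) {A : Subgroup L} [A.Normal] (hA : A < K) :
    ∃ θ ∈ thetas K A, (θ : K → ℂ) 1 = 1 := by
  set A' := A.subgroupOf K with hA'
  haveI : Nontrivial (K ⧸ A') := by
    rw [QuotientGroup.nontrivial_iff]
    intro e
    exact hA.not_ge (Subgroup.subgroupOf_eq_top.1 e)
  haveI : Group.IsSolvable (K ⧸ A') :=
    Group.isSolvable_of_surjective (QuotientGroup.mk'_surjective A')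
  have hlt := Group.IsSolvable.commutator_lt_top_of_nontrivial (G := K ⧸ A')
  haveI : Nontrivial (Abelianization (K ⧸ A')) :=
    QuotientGroup.nontrivial_iff.2 hlt.ne
  obtain ⟨g, hg⟩ := exists_ne (1 : Abelianization (K ⧸ A'))
  obtain ⟨χ, hχ⟩ := CharBasic.exists_irr_ne_of_ne_one hg
  have h1 : (χ : Abelianization (K ⧸ A') → ℂ) 1 = 1 :=
    commutative_iff_forall_linear.1 (fun a b => mul_comm a b) χ
  let π : K →* Abelianization (K ⧸ A') := Abelianization.of.comp (QuotientGroup.mk' A')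
  have hπ : Function.Surjective π :=
    (QuotientGroup.mk'_surjective _).comp (QuotientGroup.mk'_surjective A')
  refine ⟨⟨_, IsIrr.comp χ.2 π hπ⟩, (mem_thetas K).2 ⟨fun e => hχ ?_, fun a ha => ?_⟩, ?_⟩
  · obtain ⟨k, rfl⟩ := hπ g
    rw [h1]
    exact congrFun e k
  · show (χ : Abelianization (K ⧸ A') → ℂ) (π a) = (χ : Abelianization (K ⧸ A') → ℂ) (π 1)
    have : (QuotientGroup.mk' A') a = 1 :=
      (QuotientGroup.eq_one_iff a).2 (Subgroup.mem_subgroupOf.2 ha)
    simp only [π, MonoidHom.comp_apply, this, map_one]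
  · show (χ : Abelianization (K ⧸ A') → ℂ) (π 1) = 1
    rw [map_one, h1]

omit hK in
/-- If `B ≤ D ≤ C ≤ K` with `D/B` central in `C/B`, then `θ(1)² ≤ [K:C]² [C:D]` for the
characters of `K` whose kernel contains `B`. -/
theorem theta_degree_bound {B C D : Subgroup L} (hCK : C ≤ K)
    (hcent : ∀ x ∈ D, ∀ y ∈ C, x * y * x⁻¹ * y⁻¹ ∈ B) (_hDC : D ≤ C) {θ : IrrCharacter K}
    (hθ : θ ∈ thetas K B) {m : ℕ} (hm : (θ : K → ℂ) 1 = m) :
    m ^ 2 ≤ C.relIndex K ^ 2 * D.relIndex C := by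
  haveI := Fintype.ofFinite K
  rw [mem_thetas] at hθ
  set C' := C.subgroupOf K with hC'
  haveI := Fintype.ofFinite C'
  obtain ⟨η, a, hη, ha, hle, hker⟩ := exists_constituent_res θ.2 C' hm
  set D' := (D.subgroupOf K).subgroupOf C' with hD'
  have h := degree_sq_mul_le hη D' ha fun x hx =>
    norm_eq_of_commutator_mem hη x fun c => by
      refine hker _ (hθ.2 _ ?_)
      push_cast
      exact hcent _ (Subgroup.mem_subgroupOf.1 hx) _ (Subgroup.mem_subgroupOf.1 c.2)
  rw [← D'.card_mul_index, mul_comm] at h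
  have h2 : a ^ 2 ≤ D'.index := Nat.le_of_mul_le_mul_left h Nat.card_pos
  have h3 : D'.index = D.relIndex C := Subgroup.relIndex_subgroupOf hCK
  calc m ^ 2 ≤ (C'.index * a) ^ 2 := Nat.pow_le_pow_left hle 2
    _ = C.relIndex K ^ 2 * a ^ 2 := by rw [mul_pow]; rfl
    _ ≤ C.relIndex K ^ 2 * D.relIndex C := Nat.mul_le_mul_left _ (h3 ▸ h2)

end Induced

end Cfsg.Agent.OddOrder.PF6
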