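import Mathlib.GroupTheory.Nilpotent
import Mathlib.GroupTheory.SchurZassenhaus
import Mathlib.GroupTheory.Sylow
import Mathlib.Algebra.Order.Ring.Nat

/-!
# Group theory for the coherence theorems: nilpotent sections and free actions
-/

set_option autoImplicit false

namespace Cfsg.Agent.OddOrder.PF6

open Subgroup
open scoped commutatorElement

universe u

variable {L : Type u} [Group L]

/-- If `A ≤ [A, H] B` and the lower central series of `H` reaches `B`, then `A ≤ B`. -/
theorem le_of_le_commutator_sup {A B H : Subgroup L} [B.Normal] [H.Normal] (hAH : A ≤ H) {n : ℕ}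
    (hn : H.lowerCentralSeries n ≤ B) (h : A ≤ ⁅A, H⁆ ⊔ B) : A ≤ B := by
  have key : ∀ k, A ≤ H.lowerCentralSeries k ⊔ B := by
    intro k
    induction k with
    | zero => exact hAH.trans le_sup_left
    | succ k ih =>
      refine h.trans (sup_le ?_ le_sup_right)
      rw [Subgroup.commutator_le]
      intro a ha y hy
      haveI hlcs : ∀ j, (H.lowerCentralSeries j).Normal := fun j => by
        induction j with
        | zero => exact ‹H.Normal›
        | succ j _ => rw [Subgroup.lowerCentralSeries_succ]; infer_instance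
      obtain ⟨g, hg, b, hb, rfl⟩ := Subgroup.mem_sup_of_normal_right.1 (ih ha)
      rw [show ⁅g * b, y⁆ = g * ⁅b, y⁆ * g⁻¹ * ⁅g, y⁆ by simp [commutatorElement_def, mul_assoc]]
      refine mul_mem (mem_sup_right (Subgroup.Normal.conj_mem ‹B.Normal› _ ?_ g))
        (mem_sup_left ?_)
      · exact Subgroup.commutator_le_left B H (commutator_mem_commutator hb hy)
      · rw [Subgroup.lowerCentralSeries_succ]
        exact commutator_mem_commutator hg hy
  exact (key n).trans (sup_le hn le_rfl)

/-- Nilpotency of `H / M` puts a term of the lower central series of `H` inside `M`. -/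
theorem exists_lcs_le {M H : Subgroup L} [(M.subgroupOf H).Normal]
    (hnil : Group.IsNilpotent (↥H ⧸ M.subgroupOf H)) : ∃ n, H.lowerCentralSeries n ≤ M := by
  obtain ⟨n, hn⟩ := Subgroup.nilpotent_iff_lowerCentralSeries.1 hnil
  refine ⟨n, ?_⟩
  rw [← top_subtype_lowerCentralSeries]
  rintro _ ⟨x, hx, rfl⟩
  have h : QuotientGroup.mk' (M.subgroupOf H) x ∈
      ((⊤ : Subgroup H).lowerCentralSeries n).map (QuotientGroup.mk' _) := ⟨x, hx, rfl⟩
  rw [Subgroup.map_lowerCentralSeries, ← MonoidHom.range_eq_map,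
    MonoidHom.range_eq_top.2 (QuotientGroup.mk'_surjective _), hn, mem_bot] at h
  exact mem_subgroupOf.1 ((QuotientGroup.eq_one_iff x).1 h)

/-- A cyclic abelianisation makes a nilpotent section abelian. -/
theorem commutator_le_of_cyclic {M K : Subgroup L} [M.Normal] [K.Normal] {n : ℕ}
    (hn : K.lowerCentralSeries n ≤ M) {g : L} (_hg : g ∈ K)
    (hgen : K ≤ zpowers g ⊔ (⁅K, K⁆ ⊔ M)) : ⁅K, K⁆ ≤ M := by
  set C := ⁅K, K⁆ with hC
  refine le_of_le_commutator_sup (H := K) (Subgroup.commutator_le_left K K) hn ?_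
  set T := ⁅C, K⁆ ⊔ M with hT
  let q := QuotientGroup.mk' T
  have hc : ∀ h ∈ C ⊔ M, ∀ y ∈ K, Commute (q h) (q y) := by
    intro h hh y hy
    rw [← commutatorElement_eq_one_iff_commute, ← map_commutatorElement]
    refine (QuotientGroup.eq_one_iff _).2 ?_
    obtain ⟨c, hc, b, hb, rfl⟩ := mem_sup_of_normal_right.1 hh
    rw [show ⁅c * b, y⁆ = c * ⁅b, y⁆ * c⁻¹ * ⁅c, y⁆ by simp [commutatorElement_def, mul_assoc]]
    exact mul_mem (mem_sup_right (Subgroup.Normal.conj_mem ‹M.Normal› _
      (Subgroup.commutator_le_left M K (commutator_mem_commutator hb hy)) c))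
      (mem_sup_left (commutator_mem_commutator hc hy))
  rw [hC, Subgroup.commutator_le]
  intro x hx y hy
  refine (QuotientGroup.eq_one_iff (N := T) _).1 ?_
  show q ⁅x, y⁆ = 1
  rw [map_commutatorElement, commutatorElement_eq_one_iff_commute]
  obtain ⟨a, ha, h, hh, rfl⟩ := mem_sup_of_normal_right.1 (hgen hx)
  obtain ⟨b, hb, k, hk, rfl⟩ := mem_sup_of_normal_right.1 (hgen hy)
  obtain ⟨i, rfl⟩ := mem_zpowers_iff.1 ha
  obtain ⟨j, rfl⟩ := mem_zpowers_iff.1 hb
  have hcK : C ⊔ M ⊓ K ≤ C ⊔ M := sup_le_sup_left inf_le_left _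
  rw [map_mul q, map_mul q]
  have e1 : Commute (q (g ^ i)) (q (g ^ j)) := by
    rw [map_zpow, map_zpow]; exact Commute.zpow_zpow_self _ _ _
  have hkK : k ∈ K := by
    have := mul_mem (inv_mem (zpow_mem _hg j)) hy
    rwa [inv_mul_cancel_left] at this
  have e2 : Commute (q h) (q (g ^ j)) := hc h hh _ (zpow_mem _hg j)
  have e3 : Commute (q (g ^ i)) (q k) := (hc k hk _ (zpow_mem _hg i)).symm
  have e4 : Commute (q h) (q k) := hc h hh k hkK
  exact (e1.mul_right e3).mul_left (e2.mul_right e4)

/-- A prime divisor of the order of a nilpotent section divides that of its abelianisation. -/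
theorem prime_dvd_abelianisation [Finite L] {M K : Subgroup L} [M.Normal] [K.Normal]
    (hnil : Group.IsNilpotent (↥K ⧸ M.subgroupOf K)) {q : ℕ} (hq : q.Prime)
    (hdvd : q ∣ M.relIndex K) : q ∣ (⁅K, K⁆ ⊔ M).relIndex K := by
  haveI := Fact.mk hq
  set Q := ↥K ⧸ M.subgroupOf K
  obtain ⟨P⟩ : Nonempty (Sylow q Q) := inferInstance
  obtain ⟨U, hU⟩ := exists_right_complement'_of_coprime P.card_coprime_index
  have hUtop : U ≠ ⊤ := fun e => by
    have h1 := hU.card_mul
    rw [e, card_top] at h1
    have h2 : q ∣ Nat.card (P : Subgroup Q) := by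
      refine P.dvd_card_of_dvd_card ?_
      exact hdvd
    rw [Nat.mul_eq_right Nat.card_pos.ne'] at h1
    rw [h1, Nat.dvd_one] at h2
    exact hq.ne_one h2
  obtain hU' | ⟨W, hW, hUW⟩ := eq_top_or_exists_le_coatom U
  · exact absurd hU' hUtop
  haveI : W.Normal := NormalizerCondition.normal_of_coatom W normalizerCondition_of_isNilpotent hW
  have hWidx : W.index ∣ Nat.card (P : Subgroup Q) := by
    rw [← hU.index_eq_card]
    exact index_dvd_of_le hUW
  have hW1 : W.index ≠ 1 := fun e => hW.1 (index_eq_one.1 e)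
  obtain ⟨r, hr⟩ := P.isPGroup'.exists_card_eq
  rw [hr, Nat.dvd_prime_pow hq] at hWidx
  obtain ⟨j, -, hj⟩ := hWidx
  have hqW : q ∣ W.index := by
    rcases Nat.eq_zero_or_pos j with rfl | hj0
    · exact absurd (by simpa using hj) hW1
    · exact hj ▸ dvd_pow_self q hj0.ne'
  have hcomm : _root_.commutator Q ≤ W := by
    haveI : IsSimpleGroup (Q ⧸ W) := by
      haveI : Nontrivial (Q ⧸ W) := QuotientGroup.nontrivial_iff.2 hW.1
      refine ⟨fun N hN => ?_⟩
      rcases hW.le_iff.1 (QuotientGroup.le_comap_mk' W N) with h | h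
      · right
        rw [← map_comap_eq_self_of_surjective (QuotientGroup.mk'_surjective W) N, h]
        exact Subgroup.map_top_of_surjective _ (QuotientGroup.mk'_surjective W)
      · left
        rw [← map_comap_eq_self_of_surjective (QuotientGroup.mk'_surjective W) N, h]
        exact (Subgroup.map_eq_bot_iff _).2 (QuotientGroup.ker_mk' W).ge
    haveI : Group.IsNilpotent Q := hnil
    haveI : Group.IsSolvable (Q ⧸ W) := inferInstance
    exact Subgroup.Normal.quotient_commutative_iff_commutator_le.1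
      ⟨⟨fun a b => IsSimpleGroup.comm_iff_isSolvable.2 inferInstance a b⟩⟩
  have hle : (⁅K, K⁆ ⊔ M).subgroupOf K ≤ W.comap (QuotientGroup.mk' (M.subgroupOf K)) := by
    intro x hx
    obtain ⟨c, hc, b, hb, e⟩ := mem_sup_of_normal_right.1 (mem_subgroupOf.1 hx)
    rw [← map_subtype_commutator, Subgroup.mem_map] at hc
    obtain ⟨c', hc', rfl⟩ := hc
    have hbK : b ∈ K := by
      have := mul_mem (inv_mem c'.2) x.2
      rwa [← e, Subgroup.coe_subtype, inv_mul_cancel_left] at this
    have : x = c' * ⟨b, hbK⟩ := Subtype.ext e.symm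
    rw [this, mem_comap, map_mul]
    refine mul_mem (hcomm ?_) ?_
    · have h : QuotientGroup.mk' (M.subgroupOf K) c' ∈
          (_root_.commutator ↥K).map (QuotientGroup.mk' (M.subgroupOf K)) :=
        Subgroup.mem_map_of_mem _ hc'
      rw [commutator_def, Subgroup.map_commutator] at h
      exact Subgroup.commutator_mono le_top le_top h
    · have hb1 : QuotientGroup.mk' (M.subgroupOf K) ⟨b, hbK⟩ = 1 :=
        (QuotientGroup.eq_one_iff _).2 (mem_subgroupOf.2 hb)
      rw [hb1]
      exact one_mem W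
  have := index_dvd_of_le hle
  rw [index_comap_of_surjective _ (QuotientGroup.mk'_surjective _)] at this
  exact hqW.trans this

/-- An action all whose stabilisers are one subgroup `C` has cardinality divisible by `[Q : C]`. -/
theorem index_dvd_card_of_stabilizer_eq {Q X : Type*} [Group Q] [MulAction Q X] [Finite X]
    (C : Subgroup Q) (h : ∀ x : X, MulAction.stabilizer Q x = C) : C.index ∣ Nat.card X := by
  haveI : Fintype (Quotient (MulAction.orbitRel Q X)) := Fintype.ofFinite _
  rw [Nat.card_congr (MulAction.selfEquivSigmaOrbits Q X), Nat.card_sigma]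
  refine Finset.dvd_sum fun ω _ => ?_
  rw [Nat.card_coe_set_eq, ← MulAction.index_stabilizer, h]

/-- In `L / H` with `K / H` abelian, self-centralising on its nonidentity elements, every normal
section `N / H` of `K / H` has order congruent to `1` modulo `[L : K]`. -/
theorem relIndex_mod_index [Finite L] {H K N : Subgroup L} [H.Normal] [N.Normal]
    (hHN : H ≤ N) (hNK : N ≤ K) (hab : ⁅K, K⁆ ≤ H)
    (hfrob : ∀ k ∈ K, k ∉ H → ∀ x : L, x * k * x⁻¹ * k⁻¹ ∈ H → x ∈ K) :
    ∃ t, H.relIndex N = 1 + K.index * t := by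
  set q := QuotientGroup.mk' H
  have hq : Function.Surjective q := QuotientGroup.mk'_surjective H
  set Nb := N.map q with hNb
  haveI : Nb.Normal := Normal.map ‹N.Normal› q hq
  let X := {x : L ⧸ H // x ∈ Nb ∧ x ≠ 1}
  letI : MulAction (L ⧸ H) X :=
    { smul := fun g x => ⟨g * x * g⁻¹, Normal.conj_mem inferInstance _ x.2.1 g, fun e => x.2.2 (by
        simpa using e)⟩
      one_smul := fun x => Subtype.ext (show 1 * (x : L ⧸ H) * 1⁻¹ = x by simp)
      mul_smul := fun g g' x => Subtype.ext (show (g * g') * (x : L ⧸ H) * (g * g')⁻¹ =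
        g * (g' * x * g'⁻¹) * g⁻¹ by simp [mul_assoc]) }
  have hstab : ∀ x : X, MulAction.stabilizer (L ⧸ H) x = K.map q := by
    rintro ⟨_, ⟨a, ha, rfl⟩, h1⟩
    have haH : a ∉ H := fun h => h1 ((QuotientGroup.eq_one_iff a).2 h)
    ext g
    obtain ⟨y, rfl⟩ := hq g
    rw [MulAction.mem_stabilizer_iff]
    have key : (q y * q a * (q y)⁻¹ = q a) ↔ y * a * y⁻¹ * a⁻¹ ∈ H := by
      rw [← map_inv, ← map_mul, ← map_mul, ← mul_inv_eq_one, ← map_inv, ← map_mul]
      exact QuotientGroup.eq_one_iff _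
    refine Subtype.ext_iff.trans (key.trans ⟨fun h => ⟨y, hfrob a (hNK ha) haH y h, rfl⟩, ?_⟩)
    rintro ⟨y', hy', e⟩
    have h' : ⁅y', a⁆ ∈ H := hab (commutator_mem_commutator hy' (hNK ha))
    rw [commutatorElement_def] at h'
    rw [← QuotientGroup.eq_one_iff (N := H)] at h' ⊢
    simp only [QuotientGroup.mk_mul, QuotientGroup.mk_inv] at h' ⊢
    rw [show (y : L ⧸ H) = (y' : L ⧸ H) from e.symm]
    exact h'
  obtain ⟨t, ht⟩ := index_dvd_card_of_stabilizer_eq (X := X) _ hstab
  have hcard : Nat.card Nb = 1 + Nat.card X := by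
    classical
    haveI := Fintype.ofFinite (L ⧸ H)
    rw [Nat.card_eq_fintype_card (α := X), Fintype.card_subtype, Nat.card_eq_fintype_card,
      Fintype.card_subtype]
    rw [← Finset.card_insert_of_notMem (a := (1 : L ⧸ H)) (by simp) |>.trans (add_comm _ _)]
    congr 1
    ext x
    simp only [Finset.mem_filter, Finset.mem_univ, true_and, Finset.mem_insert]
    exact ⟨fun h => (em (x = 1)).imp id fun h1 => ⟨h, h1⟩,
      fun h => h.elim (fun h => h ▸ one_mem Nb) And.left⟩
  have hidx : (K.map q).index = K.index :=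
    index_map_eq K hq (by rw [QuotientGroup.ker_mk']; exact hHN.trans hNK)
  refine ⟨t, ?_⟩
  rw [← hidx, ← ht, ← hcard, hNb, ← relIndex_ker, QuotientGroup.ker_mk']

end Cfsg.Agent.OddOrder.PF6
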