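import Cfsg.Agent.OddOrder.PF6.Glue
import Cfsg.Agent.H28.FrobCoherence
import Cfsg.Agent.S1523

/-!
# Sibley's coherence theorem for a trivial-intersection Frobenius kernel (Peterfalvi 6.8)
-/

set_option autoImplicit false

namespace Cfsg.Agent.OddOrder.PF6

open Cfsg.Agent Cfsg.Agent.CharInduce Finset
open scoped commutatorElement

universe u

section Degree

variable {L : Type u} [Group L] [Fintype L] {K : Subgroup L} [hK : K.Normal]

omit hK in
theorem seqInd_derived_degree {C : Subgroup L} (hC : ⁅K, K⁆ ≤ C) {φ : L → ℂ}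
    (hφ : φ ∈ seqInd K C) : φ 1 = (K.index : ℂ) := by
  obtain ⟨θ, hθ, m, hm0, -, hm, hd⟩ := seqInd_degree K hφ
  have h := theta_degree_bound K (C := K) (D := K) le_rfl (fun x hx y hy => by
    have := hC (Subgroup.commutator_mem_commutator hx hy)
    rwa [commutatorElement_def] at this) le_rfl hθ hm
  rw [Subgroup.relIndex_self, one_pow, one_mul] at h
  have : m = 1 := by nlinarith
  rw [hd, this, mul_one]

omit hK in
theorem degree_sq_le_central {A Z : Subgroup L} (hZc : ∀ z ∈ Z, ∀ k ∈ K, z * k = k * z)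
    {θ : IrrCharacter K} (_hθ : θ ∈ thetas K A) {m : ℕ} (hm : (θ : K → ℂ) 1 = m) :
    m ^ 2 ≤ (Z.subgroupOf K).index := by
  haveI := Fintype.ofFinite K
  have h := degree_sq_mul_le θ.2 (Z.subgroupOf K) hm fun x hx =>
    norm_eq_of_commutator_mem θ.2 x fun c => by
      refine congrArg (θ : K → ℂ) (Subtype.ext ?_)
      push_cast
      rw [hZc _ (Subgroup.mem_subgroupOf.1 hx) _ c.2]
      group
  rw [← (Z.subgroupOf K).card_mul_index, mul_comm] at h
  exact Nat.le_of_mul_le_mul_left h Nat.card_pos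

/-- In a group of odd order a nontrivial normal subgroup, central in `K` and centralised only
by `K`, has order at least `2e + 1`. -/
theorem two_index_lt_card {K : Subgroup L} [K.Normal] (hodd : Odd (Nat.card L)) (Z : Subgroup L)
    [Z.Normal] (hF : ∀ z ∈ Z, z ≠ 1 → Subgroup.centralizer ({z} : Set L) ≤ K)
    (hZ1 : Z ≠ ⊥) (hZc : ∀ z ∈ Z, ∀ k ∈ K, z * k = k * z) :
    2 * K.index + 1 ≤ Nat.card Z := by
  classical
  let X := {z : L // z ∈ Z ∧ z ≠ 1}
  letI : MulAction L X :=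
    { smul := fun g z => ⟨g * z * g⁻¹, Subgroup.Normal.conj_mem inferInstance _ z.2.1 g, fun e =>
        z.2.2 (by simpa using e)⟩
      one_smul := fun z => Subtype.ext (show 1 * (z : L) * 1⁻¹ = z by simp)
      mul_smul := fun g g' z => Subtype.ext (show (g * g') * (z : L) * (g * g')⁻¹ =
        g * (g' * z * g'⁻¹) * g⁻¹ by simp [mul_assoc]) }
  have hstab : ∀ z : X, MulAction.stabilizer L z = K := fun z => by
    ext g
    refine Subtype.ext_iff.trans ⟨fun h => ?_, fun h => ?_⟩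
    · exact hF z z.2.1 z.2.2 (Subgroup.mem_centralizer_singleton_iff.2
        (mul_inv_eq_iff_eq_mul.1 h))
    · show g * (z : L) * g⁻¹ = z
      rw [mul_inv_eq_iff_eq_mul, hZc z z.2.1 g h]
  obtain ⟨t, ht⟩ := index_dvd_card_of_stabilizer_eq (X := X) _ hstab
  have hcard : Nat.card Z = 1 + Nat.card X := by
    rw [Nat.card_eq_fintype_card (α := X), Fintype.card_subtype, Nat.card_eq_fintype_card,
      Fintype.card_subtype]
    rw [← Finset.card_insert_of_notMem (a := (1 : L)) (by simp) |>.trans (add_comm _ _)]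
    congr 1
    ext x
    simp only [Finset.mem_filter, Finset.mem_univ, true_and, Finset.mem_insert]
    exact ⟨fun h => (em (x = 1)).imp id fun h1 => ⟨h, h1⟩,
      fun h => h.elim (fun h => h ▸ one_mem Z) And.left⟩
  exact two_mul_le_of_eq (Odd.of_dvd_nat hodd (Subgroup.index_dvd_card K))
    (Odd.of_dvd_nat hodd (Subgroup.card_subgroup_dvd_card Z)) (hcard.trans (by rw [ht]))
    fun e => hZ1 (Subgroup.card_eq_one.1 e)

end Degree

section TI

variable {G : Type u} [Group G] [Fintype G] {H N : Subgroup G} [Fintype N]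

/-- Induction is an isometry on the combinations of `S` vanishing at `1`. -/
theorem isometry_indFun (hN : Subgroup.normalizer (H : Set G) = N)
    (hTI : Cfsg.IsTISubset (H : Set G)) [(H.subgroupOf N).Normal] :
    Cfsg.IsLinearIsometryOn
      (Cfsg.zspanOn (↑(seqInd (H.subgroupOf N) ⊥) :
        Set (N → ℂ)) {1}ᶜ)
      (Cfsg.indFun N) ∧
    ∀ α ∈ Cfsg.zspanOn (↑(seqInd (H.subgroupOf N) ⊥) :
        Set (N → ℂ)) {1}ᶜ,
      Cfsg.indFun N α 1 = 0 := by
  subst hN
  set K := H.subgroupOf (Subgroup.normalizer (H : Set G)) with hK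
  have hchar : ∀ φ ∈ (↑(seqInd K ⊥) : Set (Subgroup.normalizer (H : Set G) → ℂ)), Cfsg.IsCharacter _ φ := fun φ h => by
    obtain ⟨θ, -, rfl⟩ := (mem_seqInd K).1 h
    exact IsChar.ind K (CharBasic.IsIrr.isCharacter θ.2)
  have hgen : ∀ α ∈ Cfsg.zspan (↑(seqInd K ⊥) : Set (Subgroup.normalizer (H : Set G) → ℂ)), Cfsg.IsGeneralizedCharacter _ α :=
    fun α hα => gen_of_mem_zspan hchar hα
  have hoff : ∀ α ∈ Cfsg.zspan (↑(seqInd K ⊥) : Set (Subgroup.normalizer (H : Set G) → ℂ)), ∀ x : Subgroup.normalizer (H : Set G), (x : G) ∉ H → α x = 0 :=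
    fun α hα x hx => Submodule.span_induction (p := fun f _ => f x = 0)
      (fun f hf => seqInd_vanish hf fun h => hx (Subgroup.mem_subgroupOf.1 h)) rfl
      (fun f g _ _ h1 h2 => by simp [h1, h2]) (fun n f _ h1 => by simp [h1]) hα
  refine ⟨⟨fun a _ b _ => indFun_add _ a b, fun a _ n => ?_, fun a ha b hb => ?_,
    fun a ha => IsGen.ind _ (hgen a ha.1)⟩, fun α hα => ?_⟩
  · rw [← Int.cast_smul_eq_zsmul ℂ, indFun_smul, Int.cast_smul_eq_zsmul]
  · exact classInner_indFun_of_ti hTI a b (H43.gen_isClassFunction (hgen b hb.1)) (hoff a ha.1)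
      (hoff b hb.1) (H43.zspanOn_compl_one.1 ha).2
  · rw [indFun_one, (H43.zspanOn_compl_one.1 hα).2, mul_zero]

omit [Fintype N] in
/-- A `p`-subgroup of index prime to `p` in its normaliser is a Sylow subgroup. -/
theorem exists_sylow_eq {p : ℕ} [Fact p.Prime] (hN : Subgroup.normalizer (H : Set G) = N)
    (hle : H ≤ N) (hHp : IsPGroup p H) (hcop : p.Coprime (H.subgroupOf N).index) :
    ∃ P : Sylow p G, (P : Subgroup G) = H := by
  obtain ⟨P, hHP⟩ := hHp.exists_le_sylow
  refine ⟨P, ?_⟩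
  haveI : (H.subgroupOf N).Normal := by
    subst hN
    exact Subgroup.normal_in_normalizer
  refine le_antisymm ?_ hHP
  by_contra hnle
  haveI : Group.IsNilpotent (P : Subgroup G) := P.isPGroup'.isNilpotent
  have hlt₂ : H.subgroupOf P < ⊤ := lt_top_iff_ne_top.2 fun e => hnle (Subgroup.subgroupOf_eq_top.1 e)
  obtain ⟨y, hy, hyH⟩ := SetLike.exists_of_lt
    (Group.normalizerCondition_of_isNilpotent (G := (P : Subgroup G)) _ hlt₂)
  have hyN : (y : G) ∈ N := by
    rw [← hN, Subgroup.mem_normalizer_iff]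
    intro g
    constructor
    · intro hg
      exact (Subgroup.mem_normalizer_iff.1 hy ⟨g, hHP hg⟩).1 hg
    · intro hg
      have hgP : g ∈ (P : Subgroup G) := by
        have := mul_mem (mul_mem (inv_mem y.2) (hHP hg)) y.2
        simpa [mul_assoc] using this
      exact (Subgroup.mem_normalizer_iff.1 hy ⟨g, hgP⟩).2 hg
  have hyK : (⟨y, hyN⟩ : N) ∉ H.subgroupOf N := fun h => hyH (Subgroup.mem_subgroupOf.1 h)
  obtain ⟨k, hk⟩ := P.isPGroup' y
  apply hyK
  rw [← QuotientGroup.eq_one_iff (N := H.subgroupOf N), ← orderOf_eq_one_iff]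
  refine Nat.eq_one_of_dvd_coprimes (a := (H.subgroupOf N).index) (b := p ^ k) ?_ ?_ ?_
  · exact Nat.Coprime.pow_right k hcop.symm
  · rw [Subgroup.index_eq_card]
    exact orderOf_dvd_natCard _
  · refine orderOf_dvd_of_pow_eq_one ?_
    rw [← QuotientGroup.mk_pow, show (⟨y, hyN⟩ : N) ^ p ^ k = 1 from Subtype.ext (by
      simpa using congrArg Subtype.val hk), QuotientGroup.mk_one]

/-- Peterfalvi (6.8) for a Frobenius group: coherence of `S`. -/
theorem sibley (hN : Subgroup.normalizer (H : Set G) = N) (hnil : Group.IsNilpotent H) (hH1 : H ≠ ⊥)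
    (hlt : H < N) (hTI : Cfsg.IsTISubset (H : Set G)) (hodd : Odd (Nat.card N))
    (hC : ∀ h ∈ H, h ≠ 1 → N ⊓ Subgroup.centralizer ({h} : Set G) ≤ H) :
    Cfsg.IsCoherent (Cfsg.inducedIrrAbove (H.subgroupOf N) ⊥) {1}ᶜ (Cfsg.indFun N) := by
  classical
  set K := H.subgroupOf N with hK
  haveI : K.Normal := by
    subst hN
    exact Subgroup.normal_in_normalizer
  have hF : H28.Frob.IsFrobKer K := fun h hh h1 x hx => by
    refine Subgroup.mem_subgroupOf.2 (hC h (Subgroup.mem_subgroupOf.1 hh)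
      (fun e => h1 (Subtype.ext e)) ⟨x.2, ?_⟩)
    exact Subgroup.mem_centralizer_singleton_iff.2
      (congrArg Subtype.val (Subgroup.mem_centralizer_singleton_iff.1 hx))
  have hKnil : Group.IsNilpotent K := (Group.isNilpotent_congr (Subgroup.subgroupOfEquivOfLe hlt.le)).2 hnil
  have hsolv : Group.IsSolvable K := inferInstance
  have hKL : K < ⊤ := lt_top_iff_ne_top.2 fun e => hlt.not_ge (Subgroup.subgroupOf_eq_top.1 e)
  have hK1 : K ≠ ⊥ := fun e => hH1 <| by
    have := Subgroup.map_subgroupOf_eq_of_le hlt.le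
    rw [← hK, e, Subgroup.map_bot] at this
    exact this.symm
  obtain ⟨hτ, hτ1⟩ := isometry_indFun hN hTI
  have hne := seqInd_nonempty (K := K) hsolv (A := ⊥) (bot_lt_iff_ne_bot.2 hK1)
  obtain ⟨R, hS⟩ := exists_system hF hodd hKL hne hτ hτ1
  have hder := derived_lt hKnil hK1
  have hfrob := mem_of_commutator_mem_derived hF
  haveI : ((⊥ : Subgroup N).subgroupOf K).Normal := inferInstance
  have hchief : ((¬ ∃ p m : ℕ, p.Prime ∧ (⊥ : Subgroup N).relIndex K = p ^ m) ∨ ⁅K, K⁆ ≤ ⊥) →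
      Cfsg.IsCoherent (Cfsg.inducedIrrAbove K ⊥) {1}ᶜ (Cfsg.indFun N) := fun h =>
    coherent_seqInd_chief hsolv hS hodd ⊥ bot_le inferInstance ⁅K, K⁆ (sup_bot_eq _).symm hder hKL
      hfrob (h.elim (fun h => Or.inr (Or.inr (Or.inl h))) fun h => Or.inr (Or.inr (Or.inr (Or.inl h))))
  by_cases hpp : ∃ p m : ℕ, p.Prime ∧ (⊥ : Subgroup N).relIndex K = p ^ m
  swap
  · exact hchief (Or.inl hpp)
  by_cases hab : ⁅K, K⁆ ≤ ⊥
  · exact hchief (Or.inr hab)
  obtain ⟨p, r, hp, hr⟩ := hpp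
  rw [Subgroup.relIndex_bot_left] at hr
  haveI := Fact.mk hp
  have hcop : (Nat.card K).Coprime K.index := H28.Frob.coprime_index hF
  obtain ⟨Z, hZn, hZ1, hZC, hZc⟩ := exists_central hKnil fun e => hab (e ▸ le_rfl)
  haveI := hZn
  have hZK : Z ≤ K := hZC.trans hder.le
  -- `H` is a Sylow subgroup
  obtain ⟨P, hPH⟩ := exists_sylow_eq (p := p) hN hlt.le (IsPGroup.of_card (n := r)
    (show Nat.card H = p ^ r by
      rw [← hr, Nat.card_congr (Subgroup.subgroupOfEquivOfLe hlt.le).toEquiv]))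
    (hcop.coprime_dvd_left (by
      rw [hr]
      exact dvd_pow_self p fun e => hK1 (Subgroup.card_eq_one.1 (by rw [hr, e, pow_zero]))))
  -- divisibility of character values
  have hdiv : ∀ θ : G → ℂ, Cfsg.IsIrrCharacter G θ →
      (∀ z ∈ Z, ∀ z' ∈ Z, z ≠ 1 → z' ≠ 1 → θ (z : G) = θ (z' : G)) → ∀ z ∈ Z, z ≠ 1 →
      ∃ n d : ℤ, θ (z : G) = n ∧ θ 1 = d ∧ (Nat.card K : ℤ) ∣ d - n := by
    intro θ hθ hconst z hz hz1
    have hmemP : ∀ {w : N}, w ∈ K → (w : G) ∈ (P : Subgroup G) := fun h => by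
      rw [hPH]; exact Subgroup.mem_subgroupOf.1 h
    have hne1 : ∀ {w : G}, w ∈ Z.map N.subtype → w ≠ 1 →
        ∃ w' : N, w' ∈ Z ∧ w' ≠ 1 ∧ (w' : G) = w := by
      rintro _ ⟨w', hw', rfl⟩ h1
      exact ⟨w', hw', fun e => h1 (by rw [e]; rfl), rfl⟩
    have hNP : Subgroup.normalizer ((P : Subgroup G) : Set G) = N := by rw [hPH, hN]
    obtain ⟨n, d, hn, hd, hdvd⟩ := Cfsg.Agent.S1523.result p P (by rw [hPH]; exact hTI)
      (by rw [hNP]; exact hodd) (Z.map N.subtype)
      (fun e => hZ1 ((Subgroup.map_eq_bot_iff_of_injective _ N.subtype_injective).1 e))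
      (by rintro _ ⟨w, hw, rfl⟩; exact hmemP (hZK hw))
      (by
        rintro x hx _ ⟨w, hw, rfl⟩
        rw [hNP] at hx
        exact ⟨⟨x, hx⟩ * w * ⟨x, hx⟩⁻¹, hZn.conj_mem w hw _, rfl⟩)
      (by
        rintro _ ⟨w, hw, rfl⟩ y hy
        rw [hPH] at hy
        have := hZc w hw ⟨y, hlt.le hy⟩ (Subgroup.mem_subgroupOf.2 hy)
        exact congrArg Subtype.val this)
      (by
        have key : ∀ w ∈ Z.map N.subtype, w ≠ 1 →
            Subgroup.normalizer ((P : Subgroup G) : Set G) ⊓ Subgroup.centralizer ({w} : Set G) = H := by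
          intro w hw hw1
          obtain ⟨w', hw', hw'1, rfl⟩ := hne1 hw hw1
          rw [hNP]
          refine le_antisymm (hC _ (Subgroup.mem_subgroupOf.1 (hZK hw')) hw1) fun y hy => ⟨hlt.le hy, ?_⟩
          refine Subgroup.mem_centralizer_singleton_iff.2 ?_
          have := hZc w' hw' ⟨y, hlt.le hy⟩ (Subgroup.mem_subgroupOf.2 hy)
          exact (congrArg Subtype.val this).symm
        intro a ha b hb ha1 hb1
        rw [key a ha ha1, key b hb hb1])
      θ hθ
      (by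
        intro a ha b hb ha1 hb1
        obtain ⟨a', ha', ha'1, rfl⟩ := hne1 ha ha1
        obtain ⟨b', hb', hb'1, rfl⟩ := hne1 hb hb1
        exact hconst a' ha' b' hb' ha'1 hb'1)
      (z : G) ⟨z, hz, rfl⟩ (fun e => hz1 (Subtype.ext e))
    refine ⟨n, d, hn, hd, ?_⟩
    rwa [Nat.card_congr (Subgroup.subgroupOfEquivOfLe hlt.le).toEquiv, ← hPH]
  -- the two coherent parts
  set C := ⁅K, K⁆ with hCdef
  have hCn : C.Normal := inferInstance
  have hirrX : ∀ χ ∈ outside K Z, Cfsg.IsIrrCharacter N χ := fun χ h =>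
    seqInd_irr hF (mem_outside.1 h).1
  have hX := coherent_outside hsolv hS hodd hKnil hder hKL hfrob Z hZ1 hZK hZc hirrX
  have hYne := seqInd_nonempty (K := K) hsolv hder
  have hY : Cfsg.IsCoherent (↑(seqInd K C) : Set (N → ℂ)) {1}ᶜ (Cfsg.indFun N) :=
    coherent_const_degree hS (seqInd_subset_inducedIrr C) (by simpa using hYne)
      (fun φ h => seqInd_conj K h) fun φ hφ ψ hψ => by
        rw [seqInd_derived_degree le_rfl hφ, seqInd_derived_degree le_rfl hψ]
  have hXne := outside_nonempty (K := K) hZ1 hZK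
  have hXY := coherent_glue hτ hτ1 Z C hZC hZK hX hY hXne hYne
    (fun η hη => seqInd_derived_degree le_rfl hη) hdiv (fun ξ hξ => by
      obtain ⟨-, -, m, hm0, -, -, hd⟩ := seqInd_degree K (mem_outside.1 hξ).1
      exact ⟨m, hm0, hd⟩)
    (fun φ h => seqInd_irr hF (h.elim (fun h => (mem_outside.1 h).1) fun h => seqInd_subset_bot K C h))
    (fun φ h => seqInd_conj_ne hF hodd hKL
      (h.elim (fun h => (mem_outside.1 h).1) fun h => seqInd_subset_bot K C h)) hZ1
  rw [← coe_union] at hXY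
  have hsub : outside K Z ∪ seqInd K C ⊆ seqInd K ⊥ :=
    union_subset (fun φ h => (mem_outside.1 h).1) (seqInd_subset_bot K C)
  rw [← coe_seqInd]
  refine coherent_of_step hS (seqInd K ⊥) (seqInd_subset_inducedIrr ⊥) hne
    (fun φ h => seqInd_conj K h) (outside K Z ∪ seqInd K C)
    ((coe_subset.2 hsub).trans (seqInd_subset_inducedIrr ⊥))
    (fun φ h => (mem_union.1 h).elim (fun h => mem_union_left _ (outside_conj h))
      fun h => mem_union_right _ (seqInd_conj K h)) hXY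
    fun T h0 hTS hTc hTcoh hne' => ?_
  obtain ⟨χ, hχ⟩ := hne'
  refine ⟨χ, hχ, ?_⟩
  rw [Finset.mem_sdiff] at hχ
  obtain ⟨η₀, hη₀⟩ := hYne
  obtain ⟨θ, hθ, m, hm0, -, hm, hd⟩ := seqInd_degree K hχ.1
  refine coherent_insert_pair hS hTS hTc hTcoh (seqInd_subset_inducedIrr ⊥ hχ.1) hχ.2
    (h0 (mem_union_right _ hη₀)) (seqInd_derived_degree le_rfl hη₀) hd (dvd_mul_right _ _) ?_
  refine lt_of_lt_of_le ?_ (sum_le_sum_of_subset_of_nonneg h0 fun φ _ _ => weight_nonneg φ)
  have hdisj : Disjoint (outside K Z) (seqInd K C) := Finset.disjoint_left.2 fun φ h h' =>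
    (mem_outside.1 h).2 (seqInd_mono K hZC h')
  rw [sum_union hdisj]
  have hsumX : ∑ φ ∈ outside K Z, weight φ
      = (K.index : ℝ) * ((Nat.card K : ℝ) - ((Z.subgroupOf K).index : ℝ)) := by
    have h1 := sum_sdiff (f := weight (L := N)) (seqInd_subset_bot K Z)
    rw [← outside, sum_weight_seqInd K Z, sum_weight_seqInd K ⊥, Subgroup.relIndex_bot_left,
      Subgroup.relIndex] at h1
    linarith
  have hsumY : 0 < ∑ φ ∈ seqInd K C, weight φ := by
    refine sum_pos (fun φ hφ => ?_) ⟨η₀, hη₀⟩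
    rw [weight, seqInd_derived_degree le_rfl hφ, CharBasic.classInner_irr_self (seqInd_irr hF hφ),
      Complex.natCast_re, Complex.one_re, div_one]
    have : (0 : ℝ) < K.index :=
      Nat.cast_pos.2 (Nat.pos_of_ne_zero Subgroup.FiniteIndex.index_ne_zero)
    positivity
  have h1 := degree_sq_le_central (K := K) (A := ⊥) hZc hθ hm
  have h2 := two_index_lt_card hodd Z (fun z hz h1 => hF z (hZK hz) h1) hZ1 hZc
  have h3 : Nat.card Z * (Z.subgroupOf K).index = Nat.card K := by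
    rw [← Nat.card_congr (Subgroup.subgroupOfEquivOfLe hZK).toEquiv, Subgroup.card_mul_index]
  have h4 : 2 * K.index * m + (Z.subgroupOf K).index ≤ Nat.card K := by
    have : m ≤ m ^ 2 := Nat.le_self_pow two_ne_zero m
    nlinarith
  have h5 : ((2 * K.index * m : ℕ) : ℝ) + ((Z.subgroupOf K).index : ℝ) ≤ (Nat.card K : ℝ) := by
    exact_mod_cast h4
  push_cast at h5 ⊢
  rw [hsumX]
  have he : (0 : ℝ) ≤ K.index := Nat.cast_nonneg _
  nlinarith [mul_le_mul_of_nonneg_left h5 he]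

end TI

end Cfsg.Agent.OddOrder.PF6
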