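import Cfsg.Agent.OddOrder.PF6.Pivot
import Cfsg.Agent.OddOrder.PF6.Sibley
import Cfsg.Agent.OddOrder.PF4.Table
import Cfsg.Agent.Coprime.Action

/-!
# The group `K W₁` with `W₂ ≤ K'`: facts for Peterfalvi (6.8)
-/

set_option autoImplicit false

namespace Cfsg.Agent.OddOrder.PF6

open Cfsg.Agent Cfsg.Agent.CharInduce Finset
open scoped commutatorElement

universe u

variable {L : Type u} [Group L] [Fintype L] {K W₁ W₂ : Subgroup L}

/-- The quotient by the derived subgroup is a Frobenius group. -/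
theorem frob_derived (h : PF4.Hyp K W₁ W₂) (hW₂ : W₂ ≤ ⁅K, K⁆) :
    ∀ k ∈ K, k ∉ ⁅K, K⁆ → ∀ x : L, x * k * x⁻¹ * k⁻¹ ∈ ⁅K, K⁆ → x ∈ K := by
  intro k hk hk' x hx
  haveI := h.normal
  have hC : (⁅K, K⁆).Normal := inferInstance
  obtain ⟨k₀, hk₀, w, hw, rfl⟩ := h.exists_factor_mem x
  rcases eq_or_ne w 1 with rfl | hw1
  · simpa using hk₀
  exfalso
  set u := w * k * w⁻¹ with hu
  have huK : u ∈ K := h.normal.conj_mem k hk w
  have h1 : k₀ * u * k₀⁻¹ * u⁻¹ ∈ ⁅K, K⁆ := by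
    have := Subgroup.commutator_mem_commutator hk₀ huK
    rwa [commutatorElement_def] at this
  have h2 : w * k * w⁻¹ * k⁻¹ ∈ ⁅K, K⁆ := by
    have e : k₀ * w * k * (k₀ * w)⁻¹ * k⁻¹ = (k₀ * u * k₀⁻¹ * u⁻¹) * (u * k⁻¹) := by
      rw [hu]; group
    rw [e] at hx
    have := mul_mem (inv_mem h1) hx
    rwa [inv_mul_cancel_left, hu] at this
  let A := Subgroup.zpowers w
  have hA : A ≤ Subgroup.normalizer (K : Set L) := by
    rw [Subgroup.normalizer_eq_top]; exact le_top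
  have hcop : (Nat.card A).Coprime (Nat.card K) :=
    h.coprime.coprime_dvd_left (Subgroup.card_dvd_of_le (Subgroup.zpowers_le.2 hw))
  obtain ⟨c, hc, hck⟩ := Coprime.exists_centralizer_mem_coset hA hcop
    (Or.inl inferInstance) (N := ⁅K, K⁆)
    (Subgroup.commutator_le_left K K) (by rw [Subgroup.normalizer_eq_top]; exact le_top) hk
    (fun a ha => by
      obtain ⟨i, rfl⟩ := Subgroup.mem_zpowers_iff.1 ha
      have e : ((w ^ i * k * (w ^ i)⁻¹ : L) : L ⧸ ⁅K, K⁆) = (k : L ⧸ ⁅K, K⁆) := by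
        have hc : Commute (w : L ⧸ ⁅K, K⁆) (k : L ⧸ ⁅K, K⁆) := by
          have := (QuotientGroup.eq_one_iff _).2 h2
          rw [QuotientGroup.mk_mul, QuotientGroup.mk_mul, QuotientGroup.mk_mul,
            QuotientGroup.mk_inv, QuotientGroup.mk_inv, mul_inv_eq_one, mul_inv_eq_iff_eq_mul] at this
          exact this
        rw [QuotientGroup.mk_mul, QuotientGroup.mk_mul, QuotientGroup.mk_inv, QuotientGroup.mk_zpow,
          (hc.zpow_left i).eq, mul_inv_cancel_right]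
      rw [← QuotientGroup.eq_one_iff, QuotientGroup.mk_mul, e, QuotientGroup.mk_inv, inv_mul_cancel])
  refine hk' ?_
  have hcW : c ∈ W₂ := by
    rw [← h.centralizer_eq w hw hw1]
    exact ⟨hc.1, Subgroup.mem_centralizer_singleton_iff.2
      (Subgroup.mem_centralizer_iff.1 hc.2 w (Subgroup.mem_zpowers w)).symm⟩
  have := mul_mem (hW₂ hcW) (inv_mem hck)
  simpa [mul_assoc] using this

/-- No nontrivial linear character of `K` is fixed by a nontrivial element of `W₁`. -/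
theorem eq_one_of_linear_fixed (h : PF4.Hyp K W₁ W₂) (hW₂ : W₂ ≤ ⁅K, K⁆) {θ : K → ℂ}
    (hθ : Cfsg.IsIrrCharacter K θ) (h1 : θ 1 = 1) {x : L} (hx : x ∉ K)
    (hfix : haveI := h.normal; CharInduce.conjFun K θ x = θ) : θ = fun _ => 1 := by
  classical
  haveI := h.normal
  haveI := Fintype.ofFinite K
  obtain ⟨l, hl⟩ := CharInduce.IsChar.exists_hom_of_degree_one (CharBasic.IsIrr.isCharacter hθ) h1
  set C := (⁅K, K⁆).subgroupOf K with hC
  haveI : C.Normal := inferInstance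
  let σ : K →* K := (MulAut.conjNormal x : K ≃* K).toMonoidHom
  have hσ : ∀ k : K, l (σ k) = l k := fun k => by
    refine Units.ext ?_
    rw [← hl, ← hl]
    refine Eq.trans ?_ (congrFun hfix k)
    refine congrArg θ (Subtype.ext ?_)
    exact MulAut.conjNormal_apply x k
  have hCl : ∀ c ∈ C, l c = 1 := fun c hc => by
    have : c ∈ _root_.commutator K := by
      rw [hC, Subgroup.mem_subgroupOf, ← Subgroup.map_subtype_commutator] at hc
      obtain ⟨c', hc', e⟩ := hc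
      rwa [← Subtype.ext (p := fun y => y ∈ K) e]
    exact (Abelianization.commutator_subset_ker l) this
  let ψ : K ⧸ C → K ⧸ C := Quotient.lift (fun k : K => ((σ k * k⁻¹ : K) : K ⧸ C)) (fun a b hab => by
    have hab' : a⁻¹ * b ∈ C := QuotientGroup.leftRel_apply.1 hab
    have e : b = a * (a⁻¹ * b) := (mul_inv_cancel_left _ _).symm
    have hσC : (σ (a⁻¹ * b) : K ⧸ C) = 1 := (QuotientGroup.eq_one_iff _).2 <| by
      rw [hC, Subgroup.mem_subgroupOf] at hab' ⊢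
      rw [MulEquiv.coe_toMonoidHom, MulAut.conjNormal_apply]
      exact Subgroup.Normal.conj_mem inferInstance _ hab' x
    rw [e, map_mul, mul_inv_rev, QuotientGroup.mk_mul, QuotientGroup.mk_mul, QuotientGroup.mk_mul,
      QuotientGroup.mk_mul, hσC, mul_one, (QuotientGroup.eq_one_iff _).2 (C.inv_mem hab'), one_mul])
  have hinj : Function.Injective ψ := by
    refine fun a b => Quotient.inductionOn₂ a b fun a b e => ?_
    refine QuotientGroup.eq.2 ?_
    change ((σ a * a⁻¹ : K) : K ⧸ C) = ((σ b * b⁻¹ : K) : K ⧸ C) at e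
    have hab : ((σ (a⁻¹ * b) * (a⁻¹ * b)⁻¹ : K) : K ⧸ C) = 1 := by
      simp only [map_mul, map_inv, mul_inv_rev, inv_inv, QuotientGroup.mk_mul, QuotientGroup.mk_inv]
        at e ⊢
      rw [show (σ a : K ⧸ C)⁻¹ * σ b * ((b : K ⧸ C)⁻¹ * a)
        = (σ a : K ⧸ C)⁻¹ * ((σ b : K ⧸ C) * (b : K ⧸ C)⁻¹) * a by group, ← e]
      group
    rw [QuotientGroup.eq_one_iff, hC, Subgroup.mem_subgroupOf] at hab
    rw [hC, Subgroup.mem_subgroupOf]
    by_contra hc
    refine hx (frob_derived h hW₂ _ (a⁻¹ * b : K).2 hc x ?_)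
    rw [Subgroup.coe_mul, MulEquiv.coe_toMonoidHom, MulAut.conjNormal_apply,
      InvMemClass.coe_inv] at hab
    exact hab
  funext k
  rw [hl]
  obtain ⟨q, hq⟩ := Finite.surjective_of_injective hinj (k : K ⧸ C)
  obtain ⟨a, rfl⟩ := QuotientGroup.mk_surjective q
  have hk : ((σ a * a⁻¹)⁻¹ * k) ∈ C := QuotientGroup.eq.1 hq
  have := hCl _ hk
  rw [map_mul, map_inv, map_mul, map_inv, hσ, mul_inv_cancel, inv_one, one_mul] at this
  rw [this, Units.val_one]

/-- The members of degree `[L : K]` are irreducible. -/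
theorem derived_irr (h : PF4.Hyp K W₁ W₂) (hW₂ : W₂ ≤ ⁅K, K⁆) {η : L → ℂ}
    (hη : η ∈ seqInd K ⁅K, K⁆) : Cfsg.IsIrrCharacter L η := by
  haveI := h.normal
  haveI := Fintype.ofFinite K
  obtain ⟨θ, hθ, m, -, hi, hm, hd⟩ := seqInd_degree K hη
  have hm1 : m = 1 := by
    have := seqInd_derived_degree le_rfl hη
    rw [hd, Nat.cast_inj] at this
    exact Nat.eq_of_mul_eq_mul_left (Nat.pos_of_ne_zero Subgroup.FiniteIndex.index_ne_zero)
      (this.trans (mul_one _).symm)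
  rw [← hi]
  refine (h.induce θ.2).1 ?_
  obtain ⟨x, hx, hx1⟩ := W₁.bot_or_exists_ne_one.resolve_left h.ne_bot₁
  refine ⟨x, hx, fun hfix => ((mem_thetas K).1 hθ).1 ?_⟩
  exact eq_one_of_linear_fixed h hW₂ θ.2 (by rw [hm, hm1, Nat.cast_one])
    (fun hxK => hx1 (h.mem_inf_iff hxK hx)) hfix

/-- The members nontrivial on a central `Z` meeting `W₂` trivially are irreducible. -/
theorem outside_irr (h : PF4.Hyp K W₁ W₂) (Z : Subgroup L) [Z.Normal] (hZK : Z ≤ K)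
    (hZc : ∀ z ∈ Z, ∀ k ∈ K, z * k = k * z) (hZW : ∀ z ∈ Z, z ∈ W₂ → z = 1) {φ : L → ℂ}
    (hφ : φ ∈ outside K Z) : Cfsg.IsIrrCharacter L φ := by
  haveI := h.normal
  haveI := Fintype.ofFinite K
  obtain ⟨h1, h2⟩ := mem_outside.1 hφ
  obtain ⟨θ, hθ, rfl⟩ := (mem_seqInd K).1 h1
  refine (h.induce θ.2).1 ?_
  by_contra hc
  push Not at hc
  obtain ⟨w, hw, hw1⟩ := W₁.bot_or_exists_ne_one.resolve_left h.ne_bot₁
  let f : Z → Z := fun z => ⟨w * z * w⁻¹ * (z : L)⁻¹,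
    mul_mem (Subgroup.Normal.conj_mem inferInstance _ z.2 w) (inv_mem z.2)⟩
  have hinj : Function.Injective f := by
    intro a b e
    have e' : w * (a : L) * w⁻¹ * (a : L)⁻¹ = w * b * w⁻¹ * (b : L)⁻¹ := congrArg Subtype.val e
    have hfix : w * ((b : L)⁻¹ * a) * w⁻¹ = (b : L)⁻¹ * a := by
      calc w * ((b : L)⁻¹ * a) * w⁻¹ = (w * b * w⁻¹)⁻¹ * ((w * a * w⁻¹ * (a : L)⁻¹) * a) := by group
        _ = (w * b * w⁻¹)⁻¹ * ((w * b * w⁻¹ * (b : L)⁻¹) * a) := by rw [e']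
        _ = _ := by group
    have hmem : (b : L)⁻¹ * a ∈ Z := mul_mem (inv_mem b.2) a.2
    have := hZW _ hmem (h.centralizer_eq w hw hw1 ▸ Subgroup.mem_inf.2 ⟨hZK hmem,
      Subgroup.mem_centralizer_singleton_iff.2 (mul_inv_eq_iff_eq_mul.1 hfix).symm⟩)
    exact (Subtype.ext (inv_mul_eq_one.1 this)).symm
  refine h2 ((mem_seqInd K).2 ⟨θ, (mem_thetas K).2 ⟨((mem_thetas K).1 hθ).1, fun a ha => ?_⟩, rfl⟩)
  obtain ⟨z, hz⟩ := Finite.surjective_of_injective hinj ⟨a, ha⟩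
  have hz' : w * (z : L) * w⁻¹ * (z : L)⁻¹ = (a : L) := congrArg Subtype.val hz
  set zK : K := ⟨z, hZK z.2⟩ with hzK
  set u : K := ⟨w * z * w⁻¹, h.normal.conj_mem _ (hZK z.2) w⟩ with hu
  obtain ⟨ω, hω⟩ := exists_scalar θ.2 (z := zK⁻¹) fun g => Subtype.ext (by
    simpa using (hZc _ (inv_mem z.2) g g.2).symm)
  have hau : a = u * zK⁻¹ := Subtype.ext (by simp [hu, hzK, hz'])
  have hθu : (θ : K → ℂ) u = (θ : K → ℂ) zK := congrFun (hc w hw) zK
  rw [hau, hω, hθu, ← hω, mul_inv_cancel]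

/-- A fixed character of `K` has degree at least `2 [L : K] - 1`. -/
theorem exists_big_degree (h : PF4.Hyp K W₁ W₂) (hW₂ : W₂ ≤ ⁅K, K⁆) (hodd : Odd (Nat.card L)) :
    ∃ θ ∈ thetas K (⊥ : Subgroup L), ∃ m : ℕ, (θ : K → ℂ) 1 = m ∧ 2 * K.index ≤ m + 1 := by
  classical
  haveI := h.normal
  haveI := Fintype.ofFinite K
  have hcard := h.card_fixed_irr.2
  have h2 : 1 < Nat.card W₂ := Nat.one_lt_iff_ne_zero_and_ne_one.2
    ⟨Nat.card_pos.ne', fun e => h.ne_bot₂ (Subgroup.card_eq_one.1 e)⟩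
  rw [← hcard, Finite.one_lt_card_iff_nontrivial] at h2
  obtain ⟨⟨θ, hfix⟩, hne⟩ := exists_ne (⟨⟨_, CharBasic.isIrrCharacter_one⟩,
    fun y _ => funext fun _ => rfl⟩ : {θ : Cfsg.IrrCharacter K //
      ∀ y ∈ W₁, CharInduce.conjFun K (θ : K → ℂ) y = θ})
  have hθ1 : (θ : K → ℂ) ≠ fun _ => 1 := fun e => hne (Subtype.ext (Subtype.ext e))
  obtain ⟨ω, -, hω⟩ := h.exists_theta θ.2 hfix
  obtain ⟨m, -, hm, hdvd, -⟩ := CharBasic.IsIrr.degree_dvd θ.2
  refine ⟨θ, mem_thetas_bot hθ1, m, hm, ?_⟩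
  obtain ⟨n, hn⟩ := h.mu_one_mod ω
  rw [show h.mu ω 1 = (m : ℂ) by rw [← hm, hω]; rfl, ← h.index_eq] at hn
  have hm1 : m ≠ 1 := fun e => by
    obtain ⟨x, hx, hx1⟩ := W₁.bot_or_exists_ne_one.resolve_left h.ne_bot₁
    exact hθ1 (eq_one_of_linear_fixed h hW₂ θ.2 (by rw [hm, e, Nat.cast_one])
      (fun hxK => hx1 (h.mem_inf_iff hxK hx)) (hfix x hx))
  obtain ⟨a, ha⟩ : Odd m := Odd.of_dvd_nat (Odd.of_dvd_nat hodd (Subgroup.card_subgroup_dvd_card K)) hdvd
  obtain ⟨c, hc⟩ : Odd K.index := Odd.of_dvd_nat hodd (Subgroup.index_dvd_card K)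
  rcases h.delta_eq ω with e | e <;> rw [e] at hn
  · have hn' : (m : ℤ) - 1 = n * K.index := by exact_mod_cast hn
    rw [ha, hc] at hn'
    push_cast at hn'
    have : 0 < n := by
      by_contra hle
      have : 0 < a := by omega
      nlinarith
    obtain ⟨q, rfl | rfl⟩ : ∃ q : ℤ, n = 2 * q ∨ n = 2 * q + 1 := ⟨n / 2, by omega⟩
    · have h1q : (2 * c + 1 : ℤ) ≤ q * (2 * c + 1) := le_mul_of_one_le_left (by positivity) (by omega)
      have : (2 * K.index : ℤ) ≤ m + 1 := by rw [ha, hc]; push_cast; linarith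
      exact_mod_cast this
    · have : (2 : ℤ) ∣ 1 := ⟨a - (2 * q * c + q + c), by linarith⟩
      omega
  · have hn' : (m : ℤ) + 1 = n * K.index := by
      have : (((m : ℤ) + 1 : ℤ) : ℂ) = ((n * K.index : ℤ) : ℂ) := by
        push_cast
        linear_combination hn
      exact_mod_cast this
    rw [ha, hc] at hn'
    push_cast at hn'
    have : 0 < n := by
      by_contra hle
      nlinarith
    obtain ⟨q, rfl | rfl⟩ : ∃ q : ℤ, n = 2 * q ∨ n = 2 * q + 1 := ⟨n / 2, by omega⟩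
    · have h1q : (2 * c + 1 : ℤ) ≤ q * (2 * c + 1) := le_mul_of_one_le_left (by positivity) (by omega)
      have : (2 * K.index : ℤ) ≤ m + 1 := by rw [ha, hc]; push_cast; linarith
      exact_mod_cast this
    · have : (2 : ℤ) ∣ 1 := ⟨(2 * q * c + q + c) - a, by linarith⟩
      omega

end Cfsg.Agent.OddOrder.PF6
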