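import Cfsg.Agent.OddOrder.PF6.System
import Cfsg.Agent.OddOrder.PF6.Chief

/-!
# Coherence of the sets `S(B)`: Peterfalvi (6.3) and (6.5)
-/

set_option autoImplicit false

namespace Cfsg.Agent.OddOrder.PF6

open Cfsg.Agent Finset
open scoped commutatorElement

universe u v

variable {L : Type u} [Group L] [Fintype L] {G : Type v} [Group G] [Fintype G]
  {K : Subgroup L} [hK : K.Normal] {τ : (L → ℂ) → (G → ℂ)} {R : (L → ℂ) → Finset (G → ℂ)}

omit hK in
theorem seqInd_subset_inducedIrr (A : Subgroup L) :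
    (↑(seqInd K A) : Set (L → ℂ)) ⊆ Cfsg.inducedIrrAbove K ⊥ := by
  rw [← coe_seqInd]
  exact coe_subset.2 (seqInd_subset_bot K A)

theorem seqInd_nonempty (hsolv : Group.IsSolvable K) {A : Subgroup L} [A.Normal] (hA : A < K) :
    (seqInd K A).Nonempty :=
  (exists_linear K hsolv hA).elim fun θ h => ⟨_, (mem_seqInd K).2 ⟨θ, h.1, rfl⟩⟩

/-- `S(B)` is coherent as soon as `S(A)` is and all degrees in `S(B)` are small. -/
theorem coherent_seqInd_of_bound (hsolv : Group.IsSolvable K)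
    (hS : Cfsg.IsCoherenceSystem (Cfsg.inducedIrrAbove K ⊥) τ R) {A B : Subgroup L} [A.Normal]
    [B.Normal] (hAK : A < K) (hBK : B < K)
    (hA : Cfsg.IsCoherent (Cfsg.inducedIrrAbove K A) {1}ᶜ τ)
    (hbound : ∀ θ ∈ thetas K B, ∀ m : ℕ, (θ : K → ℂ) 1 = m →
      (2 * K.index * m : ℝ) < (A.relIndex K : ℝ) - 1) :
    Cfsg.IsCoherent (Cfsg.inducedIrrAbove K B) {1}ᶜ τ := by
  classical
  rw [← coe_seqInd] at hA ⊢
  refine coherent_of_step hS _ (seqInd_subset_inducedIrr B) (seqInd_nonempty hsolv hBK)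
    (fun φ h => seqInd_conj K h) _ (seqInd_subset_inducedIrr A) (fun φ h => seqInd_conj K h) hA
    fun T hAT hTS hTc hTcoh hne => ?_
  obtain ⟨χ, hχ⟩ := hne
  refine ⟨χ, hχ, ?_⟩
  rw [Finset.mem_sdiff] at hχ
  obtain ⟨θ, hθ, m, -, -, hm, hd⟩ := seqInd_degree K hχ.1
  obtain ⟨l, hl, hl1⟩ := exists_linear K hsolv hAK
  refine coherent_insert_pair hS hTS hTc hTcoh (seqInd_subset_inducedIrr B hχ.1) hχ.2
    (hAT ((mem_seqInd K).2 ⟨l, hl, rfl⟩)) (a := K.index)
    (by rw [CharInduce.indFun_one, hl1, mul_one]) hd (dvd_mul_right _ _) ?_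
  refine lt_of_lt_of_le ?_ (sum_le_sum_of_subset_of_nonneg hAT fun φ _ _ => weight_nonneg φ)
  rw [sum_weight_seqInd K A]
  have he : (0 : ℝ) < K.index := by exact_mod_cast Nat.pos_of_ne_zero Subgroup.FiniteIndex.index_ne_zero
  have h := mul_lt_mul_of_pos_left (hbound θ hθ m hm) he
  push_cast
  linarith

/-- Peterfalvi (6.3). -/
theorem coherent_seqInd_of_sq_bound (hsolv : Group.IsSolvable K)
    (hS : Cfsg.IsCoherenceSystem (Cfsg.inducedIrrAbove K ⊥) τ R) (A B C D : Subgroup L) [A.Normal]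
    [B.Normal] (hAK : A < K) (hBK : B < K) (hDC : D ≤ C) (hCK : C ≤ K)
    (hcent : ∀ x ∈ D, ∀ y ∈ C, x * y * x⁻¹ * y⁻¹ ∈ B)
    (hA : Cfsg.IsCoherent (Cfsg.inducedIrrAbove K A) {1}ᶜ τ)
    (hlt : 4 * C.index ^ 2 * D.relIndex C < (A.relIndex K - 1) ^ 2) :
    Cfsg.IsCoherent (Cfsg.inducedIrrAbove K B) {1}ᶜ τ := by
  refine coherent_seqInd_of_bound hsolv hS hAK hBK hA fun θ hθ m hm => ?_
  have h1 := theta_degree_bound K hCK hcent hDC hθ hm
  rw [← Subgroup.relIndex_mul_index hCK] at hlt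
  have h2 : (2 * K.index * m) ^ 2 < (A.relIndex K - 1) ^ 2 := by
    refine lt_of_le_of_lt ?_ hlt
    calc (2 * K.index * m) ^ 2 = 4 * K.index ^ 2 * m ^ 2 := by ring
      _ ≤ 4 * K.index ^ 2 * (C.relIndex K ^ 2 * D.relIndex C) := Nat.mul_le_mul_left _ h1
      _ = 4 * (C.relIndex K * K.index) ^ 2 * D.relIndex C := by ring
  have h3 := lt_of_pow_lt_pow_left' 2 h2
  have h4 : ((2 * K.index * m : ℕ) : ℝ) < ((A.relIndex K - 1 : ℕ) : ℝ) := by exact_mod_cast h3
  rw [Nat.cast_sub (by omega)] at h4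
  push_cast at h4
  exact h4

/-- Peterfalvi (6.4): descending along a nilpotent section. -/
theorem coherent_seqInd_nilpotent (hsolv : Group.IsSolvable K)
    (hS : Cfsg.IsCoherenceSystem (Cfsg.inducedIrrAbove K ⊥) τ R) (M H₁ H : Subgroup L) [M.Normal]
    [H₁.Normal] [H.Normal] (hMH₁ : M ≤ H₁) (hH₁H : H₁ ≤ H) (hHK : H ≤ K)
    [(M.subgroupOf H).Normal] (hnil : Group.IsNilpotent (↥H ⧸ M.subgroupOf H))
    (hcoh : Cfsg.IsCoherent (Cfsg.inducedIrrAbove K H₁) {1}ᶜ τ)
    (hbig : 4 * K.index ^ 2 + 1 < H₁.relIndex H) :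
    Cfsg.IsCoherent (Cfsg.inducedIrrAbove K M) {1}ᶜ τ := by
  obtain ⟨n, hn⟩ := exists_lcs_le hnil
  have key : ∀ c : ℕ, ∀ A : Subgroup L, Nat.card A = c → A.Normal → M ≤ A → A ≤ H₁ →
      Cfsg.IsCoherent (Cfsg.inducedIrrAbove K A) {1}ᶜ τ →
      Cfsg.IsCoherent (Cfsg.inducedIrrAbove K M) {1}ᶜ τ := by
    intro c
    induction c using Nat.strong_induction_on with
    | _ c ih =>
      intro A hc hA hMA hAH₁ hAcoh
      rcases hMA.eq_or_lt with rfl | hlt
      · exact hAcoh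
      obtain ⟨B, ⟨hBn, hMB, hBA⟩, hmax⟩ :=
        (Set.toFinite {B : Subgroup L | B.Normal ∧ M ≤ B ∧ B < A}).exists_maximal
          ⟨M, ‹M.Normal›, le_rfl, hlt⟩
      have hAH : A ≤ H := hAH₁.trans hH₁H
      have hW : ⁅A, H⁆ ⊔ B ≤ B := by
        by_cases h : ⁅A, H⁆ ⊔ B = A
        · have := le_of_le_commutator_sup (B := B) hAH (hn.trans hMB) h.ge
          exact absurd this hBA.not_ge
        · refine hmax ⟨inferInstance, hMB.trans le_sup_right, lt_of_le_of_ne ?_ h⟩ le_sup_right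
          exact sup_le (Subgroup.commutator_le_left A H) hBA.le
      have hH₁ne : H₁ < H := lt_of_le_of_ne hH₁H fun e => by
        rw [e, Subgroup.relIndex_self] at hbig
        omega
      have hAK : A < K := lt_of_le_of_lt hAH₁ (hH₁ne.trans_le hHK)
      refine ih _ ?_ B rfl hBn hMB (hBA.le.trans hAH₁) ?_
      · rw [← hc]
        exact Set.ncard_lt_ncard (s := (B : Set L)) (t := (A : Set L)) hBA
      refine coherent_seqInd_of_sq_bound hsolv hS A B H A hAK (hBA.trans hAK) hAH hHK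
        (fun x hx y hy => ?_) hAcoh ?_
      · have : ⁅x, y⁆ ∈ B := hW (Subgroup.mem_sup_left (Subgroup.commutator_mem_commutator hx hy))
        rwa [commutatorElement_def] at this
      · have ha : H₁.relIndex H ≤ A.relIndex H := by
          rw [← Subgroup.relIndex_mul_relIndex A H₁ H hAH₁ hH₁H]
          exact Nat.le_mul_of_pos_left _ (Nat.pos_of_ne_zero Subgroup.FiniteIndex.index_ne_zero)
        rw [← Subgroup.relIndex_mul_index hHK, ← Subgroup.relIndex_mul_relIndex A H K hAH hHK]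
        set a := A.relIndex H
        set k := H.relIndex K
        set e := K.index
        have hk : 1 ≤ k := Nat.pos_of_ne_zero Subgroup.FiniteIndex.index_ne_zero
        obtain ⟨b, hb⟩ : ∃ b, a = b + 1 := ⟨a - 1, by omega⟩
        obtain ⟨k', hk'⟩ : ∃ k', k = k' + 1 := ⟨k - 1, by omega⟩
        rw [hb, hk']
        have e1 : (b + 1) * (k' + 1) - 1 = b * (k' + 1) + k' := by
          have : (b + 1) * (k' + 1) = b * (k' + 1) + k' + 1 := by ring
          omega
        rw [e1]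
        have h1 : 4 * e ^ 2 + 1 ≤ b := by omega
        have h2 : 4 * e ^ 2 * (b + 1) < b ^ 2 := by nlinarith
        calc 4 * ((k' + 1) * e) ^ 2 * (b + 1) = (4 * e ^ 2 * (b + 1)) * (k' + 1) ^ 2 := by ring
          _ < b ^ 2 * (k' + 1) ^ 2 := by
            exact Nat.mul_lt_mul_of_pos_right h2 (by positivity)
          _ = (b * (k' + 1)) ^ 2 := by ring
          _ ≤ (b * (k' + 1) + k') ^ 2 := Nat.pow_le_pow_left (Nat.le_add_right _ _) 2
  exact key _ H₁ rfl ‹H₁.Normal› hMH₁ le_rfl hcoh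

/-- A normal subgroup of index at least `2e + 1` in odd situations. -/
theorem two_mul_le_of_eq {e n t : ℕ} (he : Odd e) (hn : Odd n) (h : n = 1 + e * t) (h1 : n ≠ 1) :
    2 * e + 1 ≤ n := by
  obtain ⟨a, rfl⟩ := he
  obtain ⟨b, hb⟩ := hn
  rcases t with _ | _ | t
  · simp at h; omega
  · simp at h; omega
  · nlinarith

/-- Peterfalvi (6.5). -/
theorem coherent_seqInd_chief (hsolv : Group.IsSolvable K)
    (hS : Cfsg.IsCoherenceSystem (Cfsg.inducedIrrAbove K ⊥) τ R) (hodd : Odd (Nat.card L))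
    (M : Subgroup L) [M.Normal] (_hMK : M ≤ K) [(M.subgroupOf K).Normal]
    (hnil : Group.IsNilpotent (↥K ⧸ M.subgroupOf K)) (H₁ : Subgroup L) (hH₁ : H₁ = ⁅K, K⁆ ⊔ M)
    (hH₁K : H₁ < K) (hKL : K < ⊤)
    (hfrob : ∀ k ∈ K, k ∉ H₁ → ∀ x : L, x * k * x⁻¹ * k⁻¹ ∈ H₁ → x ∈ K)
    (hgood : (∃ N : Subgroup L, N.Normal ∧ H₁ < N ∧ N < K) ∨ 4 * K.index ^ 2 + 1 < H₁.relIndex K ∨
      (¬ ∃ p m : ℕ, p.Prime ∧ M.relIndex K = p ^ m) ∨ ⁅K, K⁆ ≤ M ∨
      (∃ p m : ℕ, p.Prime ∧ M.relIndex K = p ^ m ∧ K.index ∣ p - 1)) :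
    Cfsg.IsCoherent (Cfsg.inducedIrrAbove K M) {1}ᶜ τ := by
  classical
  haveI hH₁n : H₁.Normal := hH₁ ▸ inferInstance
  have hab : ⁅K, K⁆ ≤ H₁ := hH₁ ▸ le_sup_left
  have hMH₁ : M ≤ H₁ := hH₁ ▸ le_sup_right
  have hcoh₁ : Cfsg.IsCoherent (Cfsg.inducedIrrAbove K H₁) {1}ᶜ τ := by
    rw [← coe_seqInd]
    refine coherent_const_degree hS (seqInd_subset_inducedIrr H₁) ?_ (fun φ h => seqInd_conj K h)
      fun φ hφ ψ hψ => ?_
    · obtain ⟨φ, hφ⟩ := seqInd_nonempty hsolv hH₁K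
      exact ⟨φ, hφ⟩
    · have key : ∀ χ ∈ seqInd K H₁, χ 1 = (K.index : ℂ) := fun χ hχ => by
        obtain ⟨θ, hθ, m, hm0, -, hm, hd⟩ := seqInd_degree K hχ
        have h := theta_degree_bound K (C := K) (D := K) le_rfl (fun x hx y hy => by
          have := hab (Subgroup.commutator_mem_commutator hx hy)
          rwa [commutatorElement_def] at this) le_rfl hθ hm
        rw [Subgroup.relIndex_self, one_pow, one_mul] at h
        have : m = 1 := by nlinarith
        rw [hd, this, mul_one]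
      rw [key φ hφ, key ψ hψ]
  have habelian : ⁅K, K⁆ ≤ M → Cfsg.IsCoherent (Cfsg.inducedIrrAbove K M) {1}ᶜ τ := fun h => by
    rw [show M = H₁ by rw [hH₁, sup_eq_right.2 h]]
    exact hcoh₁
  have hbig : 4 * K.index ^ 2 + 1 < H₁.relIndex K →
      Cfsg.IsCoherent (Cfsg.inducedIrrAbove K M) {1}ᶜ τ := fun h =>
    coherent_seqInd_nilpotent hsolv hS M H₁ K hMH₁ hH₁K.le le_rfl hnil hcoh₁ h
  have hoe : Odd K.index := Odd.of_dvd_nat hodd (Subgroup.index_dvd_card K)
  have hmod : ∀ N : Subgroup L, N.Normal → H₁ ≤ N → N ≤ K →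
      ∃ t, H₁.relIndex N = 1 + K.index * t := fun N hN h1 h2 =>
    relIndex_mod_index h1 h2 hab hfrob
  have hchief : (∃ N : Subgroup L, N.Normal ∧ H₁ < N ∧ N < K) →
      4 * K.index ^ 2 + 1 < H₁.relIndex K := by
    rintro ⟨N, hN, h1, h2⟩
    obtain ⟨t, ht⟩ := hmod N hN h1.le h2.le
    obtain ⟨s, hs⟩ := hmod K hK hH₁K.le le_rfl
    rw [← Subgroup.relIndex_mul_relIndex H₁ N K h1.le h2.le] at hs ⊢
    set a := H₁.relIndex N
    set b := N.relIndex K
    have ha1 : a ≠ 1 := fun e => h1.not_ge (Subgroup.relIndex_eq_one.1 e)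
    have hb1 : b ≠ 1 := fun e => h2.not_ge (Subgroup.relIndex_eq_one.1 e)
    have hda : a ∣ Nat.card L :=
      (Subgroup.index_dvd_card (H₁.subgroupOf N)).trans (Subgroup.card_subgroup_dvd_card N)
    have hdb : b ∣ Nat.card L :=
      (Subgroup.index_dvd_card (N.subgroupOf K)).trans (Subgroup.card_subgroup_dvd_card K)
    have hb0 : 1 ≤ b := Nat.pos_of_ne_zero Subgroup.FiniteIndex.index_ne_zero
    obtain ⟨u, hu⟩ : K.index ∣ b - 1 := by
      rw [ht] at hs
      have : (b - 1) + K.index * (t * b) = K.index * s := by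
        have : (1 + K.index * t) * b = b + K.index * (t * b) := by ring
        omega
      exact (Nat.dvd_add_left (dvd_mul_right _ _)).1 ⟨s, this⟩
    have l1 := two_mul_le_of_eq hoe (Odd.of_dvd_nat hodd hda) ht ha1
    have l2 := two_mul_le_of_eq hoe (Odd.of_dvd_nat hodd hdb) (t := u) (by omega) hb1
    have l3 := Nat.mul_le_mul l1 l2
    have he1 : 1 ≤ K.index := hoe.pos
    nlinarith
  rcases hgood with hN | hlt | hnp | hKM | ⟨p, m, hp, hm, hdvd⟩
  · exact hbig (hchief hN)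
  · exact hbig hlt
  · refine hbig (hchief ?_)
    have hr : H₁.relIndex K ≠ 1 := fun e => hH₁K.not_ge (Subgroup.relIndex_eq_one.1 e)
    obtain ⟨p, hp, hpr⟩ := Nat.exists_prime_and_dvd hr
    obtain ⟨q, hq, hqM, hqp⟩ : ∃ q : ℕ, q.Prime ∧ q ∣ M.relIndex K ∧ q ≠ p := by
      by_contra hc
      push Not at hc
      exact hnp ⟨p, _, hp, Nat.eq_prime_pow_of_unique_prime_dvd
        Subgroup.FiniteIndex.index_ne_zero fun {d} hd hdd => hc d hd hdd⟩
    have hqr : q ∣ H₁.relIndex K := hH₁ ▸ prime_dvd_abelianisation hnil hq hqM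
    set π := QuotientGroup.mk' H₁
    have hπ : Function.Surjective π := QuotientGroup.mk'_surjective H₁
    set r := H₁.relIndex K
    set v := r.factorization p
    have hcard : Nat.card (K.map π) = r := by
      rw [← Subgroup.relIndex_ker, QuotientGroup.ker_mk']
    have hcomm : ∀ x ∈ K.map π, ∀ y ∈ K.map π, Commute x y := by
      rintro _ ⟨x, hx, rfl⟩ _ ⟨y, hy, rfl⟩
      rw [← commutatorElement_eq_one_iff_commute, ← map_commutatorElement]
      exact (QuotientGroup.eq_one_iff _).2 (hab (Subgroup.commutator_mem_commutator hx hy))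
    let P : Subgroup (L ⧸ H₁) :=
      { carrier := {x | x ∈ K.map π ∧ x ^ p ^ v = 1}
        one_mem' := ⟨one_mem _, one_pow _⟩
        mul_mem' := fun {a b} ha hb => ⟨mul_mem ha.1 hb.1, by
          rw [(hcomm a ha.1 b hb.1).mul_pow, ha.2, hb.2, one_mul]⟩
        inv_mem' := fun {a} ha => ⟨inv_mem ha.1, by rw [inv_pow, ha.2, inv_one]⟩ }
    haveI hKn : (K.map π).Normal := Subgroup.Normal.map hK π hπ
    haveI : P.Normal := ⟨fun x hx g => ⟨hKn.conj_mem _ hx.1 g, by rw [conj_pow, hx.2]; simp⟩⟩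
    haveI := Fact.mk hp
    haveI := Fact.mk hq
    refine ⟨P.comap π, inferInstance, lt_of_le_of_ne ?_ ?_, lt_of_le_of_ne ?_ ?_⟩
    · intro x hx
      rw [Subgroup.mem_comap, show π x = 1 from (QuotientGroup.eq_one_iff x).2 hx]
      exact one_mem P
    · intro e
      obtain ⟨x, hx⟩ := exists_prime_orderOf_dvd_card' p (G := ↥(K.map π)) (hcard.symm ▸ hpr)
      have hmem : (x : L ⧸ H₁) ∈ P := ⟨x.2, by
        have hv : p ∣ p ^ v := dvd_pow_self p (by
          exact (hp.factorization_pos_of_dvd Subgroup.FiniteIndex.index_ne_zero hpr).ne')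
        rw [← orderOf_dvd_iff_pow_eq_one, Subgroup.orderOf_coe, hx]
        exact hv⟩
      obtain ⟨y, hy⟩ := hπ (x : L ⧸ H₁)
      have : y ∈ H₁ := by
        rw [e, Subgroup.mem_comap, hy]
        exact hmem
      rw [show π y = 1 from (QuotientGroup.eq_one_iff y).2 this] at hy
      rw [show x = 1 from Subtype.ext hy.symm, orderOf_one] at hx
      exact hp.ne_one hx.symm
    · intro x hx
      obtain ⟨⟨k, hk, hkx⟩, -⟩ := hx
      have : k⁻¹ * x ∈ H₁ := by
        refine (QuotientGroup.eq_one_iff (N := H₁) _).1 ?_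
        show π (k⁻¹ * x) = 1
        rw [map_mul, map_inv, hkx, inv_mul_cancel]
      have := mul_mem hk (hH₁K.le this)
      rwa [mul_inv_cancel_left] at this
    · intro e
      obtain ⟨x, hx⟩ := exists_prime_orderOf_dvd_card' q (G := ↥(K.map π)) (hcard.symm ▸ hqr)
      obtain ⟨y, hy, hyx⟩ := Subgroup.mem_map.1 x.2
      have hy' : y ∈ P.comap π := e.symm ▸ hy
      have h := (Subgroup.mem_comap.1 hy').2
      rw [hyx, ← orderOf_dvd_iff_pow_eq_one, Subgroup.orderOf_coe, hx] at h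
      exact hqp ((Nat.prime_dvd_prime_iff_eq hq hp).1 (hq.dvd_of_dvd_pow h))
  · exact habelian hKM
  · have hdvdr : H₁.relIndex K ∣ p ^ m := by
      rw [← hm, ← Subgroup.relIndex_mul_relIndex M H₁ K hMH₁ hH₁K.le]
      exact dvd_mul_left _ _
    obtain ⟨j, -, hj⟩ := (Nat.dvd_prime_pow hp).1 hdvdr
    have hj0 : j ≠ 0 := fun e => hH₁K.not_ge (Subgroup.relIndex_eq_one.1 (by rw [hj, e, pow_zero]))
    have he1 : K.index ≠ 1 := fun e => hKL.ne (Subgroup.index_eq_one.1 e)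
    have hp2 : p ≠ 2 := fun e => he1 (Nat.dvd_one.1 (by simpa [e] using hdvd))
    obtain ⟨s, hs⟩ := hdvd
    have hp1 : p = 1 + K.index * s := by have := hp.one_lt; omega
    have l1 := two_mul_le_of_eq hoe (hp.odd_of_ne_two hp2) hp1 hp.one_lt.ne'
    rcases Nat.lt_or_ge j 2 with hj1 | hj2
    · obtain rfl : j = 1 := by omega
      rw [pow_one] at hj
      obtain ⟨n, hn⟩ := exists_lcs_le hnil
      obtain ⟨g, hg, hgH⟩ := SetLike.exists_of_lt hH₁K
      refine habelian (commutator_le_of_cyclic hn hg ?_)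
      rw [← hH₁]
      set U := Subgroup.zpowers g ⊔ H₁
      have hU : U ≤ K := sup_le (Subgroup.zpowers_le.2 hg) hH₁K.le
      rw [← Subgroup.relIndex_eq_one]
      have hdd : U.relIndex K ∣ p := by
        rw [← hj, ← Subgroup.relIndex_mul_relIndex H₁ U K le_sup_right hU]
        exact dvd_mul_left _ _
      refine ((Nat.dvd_prime hp).1 hdd).resolve_right fun e => hgH ?_
      have h := Subgroup.relIndex_mul_relIndex H₁ U K le_sup_right hU
      rw [e, hj] at h
      have : H₁.relIndex U = 1 := by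
        exact Nat.eq_of_mul_eq_mul_right hp.pos (by rw [h, one_mul])
      exact Subgroup.relIndex_eq_one.1 this (Subgroup.mem_sup_left (Subgroup.mem_zpowers g))
    · refine hbig ?_
      rw [hj]
      refine lt_of_lt_of_le ?_ (Nat.pow_le_pow_right hp.pos hj2)
      nlinarith [hoe.pos]

end Cfsg.Agent.OddOrder.PF6
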