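import Cfsg.Agent.OddOrder.PF6.System
import Cfsg.Agent.OddOrder.PF6.Glue
import Cfsg.Agent.H43.Galois

/-!
# Coherence from one pivot image, field automorphisms and central elements
-/

set_option autoImplicit false

namespace Cfsg.Agent.OddOrder.PF6

open Cfsg.Agent Cfsg.Agent.CharInduce Cfsg.Agent.CharBasic Finset
open scoped ComplexConjugate

universe u v

section Pivot

variable {L : Type u} [Group L] [Fintype L] {G : Type v} [Group G] [Fintype G]

open scoped Classical in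
/-- `T` is coherent as soon as one member `η₀` of norm one and degree `e`, dividing all the
degrees, has an image compatible with the images of the differences. -/
theorem coherent_of_pivot (T : Finset (L → ℂ)) (S : Set (L → ℂ)) (hTS : ↑T ⊆ S)
    (τ : (L → ℂ) → (G → ℂ)) (hτ : Cfsg.IsLinearIsometryOn (Cfsg.zspanOn S ({1}ᶜ : Set L)) τ)
    (h0 : ∀ a ∈ T, a ≠ 0) (horth : ∀ a ∈ T, ∀ c ∈ T, a ≠ c → classInner a c = 0)
    {η₀ : L → ℂ} (hη₀ : η₀ ∈ T) (hn₀ : classInner η₀ η₀ = 1) {e : ℕ} (he : 0 < e)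
    (hd₀ : η₀ 1 = (e : ℂ)) (b : (L → ℂ) → ℕ) (hb : ∀ a ∈ T, a 1 = ((e * b a : ℕ) : ℂ))
    {ζ : G → ℂ} (hζ : Cfsg.IsGeneralizedCharacter G ζ) (hζn : classInner ζ ζ = 1)
    (hkey : ∀ a ∈ T, classInner (τ (a - (b a : ℤ) • η₀)) ζ = classInner a η₀ - (b a : ℂ))
    (hne : ∃ a ∈ T, a ≠ η₀) :
    Cfsg.IsCoherent (↑T : Set (L → ℂ)) ({1}ᶜ : Set L) τ := by
  have hmem : ∀ a ∈ T, a - (b a : ℤ) • η₀ ∈ Cfsg.zspanOn S ({1}ᶜ : Set L) := fun a ha => by
    rw [H43.zspanOn_compl_one]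
    refine ⟨H43.zspan_sub (H43.zspan_mem (hTS ha)) (H43.zspan_zsmul (H43.zspan_mem (hTS hη₀)) _), ?_⟩
    simp [hb a ha, hd₀]
    ring
  let F : (L → ℂ) → (G → ℂ) := fun a => τ (a - (b a : ℤ) • η₀) + (b a : ℤ) • ζ
  have hb₀ : b η₀ = 1 := by
    have h := (hb η₀ hη₀).symm.trans hd₀
    rw [Nat.cast_inj] at h
    exact Nat.eq_of_mul_eq_mul_left he (h.trans (mul_one e).symm)
  have hF₀ : F η₀ = ζ := by
    simp only [F, hb₀, Nat.cast_one, one_smul, sub_self,
      H43.iso_zero hτ H43.zspanOn_zero, zero_add]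
  refine H43.coherent_of_images T S hTS τ hτ h0 horth (fun a => ((e * b a : ℕ) : ℤ))
    (fun a ha => by rw [hb a ha]; push_cast; ring) η₀ hη₀
    (by rw [hb₀, mul_one]; exact_mod_cast he.ne') F
    (fun a ha => H43.gen_add (H43.iso_gen hτ (hmem a ha)) (H43.gen_zsmul hζ _))
    (fun a ha c hc => ?_) (fun a ha => ?_) hne
  · have h1 : classInner η₀ c = conj (classInner c η₀) := (classInner_conj_symm c η₀).symm
    simp only [F, classInner_add_left, classInner_add_right, H43.classInner_zsmul_left,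
      H43.classInner_zsmul_right, H43.iso_inner hτ (hmem a ha) (hmem c hc), hkey a ha, hζn,
      classInner_sub_left, classInner_sub_right, hn₀, h1,
      ← classInner_conj_symm (τ (c - (b c : ℤ) • η₀)) ζ, hkey c hc, map_sub, map_natCast,
      Int.cast_natCast]
    ring
  · have e1 : ((e * b η₀ : ℕ) : ℤ) • a - ((e * b a : ℕ) : ℤ) • η₀
        = (e : ℤ) • (a - (b a : ℤ) • η₀) := by
      rw [hb₀, mul_one, smul_sub, smul_smul, Nat.cast_mul]
    rw [hF₀, e1, hτ.2.1 _ (hmem a ha), hb₀, mul_one]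
    simp only [F, smul_add, smul_smul, Nat.cast_mul, add_sub_cancel_right]

/-- The system is unchanged when the map is changed off the combinations vanishing at `1`. -/
theorem system_congr {S : Set (L → ℂ)} {τ τ' : (L → ℂ) → (G → ℂ)}
    {R : (L → ℂ) → Finset (G → ℂ)} (hS : Cfsg.IsCoherenceSystem S τ R)
    (h : ∀ α ∈ Cfsg.zspanOn S ({1}ᶜ : Set L), τ α = τ' α) : Cfsg.IsCoherenceSystem S τ' R where
  nonempty := hS.nonempty
  isCharacter := hS.isCharacter
  conj_mem := hS.conj_mem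
  conj_ne := hS.conj_ne
  isometry := by
    refine ⟨fun a ha b hb => ?_, fun a ha n => ?_, fun a ha b hb => ?_, fun a ha => ?_⟩
    · rw [← h _ (H43.zspanOn_add ha hb), ← h a ha, ← h b hb, hS.isometry.1 a ha b hb]
    · rw [← h _ (H43.zspanOn_zsmul ha n), ← h a ha, hS.isometry.2.1 a ha n]
    · rw [← h a ha, ← h b hb, hS.isometry.2.2.1 a ha b hb]
    · rw [← h a ha]
      exact hS.isometry.2.2.2 a ha
  map_one α hα := (congrFun (h α hα) 1).symm.trans (hS.map_one α hα)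
  orthogonal := hS.orthogonal
  orthonormal := hS.orthonormal
  virtual := hS.virtual
  sum_eq χ hχ := by rw [← h _ (H43.sys_diff_mem hS hχ), hS.sum_eq χ hχ]
  disjoint := hS.disjoint

end Pivot

section Galois

variable {L : Type u} [Group L]

theorem gen_aut (σ : ℂ ≃+* ℂ) {θ : L → ℂ} (h : Cfsg.IsGeneralizedCharacter L θ) :
    Cfsg.IsGeneralizedCharacter L (fun g => σ (θ g)) := by
  obtain ⟨a, b, ha, hb, rfl⟩ := h
  exact ⟨_, _, H43.aut_char σ ha, H43.aut_char σ hb, funext fun g => by simp⟩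

theorem classInner_aut [Fintype L] (σ : ℂ ≃+* ℂ) (φ : L → ℂ) {ψ : L → ℂ}
    (hψ : Cfsg.IsGeneralizedCharacter L ψ) :
    classInner (fun g => σ (φ g)) (fun g => σ (ψ g)) = σ (classInner φ ψ) := by
  simp only [classInner_def, map_mul, map_inv₀, map_natCast, map_sum]
  congr 1
  refine sum_congr rfl fun g _ => ?_
  rw [← H43.gen_inv_apply (gen_aut σ hψ) g, H43.gen_inv_apply hψ g |>.symm]

theorem indFun_aut [Fintype L] (σ : ℂ ≃+* ℂ) (M : Subgroup L) (θ : M → ℂ) (g : L) :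
    indFun M (fun k => σ (θ k)) g = σ (indFun M θ g) := by
  simp only [CharInduce.indFun_apply, map_mul, map_inv₀, map_natCast, map_sum]
  congr 1
  refine sum_congr rfl fun x _ => ?_
  by_cases hx : x⁻¹ * g * x ∈ M
  · exact (CharInduce.extendByZero_coe (H := M) _ ⟨_, hx⟩).trans
      (congrArg σ (CharInduce.extendByZero_coe θ ⟨_, hx⟩).symm)
  · rw [CharInduce.extendByZero_of_not_mem _ hx, CharInduce.extendByZero_of_not_mem _ hx, map_zero]

/-- An automorphism raising the roots of unity to the `t`-th power moves `θ(g)` to `θ(g ^ t)`. -/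
theorem aut_apply_pow [Finite L] {θ : L → ℂ} (hθ : Cfsg.IsGeneralizedCharacter L θ) (g : L)
    (σ : ℂ ≃+* ℂ) {t : ℕ} (h : ∀ z : ℂ, z ^ orderOf g = 1 → σ z = z ^ t) :
    σ (θ g) = θ (g ^ t) := by
  have key : ∀ χ : L → ℂ, Cfsg.IsCharacter L χ → σ (χ g) = χ (g ^ t) := by
    rintro χ ⟨n, ρ, rfl⟩
    obtain ⟨b, μ, hb, hμ, hv⟩ := CharBasic.exists_eigenbasis_rep ρ g
    have hpow : ∀ (k : ℕ) (i), ρ (g ^ k) (b i) = μ i ^ k • b i := by
      intro k i
      induction k with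
      | zero => simp
      | succ k ih =>
        rw [pow_succ, map_mul, Module.End.mul_apply, hb, map_smul, ih, smul_smul, pow_succ']
    rw [hv, map_sum, Representation.character,
      CharBasic.trace_eq_sum_of_eigenbasis b (fun i => μ i ^ t) _ (hpow t)]
    exact sum_congr rfl fun i _ => h _ (hμ i)
  obtain ⟨χ, ψ, hχ, hψ, rfl⟩ := hθ
  simp only [Pi.sub_apply, map_sub, key χ hχ, key ψ hψ]

variable [Fintype L] {K : Subgroup L}

theorem seqInd_aut (σ : ℂ ≃+* ℂ) {A : Subgroup L} {φ : L → ℂ} (hφ : φ ∈ seqInd K A) :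
    (fun g => σ (φ g)) ∈ seqInd K A := by
  obtain ⟨θ, hθ, rfl⟩ := (mem_seqInd K).1 hφ
  haveI := Fintype.ofFinite K
  rw [mem_thetas] at hθ
  refine (mem_seqInd K).2 ⟨⟨_, H43.aut_irr σ θ.2⟩, (mem_thetas K).2 ⟨fun e => hθ.1 ?_, fun a ha => ?_⟩,
    funext fun g => indFun_aut σ K _ g⟩
  · funext k
    exact σ.injective ((congrFun e k).trans (map_one σ).symm)
  · exact congrArg σ (hθ.2 a ha)

end Galois

section Central

variable {L : Type u} [Group L]

/-- An irreducible character is multiplied by a scalar under translation by a central element. -/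
theorem exists_scalar [Finite L] {θ : L → ℂ} (hθ : Cfsg.IsIrrCharacter L θ) {z : L}
    (hz : ∀ g, g * z = z * g) : ∃ ω : ℂ, ∀ g, θ (g * z) = ω * θ g := by
  cases nonempty_fintype L
  obtain ⟨n, ρ, hρ, rfl⟩ := hθ
  haveI := hρ
  obtain ⟨ω, -, -, hω⟩ := CharBasic.exists_central_scalar ρ (Subgroup.mem_center_iff.2 hz)
  exact ⟨ω, hω⟩

/-- An irreducible character nontrivial on a central subgroup sums to zero on it. -/
theorem sum_central_eq_zero [Fintype L] {θ : L → ℂ} (hθ : Cfsg.IsIrrCharacter L θ) (Z : Subgroup L)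
    [Fintype Z] (hZ : ∀ z ∈ Z, ∀ g, g * z = z * g) (hne : ∃ z ∈ Z, θ z ≠ θ 1) :
    ∑ z : Z, θ z = 0 := by
  obtain ⟨z₀, hz₀, hne⟩ := hne
  obtain ⟨ω, hω⟩ := exists_scalar hθ (hZ z₀ hz₀)
  have h := Fintype.sum_equiv (Equiv.mulRight (⟨z₀, hz₀⟩ : Z)) (fun z => ω * θ z)
    (fun z : Z => θ z) fun z => (hω z).symm
  rw [← mul_sum] at h
  have hω1 : ω ≠ 1 := fun e => hne (by
    have := hω 1
    rwa [one_mul, e, one_mul] at this)
  exact (mul_left_eq_self₀.1 h).resolve_left hω1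

end Central

end Cfsg.Agent.OddOrder.PF6
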