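import Cfsg.Agent.OddOrder.PF6.PrimeUnion

/-!
# Sibley's coherence theorem when `L = K W₁` with `C_K(x) = W₂ ≤ K'` (Peterfalvi 6.8, case c2)
-/

set_option autoImplicit false

namespace Cfsg.Agent.OddOrder.PF6

open Cfsg.Agent Cfsg.Agent.CharInduce Finset
open scoped commutatorElement

universe u v

section Extend

variable {L : Type u} [Group L] [Fintype L] {G : Type v} [Group G] [Fintype G] {K : Subgroup L}
  [hK : K.Normal] {τ : (L → ℂ) → (G → ℂ)} {R : (L → ℂ) → Finset (G → ℂ)}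

/-- From `(S ∖ S(Z)) ∪ S(K')` to the whole of `S`. -/
theorem coherent_of_union (hsolv : Group.IsSolvable K)
    (hS : Cfsg.IsCoherenceSystem (Cfsg.inducedIrrAbove K ⊥) τ R) (hder : ⁅K, K⁆ < K)
    (Z : Subgroup L) [Z.Normal] (hZC : Z ≤ ⁅K, K⁆) (hZc : ∀ z ∈ Z, ∀ k ∈ K, z * k = k * z)
    (hu : Cfsg.IsCoherent ((↑(outside K Z) : Set (L → ℂ)) ∪ ↑(seqInd K ⁅K, K⁆)) {1}ᶜ τ)
    (hbound : ∀ m : ℕ, m ^ 2 ≤ (Z.subgroupOf K).index →
      2 * K.index * m + (Z.subgroupOf K).index ≤ Nat.card K) :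
    Cfsg.IsCoherent (Cfsg.inducedIrrAbove K ⊥) {1}ᶜ τ := by
  classical
  set C := ⁅K, K⁆ with hCdef
  obtain ⟨η₀, hη₀⟩ := seqInd_nonempty (K := K) hsolv hder
  have hne : (seqInd K (⊥ : Subgroup L)).Nonempty := ⟨η₀, seqInd_subset_bot K C hη₀⟩
  rw [← coe_union] at hu
  have hsub : outside K Z ∪ seqInd K C ⊆ seqInd K ⊥ :=
    union_subset (fun φ h => (mem_outside.1 h).1) (seqInd_subset_bot K C)
  rw [← coe_seqInd]
  refine coherent_of_step hS (seqInd K ⊥) (seqInd_subset_inducedIrr ⊥) hne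
    (fun φ h => seqInd_conj K h) (outside K Z ∪ seqInd K C)
    ((coe_subset.2 hsub).trans (seqInd_subset_inducedIrr ⊥))
    (fun φ h => (mem_union.1 h).elim (fun h => mem_union_left _ (outside_conj h))
      fun h => mem_union_right _ (seqInd_conj K h)) hu
    fun T h0 hTS hTc hTcoh hne' => ?_
  obtain ⟨χ, hχ⟩ := hne'
  refine ⟨χ, hχ, ?_⟩
  rw [Finset.mem_sdiff] at hχ
  obtain ⟨θ, hθ, m, hm0, -, hm, hd⟩ := seqInd_degree K hχ.1
  refine coherent_insert_pair hS hTS hTc hTcoh (seqInd_subset_inducedIrr ⊥ hχ.1) hχ.2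
    (h0 (mem_union_right _ hη₀)) (seqInd_derived_degree le_rfl hη₀) hd (dvd_mul_right _ _) ?_
  refine lt_of_lt_of_le ?_ (sum_le_sum_of_subset_of_nonneg h0 fun φ _ _ => weight_nonneg φ)
  have hdisj : Disjoint (outside K Z) (seqInd K C) := Finset.disjoint_left.2 fun φ h h' =>
    (mem_outside.1 h).2 (seqInd_mono K hZC h')
  rw [sum_union hdisj]
  have hsumX : ∑ φ ∈ outside K Z, weight φ
      = (K.index : ℝ) * ((Nat.card K : ℝ) - ((Z.subgroupOf K).index : ℝ)) := by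
    have h1 := sum_sdiff (f := weight (L := L)) (seqInd_subset_bot K Z)
    rw [← outside, sum_weight_seqInd K Z, sum_weight_seqInd K ⊥, Subgroup.relIndex_bot_left,
      Subgroup.relIndex] at h1
    linarith
  have he : (0 : ℝ) < K.index :=
    Nat.cast_pos.2 (Nat.pos_of_ne_zero Subgroup.FiniteIndex.index_ne_zero)
  have hsumY : 0 < ∑ φ ∈ seqInd K C, weight φ := by
    refine sum_pos (fun φ hφ => ?_) ⟨η₀, hη₀⟩
    obtain ⟨n, hn0, hn, -⟩ := H43.sys_norm hS
      (seqInd_subset_inducedIrr ⊥ (seqInd_subset_bot K C hφ))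
    rw [weight, seqInd_derived_degree le_rfl hφ, hn, Complex.natCast_re, Complex.natCast_re]
    have : (0 : ℝ) < n := Nat.cast_pos.2 hn0
    positivity
  have h4 := hbound m (degree_sq_le_central (K := K) (A := ⊥) hZc hθ hm)
  have h5 : ((2 * K.index * m : ℕ) : ℝ) + ((Z.subgroupOf K).index : ℝ) ≤ (Nat.card K : ℝ) := by
    exact_mod_cast h4
  push_cast at h5 ⊢
  rw [hsumX]
  nlinarith [mul_le_mul_of_nonneg_left h5 he.le]

end Extend

section TI

variable {G : Type u} [Group G] [Fintype G] {H N : Subgroup G}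

/-- Peterfalvi's congruence for a central subgroup of a TI Sylow subgroup. -/
theorem value_dvd {p : ℕ} [Fact p.Prime] (hN : Subgroup.normalizer (H : Set G) = N) (hle : H ≤ N)
    (hTI : Cfsg.IsTISubset (H : Set G)) (hodd : Odd (Nat.card N)) (P : Sylow p G)
    (hPH : (P : Subgroup G) = H) (Z : Subgroup N) [Z.Normal] (hZ1 : Z ≠ ⊥)
    (hZK : Z ≤ H.subgroupOf N) (hZc : ∀ z ∈ Z, ∀ k ∈ H.subgroupOf N, z * k = k * z)
    (D : Subgroup G)
    (hD : ∀ z ∈ Z, z ≠ 1 → N ⊓ Subgroup.centralizer ({(z : G)} : Set G) = D)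
    {θ : G → ℂ} (hθ : Cfsg.IsIrrCharacter G θ)
    (hconst : ∀ z ∈ Z, ∀ z' ∈ Z, z ≠ 1 → z' ≠ 1 → θ (z : G) = θ (z' : G))
    {z : N} (hz : z ∈ Z) (hz1 : z ≠ 1) :
    ∃ n d : ℤ, θ (z : G) = n ∧ θ 1 = d ∧ (Nat.card (H.subgroupOf N) : ℤ) ∣ d - n := by
  have hmemP : ∀ {w : N}, w ∈ H.subgroupOf N → (w : G) ∈ (P : Subgroup G) := fun h => by
    rw [hPH]; exact Subgroup.mem_subgroupOf.1 h
  have hne1 : ∀ {w : G}, w ∈ Z.map N.subtype → w ≠ 1 →
      ∃ w' : N, w' ∈ Z ∧ w' ≠ 1 ∧ (w' : G) = w := by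
    rintro _ ⟨w', hw', rfl⟩ h1
    exact ⟨w', hw', fun e => h1 (by rw [e]; rfl), rfl⟩
  have hNP : Subgroup.normalizer ((P : Subgroup G) : Set G) = N := by rw [hPH, hN]
  obtain ⟨n, d, hn, hd, hdvd⟩ := Cfsg.Agent.S1523.result p P (by rw [hPH]; exact hTI)
    (by rw [hNP]; exact hodd) (Z.map N.subtype)
    (fun e => hZ1 ((Subgroup.map_eq_bot_iff_of_injective _ N.subtype_injective).1 e))
    (by rintro _ ⟨w, hw, rfl⟩; exact hmemP (hZK hw))
    (by
      rintro x hx _ ⟨w, hw, rfl⟩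
      rw [hNP] at hx
      exact ⟨⟨x, hx⟩ * w * ⟨x, hx⟩⁻¹, Subgroup.Normal.conj_mem ‹Z.Normal› w hw _, rfl⟩)
    (by
      rintro _ ⟨w, hw, rfl⟩ y hy
      rw [hPH] at hy
      exact congrArg Subtype.val (hZc w hw ⟨y, hle hy⟩ (Subgroup.mem_subgroupOf.2 hy)))
    (by
      intro a ha b hb ha1 hb1
      obtain ⟨a', ha', ha'1, rfl⟩ := hne1 ha ha1
      obtain ⟨b', hb', hb'1, rfl⟩ := hne1 hb hb1
      rw [hNP, hD a' ha' ha'1, hD b' hb' hb'1])
    θ hθ
    (by
      intro a ha b hb ha1 hb1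
      obtain ⟨a', ha', ha'1, rfl⟩ := hne1 ha ha1
      obtain ⟨b', hb', hb'1, rfl⟩ := hne1 hb hb1
      exact hconst a' ha' b' hb' ha'1 hb'1)
    (z : G) ⟨z, hz, rfl⟩ (fun e => hz1 (Subtype.ext e))
  refine ⟨n, d, hn, hd, ?_⟩
  rwa [Nat.card_congr (Subgroup.subgroupOfEquivOfLe hle).toEquiv, ← hPH]

/-- Peterfalvi (6.8), case (c2): `S` is coherent when `N = H W₁` with `C_H(x) = W₂ ≤ H'` of prime
order for the nontrivial `x ∈ W₁`. -/
theorem sibley_prime [Fintype N] (hN : Subgroup.normalizer (H : Set G) = N)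
    (hnil : Group.IsNilpotent H) (hle : H ≤ N) (hTI : Cfsg.IsTISubset (H : Set G))
    (hodd : Odd (Nat.card N)) {W₁ W₂ : Subgroup N} (h : PF4.Hyp (H.subgroupOf N) W₁ W₂)
    (hp : (Nat.card W₂).Prime) (hW₂ : W₂ ≤ ⁅H.subgroupOf N, H.subgroupOf N⁆)
    {R : (N → ℂ) → Finset (G → ℂ)}
    (hS : Cfsg.IsCoherenceSystem (Cfsg.inducedIrrAbove (H.subgroupOf N) ⊥) (Cfsg.indFun N) R) :
    Cfsg.IsCoherent (Cfsg.inducedIrrAbove (H.subgroupOf N) ⊥) {1}ᶜ (Cfsg.indFun N) := by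
  classical
  set K := H.subgroupOf N with hK
  haveI := h.normal
  have hcardK : Nat.card K = Nat.card H :=
    Nat.card_congr (Subgroup.subgroupOfEquivOfLe hle).toEquiv
  have hKnil : Group.IsNilpotent K :=
    (Group.isNilpotent_congr (Subgroup.subgroupOfEquivOfLe hle)).2 hnil
  have hsolv : Group.IsSolvable K := inferInstance
  obtain ⟨w₀, hw₀, hw₀1⟩ := W₁.bot_or_exists_ne_one.resolve_left h.ne_bot₁
  have hKL : K < ⊤ := lt_top_iff_ne_top.2 fun e =>
    hw₀1 (h.mem_inf_iff (e ▸ Subgroup.mem_top w₀) hw₀)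
  have hK1 : K ≠ ⊥ := fun e => h.ne_bot₂ (le_bot_iff.1 (e ▸ h.le))
  have hder := derived_lt hKnil hK1
  have hfrob := frob_derived h hW₂
  haveI : ((⊥ : Subgroup N).subgroupOf K).Normal := inferInstance
  have hchief : ((¬ ∃ q m : ℕ, q.Prime ∧ (⊥ : Subgroup N).relIndex K = q ^ m) ∨ ⁅K, K⁆ ≤ ⊥) →
      Cfsg.IsCoherent (Cfsg.inducedIrrAbove K ⊥) {1}ᶜ (Cfsg.indFun N) := fun h' =>
    coherent_seqInd_chief hsolv hS hodd ⊥ bot_le inferInstance ⁅K, K⁆ (sup_bot_eq _).symm hder hKL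
      hfrob (h'.elim (fun h => Or.inr (Or.inr (Or.inl h))) fun h => Or.inr (Or.inr (Or.inr (Or.inl h))))
  by_cases hpp : ∃ q m : ℕ, q.Prime ∧ (⊥ : Subgroup N).relIndex K = q ^ m
  swap
  · exact hchief (Or.inl hpp)
  by_cases hab : ⁅K, K⁆ ≤ ⊥
  · exact hchief (Or.inr hab)
  obtain ⟨q, r, hq, hr⟩ := hpp
  rw [Subgroup.relIndex_bot_left] at hr
  haveI := Fact.mk hq
  have hpK : Nat.card W₂ ∣ q ^ r := hr ▸ Subgroup.card_dvd_of_le h.le
  have hpq : Nat.card W₂ = q := (Nat.prime_dvd_prime_iff_eq hp hq).1 (hp.dvd_of_dvd_pow hpK)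
  have hq3 : 3 ≤ q := by
    obtain ⟨a, ha⟩ : Odd q := hpq ▸ Odd.of_dvd_nat hodd (Subgroup.card_subgroup_dvd_card W₂)
    have := hq.two_le
    omega
  obtain ⟨P, hPH⟩ := exists_sylow_eq (p := q) hN hle (IsPGroup.of_card (n := r)
    (show Nat.card H = q ^ r by rw [← hr, hcardK]))
    (by
      show q.Coprime K.index
      rw [h.index_eq, ← hpq]
      exact (h.coprime.coprime_dvd_right (Subgroup.card_dvd_of_le h.le)).symm)
  obtain ⟨Z, hZn, hZ1, hZC, hZc⟩ := exists_central hKnil fun e => hab (e ▸ le_rfl)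
  have hY : Cfsg.IsCoherent (↑(seqInd K ⁅K, K⁆) : Set (N → ℂ)) {1}ᶜ (Cfsg.indFun N) :=
    coherent_const_degree hS (seqInd_subset_inducedIrr _)
      (by simpa using seqInd_nonempty (K := K) hsolv hder)
      (fun φ h => seqInd_conj K h) fun φ hφ ψ hψ => by
        rw [seqInd_derived_degree le_rfl hφ, seqInd_derived_degree le_rfl hψ]
  by_cases hWZ : W₂ ≤ Z
  · -- `W₂` is central in `N`
    have hcent : ∀ z ∈ W₂, ∀ g : N, g * z = z * g := by
      intro z hz g
      obtain ⟨k, hk, w, hw, rfl⟩ := h.exists_factor_mem g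
      have hwz : w * z = z * w := by
        rcases eq_or_ne w 1 with rfl | hw1
        · rw [one_mul, mul_one]
        · have := hz
          rw [← h.centralizer_eq w hw hw1] at this
          exact (Subgroup.mem_centralizer_singleton_iff.1 this.2).symm
      rw [mul_assoc, hwz, ← mul_assoc, ← hZc z (hWZ hz) k hk, mul_assoc]
    haveI : W₂.Normal := ⟨fun z hz g => by rwa [hcent z hz g, mul_inv_cancel_right]⟩
    have hWK : W₂ ≤ K := h.le
    have hu := prime_union hS hsolv hder W₂ hq hpq hW₂ hcent (fun η hη => derived_irr h hW₂ hη)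
      fun θ hθ hconst z hz hz1 => value_dvd hN hle hTI hodd P hPH W₂ h.ne_bot₂ hWK
        (fun z hz k _ => (hcent z hz k).symm) N (fun z hz _ => le_antisymm inf_le_left fun x hx =>
          ⟨hx, Subgroup.mem_centralizer_singleton_iff.2
            (congrArg Subtype.val (hcent z hz ⟨x, hx⟩))⟩) hθ hconst hz hz1
    refine coherent_of_union hsolv hS hder W₂ hW₂ (fun z hz k _ => (hcent z hz k).symm) hu
      fun m hm => ?_
    obtain ⟨θ, hθ, m', hm', hbig⟩ := exists_big_degree h hW₂ hodd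
    have h1 := degree_sq_le_central (K := K) (A := ⊥) (Z := W₂)
      (fun z hz k _ => (hcent z hz k).symm) hθ hm'
    have h2 : q * (W₂.subgroupOf K).index = Nat.card K := by
      rw [← hpq, ← Nat.card_congr (Subgroup.subgroupOfEquivOfLe h.le).toEquiv,
        Subgroup.card_mul_index]
    have h3 : 2 * K.index * m ≤ 2 * (W₂.subgroupOf K).index := by
      have h' : 2 * K.index * m ≤ (m' + 1) * m := Nat.mul_le_mul_right _ hbig
      rcases Nat.eq_zero_or_pos m' with rfl | hm'0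
      · exfalso
        have := Nat.pos_of_ne_zero (Subgroup.FiniteIndex.index_ne_zero (H := K))
        omega
      · nlinarith [two_mul_le_add_sq m' m]
    nlinarith
  · -- `W₂` meets `Z` trivially
    have hZK : Z ≤ K := hZC.trans hder.le
    haveI := Fact.mk hp
    have hZW : ∀ z ∈ Z, z ∈ W₂ → z = 1 := by
      intro z hz hzW
      by_contra hz1
      refine hWZ fun x hx => ?_
      obtain ⟨t, ht⟩ := (Submonoid.mem_powers_iff _ _).1
        (mem_powers_of_prime_card (g := (⟨z, hzW⟩ : W₂)) (g' := ⟨x, hx⟩) rfl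
          fun e => hz1 (congrArg Subtype.val e))
      have e : z ^ t = x := congrArg Subtype.val ht
      exact e ▸ pow_mem hz t
    have hcz : ∀ z ∈ Z, z ≠ 1 → Subgroup.centralizer ({z} : Set N) ≤ K := by
      intro z hz hz1 g hg
      obtain ⟨k, hk, w, hw, rfl⟩ := h.exists_factor_mem g
      rcases eq_or_ne w 1 with rfl | hw1
      · rwa [mul_one]
      refine absurd (hZW z hz ?_) hz1
      rw [← h.centralizer_eq w hw hw1]
      refine ⟨hZK hz, Subgroup.mem_centralizer_singleton_iff.2 ?_⟩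
      have h1 := Subgroup.mem_centralizer_singleton_iff.1 hg
      rw [← mul_assoc, hZc z hz k hk, mul_assoc, mul_assoc] at h1
      exact (mul_left_cancel h1).symm
    have hirrX : ∀ φ ∈ outside K Z, Cfsg.IsIrrCharacter N φ :=
      fun φ hφ => outside_irr h Z hZK hZc hZW hφ
    obtain ⟨hτ, hτ1⟩ := isometry_indFun hN hTI
    have hu := coherent_glue hτ hτ1 Z ⁅K, K⁆ hZC hZK
      (coherent_outside hsolv hS hodd hKnil hder hKL hfrob Z hZ1 hZK hZc hirrX) hY
      (outside_nonempty hZ1 hZK) (seqInd_nonempty hsolv hder)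
      (fun η hη => seqInd_derived_degree le_rfl hη)
      (fun θ hθ hconst z hz hz1 => value_dvd hN hle hTI hodd P hPH Z hZ1 hZK hZc H
        (fun z hz hz1 => le_antisymm (fun x hx => Subgroup.mem_subgroupOf.1
            (hcz z hz hz1 (show (⟨x, hx.1⟩ : N) ∈ _ from Subgroup.mem_centralizer_singleton_iff.2
              (Subtype.ext (Subgroup.mem_centralizer_singleton_iff.1 hx.2)))))
          fun y hy => ⟨hle hy, Subgroup.mem_centralizer_singleton_iff.2
            (congrArg Subtype.val (hZc z hz ⟨y, hle hy⟩ (Subgroup.mem_subgroupOf.2 hy)).symm)⟩)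
        hθ hconst hz hz1)
      (fun ξ hξ => by
        obtain ⟨-, -, m, hm0, -, -, hd⟩ := seqInd_degree K (mem_outside.1 hξ).1
        exact ⟨m, hm0, hd⟩)
      (fun φ hφ => hφ.elim (hirrX φ) fun hφ => derived_irr h hW₂ hφ)
      (fun φ hφ => hS.conj_ne φ (seqInd_subset_inducedIrr ⊥
        (hφ.elim (fun hφ => (mem_outside.1 hφ).1) fun hφ => seqInd_subset_bot K _ hφ))) hZ1
    refine coherent_of_union hsolv hS hder Z hZC hZc hu fun m hm => ?_
    have h2 := two_index_lt_card hodd Z hcz hZ1 hZc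
    have h3 : Nat.card Z * (Z.subgroupOf K).index = Nat.card K := by
      rw [← Nat.card_congr (Subgroup.subgroupOfEquivOfLe hZK).toEquiv, Subgroup.card_mul_index]
    have : m ≤ m ^ 2 := Nat.le_self_pow two_ne_zero m
    nlinarith

end TI

end Cfsg.Agent.OddOrder.PF6
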