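import Cfsg.Agent.OddOrder.PF6.Prime

/-!
# Peterfalvi (6.8), case (c2): joining `S ∖ S(Z)` and `S(K')` for a central `Z` of prime order
-/

set_option autoImplicit false

namespace Cfsg.Agent.OddOrder.PF6

open Cfsg.Agent Cfsg.Agent.CharInduce Cfsg.Agent.CharBasic Finset
open scoped ComplexConjugate commutatorElement

universe u v

section Helpers

variable {G : Type v} [Group G] [Fintype G]

open scoped Classical in
theorem bessel {R : Finset (G → ℂ)}
    (hR : ∀ α ∈ R, ∀ β ∈ R, classInner α β = if α = β then 1 else 0) (w : G → ℂ) :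
    ∑ α ∈ R, ‖classInner w α‖ ^ 2 ≤ (classInner w w).re := by
  obtain ⟨p1, p2⟩ := H43.proj_norm hR w
  have h := H43.classInner_self_re_nonneg (w - H43.proj R w)
  rw [classInner_sub_left, classInner_sub_right, classInner_sub_right, p1, p2,
    ← classInner_conj_symm w (H43.proj R w), p2, Complex.conj_ofReal] at h
  simp only [Complex.sub_re, Complex.ofReal_re] at h
  linarith

/-- Two orthogonal pairs of signed irreducible characters of one degree with the same difference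
are equal. -/
theorem signed_eq_of_sub {A B C D : G → ℂ} (hA : H43.Signed A) (hC : H43.Signed C)
    (hD : H43.Signed D) (hAB : classInner A B = 0) (he : A - B = C - D) (hC1 : C 1 = A 1)
    (hD1 : D 1 = A 1) : C = A := by
  have key : ∀ X : G → ℂ, H43.Signed X → X 1 = A 1 → X = A ∨ classInner X A = 0 := by
    intro X hX h1
    rcases H43.Signed.inner_eq hX hA with h | ⟨s, -, hs, -, -⟩
    · exact Or.inr h
    · have hs1 : s = 1 := by
        have h' : X 1 = s * A 1 := congrFun hs 1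
        rw [h1] at h'
        exact (mul_eq_right₀ hA.one_ne_zero).1 h'.symm
      exact Or.inl (by rw [hs, hs1, one_smul])
  rcases key C hC hC1 with h | h
  · exact h
  exfalso
  have h2 := congrArg (fun X => classInner X A) he
  simp only [classInner_sub_left, hA.inner_self, h,
    show classInner B A = 0 by rw [← classInner_conj_symm, hAB, map_zero]] at h2
  rcases key D hD hD1 with h' | h'
  · rw [h', hA.inner_self] at h2
    norm_num at h2
  · rw [h'] at h2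
    norm_num at h2

end Helpers

section Main

variable {G : Type u} [Group G] [Fintype G] {N : Subgroup G} [Fintype N] {K : Subgroup N}
  [hK : K.Normal]

/-- Peterfalvi (6.8), the main step for a central subgroup of prime order. -/
theorem prime_union {R : (N → ℂ) → Finset (G → ℂ)}
    (hS : Cfsg.IsCoherenceSystem (Cfsg.inducedIrrAbove K ⊥) (Cfsg.indFun N) R)
    (hsolv : Group.IsSolvable K) (hder : ⁅K, K⁆ < K)
    (Z : Subgroup N) [Z.Normal] {p : ℕ} (hp : p.Prime) (hZp : Nat.card Z = p)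
    (hZK : Z ≤ ⁅K, K⁆) (hZc : ∀ z ∈ Z, ∀ g : N, g * z = z * g)
    (hirr : ∀ η ∈ seqInd K ⁅K, K⁆, Cfsg.IsIrrCharacter N η)
    (hdiv : ∀ θ : G → ℂ, Cfsg.IsIrrCharacter G θ →
      (∀ z ∈ Z, ∀ z' ∈ Z, z ≠ 1 → z' ≠ 1 → θ (z : G) = θ (z' : G)) → ∀ z ∈ Z, z ≠ 1 →
      ∃ n d : ℤ, θ (z : G) = n ∧ θ 1 = d ∧ (Nat.card K : ℤ) ∣ d - n) :
    Cfsg.IsCoherent ((↑(outside K Z) : Set (N → ℂ)) ∪ ↑(seqInd K ⁅K, K⁆)) {1}ᶜ
      (Cfsg.indFun N) := by
  classical
  rw [← coe_seqInd] at hS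
  haveI := Fintype.ofFinite K
  haveI := Fact.mk hp
  set X := outside K Z with hXdef
  set Y := seqInd K ⁅K, K⁆ with hYdef
  set S := seqInd K ⊥ with hSdef
  set e := K.index with hedef
  have hZK' : Z ≤ K := hZK.trans hder.le
  have hZ1 : Z ≠ ⊥ := fun h => hp.ne_one (by rw [← hZp, h, Subgroup.card_bot])
  have he0 : 0 < e := Nat.pos_of_ne_zero Subgroup.FiniteIndex.index_ne_zero
  have heC : (e : ℂ) ≠ 0 := by exact_mod_cast he0.ne'
  have hXS : X ⊆ S := fun φ h => (mem_outside.1 h).1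
  have hYS : Y ⊆ S := seqInd_subset_bot K _
  have hdeg : ∀ φ ∈ S, ∃ m : ℕ, 0 < m ∧ φ 1 = ((e * m : ℕ) : ℂ) := fun φ h => by
    obtain ⟨-, -, m, hm0, -, -, hd⟩ := seqInd_degree K h
    exact ⟨m, hm0, hd⟩
  choose dd hdd0 hdd using hdeg
  let b : (N → ℂ) → ℕ := fun φ => if h : φ ∈ S then dd φ h else 0
  have hb : ∀ φ ∈ S, 0 < b φ ∧ φ 1 = ((e * b φ : ℕ) : ℂ) := fun φ h => by
    simp only [b, dif_pos h]
    exact ⟨hdd0 φ h, hdd φ h⟩
  have hYdeg : ∀ η ∈ Y, η 1 = (e : ℂ) := fun η h => seqInd_derived_degree le_rfl h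
  have hYb : ∀ η ∈ Y, b η = 1 := fun η h => by
    have h' := (hb η (hYS h)).2.symm.trans (hYdeg η h)
    rw [Nat.cast_inj] at h'
    exact Nat.eq_of_mul_eq_mul_left he0 (h'.trans (mul_one e).symm)
  have hYn : ∀ η ∈ Y, classInner η η = 1 := fun η h => classInner_irr_self (hirr η h)
  have hdisj : ∀ φ ∈ X, φ ∉ Y := fun φ h h' => (mem_outside.1 h).2 (seqInd_mono K hZK h')
  have hYc : ∀ η ∈ Y, Cfsg.conjFun η ∈ Y := fun η h => seqInd_conj K h
  have horth : ∀ φ ∈ S, ∀ ψ ∈ S, φ ≠ ψ → classInner φ ψ = 0 := fun φ h ψ h' =>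
    hS.orthogonal φ h ψ h'
  -- the extension on `Y`
  obtain ⟨η₀, hη₀⟩ := seqInd_nonempty (K := K) hsolv hder
  obtain ⟨-, τ₁, hτ₁, hτα⟩ := coherent_const_degree hS (coe_subset.2 hYS)
    ⟨η₀, mem_coe.2 hη₀⟩ hYc fun φ hφ ψ hψ => by rw [hYdeg φ hφ, hYdeg ψ hψ]
  set T₀ := τ₁ η₀ with hT₀
  have hgenT : ∀ η ∈ Y, Cfsg.IsGeneralizedCharacter G (τ₁ η) := fun η h =>
    H43.iso_gen hτ₁ (H43.zspan_mem h)
  have hτorth : ∀ η ∈ Y, ∀ η' ∈ Y, classInner (τ₁ η) (τ₁ η') = if η = η' then 1 else 0 := by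
    intro η h η' h'
    rw [H43.iso_inner hτ₁ (H43.zspan_mem h) (H43.zspan_mem h'),
      classInner_irr (hirr η h) (hirr η' h')]
  have hsgnT : ∀ η ∈ Y, H43.Signed (τ₁ η) := fun η h =>
    H43.iso_signed hτ₁ (H43.zspan_mem h) (hYn η h)
  have hYpair : ∀ η ∈ Y, ∀ η' ∈ Y, η - η' ∈ Cfsg.zspanOn (↑Y : Set (N → ℂ)) {1}ᶜ := by
    intro η h η' h'
    rw [H43.zspanOn_compl_one]
    exact ⟨H43.zspan_sub (H43.zspan_mem h) (H43.zspan_mem h'), by simp [hYdeg η h, hYdeg η' h']⟩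
  have hYsub : ∀ {α}, α ∈ Cfsg.zspanOn (↑Y : Set (N → ℂ)) ({1}ᶜ : Set N) →
      α ∈ Cfsg.zspanOn (↑S : Set (N → ℂ)) ({1}ᶜ : Set N) := fun h =>
    ⟨H43.zspan_mono (coe_subset.2 hYS) h.1, h.2⟩
  have hτimg : ∀ η ∈ Y, ∀ η' ∈ Y, Cfsg.indFun N (η - η') = τ₁ η - τ₁ η' := fun η h η' h' => by
    rw [← hτα _ (hYpair η h η' h'), H43.iso_sub hτ₁ (H43.zspan_mem h) (H43.zspan_mem h')
      (hYpair η h η' h').1]
  have hτdeg : ∀ η ∈ Y, τ₁ η 1 = T₀ 1 := fun η h => by
    have h1 := hS.map_one _ (hYsub (hYpair η h η₀ hη₀))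
    rw [hτimg η h η₀ hη₀, Pi.sub_apply, sub_eq_zero] at h1
    exact h1
  -- the images of the differences
  let V : (N → ℂ) → (G → ℂ) := fun φ => Cfsg.indFun N (φ - (b φ : ℤ) • η₀)
  have hVmem : ∀ φ ∈ S, φ - (b φ : ℤ) • η₀ ∈ Cfsg.zspanOn (↑S : Set (N → ℂ)) ({1}ᶜ : Set N) := by
    intro φ hφ
    rw [H43.zspanOn_compl_one]
    refine ⟨H43.zspan_sub (H43.zspan_mem hφ) (H43.zspan_zsmul (H43.zspan_mem (hYS hη₀)) _), ?_⟩
    simp [(hb φ hφ).2, hYdeg η₀ hη₀]
    ring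
  have hVgen : ∀ φ ∈ S, Cfsg.IsGeneralizedCharacter G (V φ) := fun φ h =>
    H43.iso_gen hS.isometry (hVmem φ h)
  have hXY0 : ∀ φ ∈ X, ∀ η ∈ Y, classInner φ η = 0 ∧ classInner η φ = 0 := fun φ h η h' =>
    ⟨horth φ (hXS h) η (hYS h') fun e => hdisj φ h (e ▸ h'),
      horth η (hYS h') φ (hXS h) fun e => hdisj φ h (e ▸ h')⟩
  have hY : ∀ φ ∈ X, ∃ y : ℤ, classInner (V φ) T₀ = (y : ℂ) - (b φ : ℂ) := fun φ h => by
    obtain ⟨n, hn⟩ := H43.gen_inner_int (hVgen φ (hXS h)) (hgenT η₀ hη₀)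
    exact ⟨n + b φ, by rw [hn]; push_cast; ring⟩
  choose yy hyy using hY
  let y : (N → ℂ) → ℤ := fun φ => if h : φ ∈ X then yy φ h else 0
  have hy : ∀ φ ∈ X, classInner (V φ) T₀ = (y φ : ℂ) - (b φ : ℂ) := fun φ h => by
    simp only [y, dif_pos h]
    exact hyy φ h
  have hVY : ∀ φ ∈ X, ∀ η ∈ Y,
      classInner (V φ) (τ₁ η) = (y φ : ℂ) - if η = η₀ then (b φ : ℂ) else 0 := by
    intro φ hφ η hη
    have h := H43.iso_inner hS.isometry (hVmem φ (hXS hφ)) (hYsub (hYpair η hη η₀ hη₀))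
    rw [hτimg η hη η₀ hη₀] at h
    simp only [classInner_sub_left, classInner_sub_right, H43.classInner_zsmul_left,
      (hXY0 φ hφ η hη).1, (hXY0 φ hφ η₀ hη₀).1, hYn η₀ hη₀,
      classInner_irr (hirr η₀ hη₀) (hirr η hη), eq_comm (a := η₀) (b := η), Int.cast_natCast] at h
    rw [show classInner (V φ) (τ₁ η) = classInner (V φ) T₀ + (classInner (V φ) (τ₁ η)
      - classInner (V φ) T₀) by ring, h, hy φ hφ]
    split_ifs <;> ring
  -- Bessel's inequality
  have hnY : 2 ≤ Y.card := by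
    have h : ({η₀, Cfsg.conjFun η₀} : Finset (N → ℂ)).card ≤ Y.card :=
      card_le_card (insert_subset hη₀ (singleton_subset_iff.2 (hYc η₀ hη₀)))
    rwa [card_pair (hS.conj_ne η₀ (hYS hη₀)).symm] at h
  have hbound : ∀ φ ∈ X, 0 ≤ y φ ∧ y φ ≤ b φ ∧ (Y.card : ℤ) * y φ ^ 2 ≤ 2 * b φ * y φ := by
    intro φ hφ
    have hφS := hXS hφ
    set c := (b φ : ℤ) with hc
    have hψ : (c • η₀) ∈ Cfsg.zspan (↑S : Set (N → ℂ)) :=
      H43.zspan_zsmul (H43.zspan_mem (hYS hη₀)) _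
    have hcX : Cfsg.conjFun φ ∈ X := outside_conj hφ
    obtain ⟨hlow, -⟩ := H43.sys_part hS hφS hψ
      (by rw [H43.classInner_zsmul_right, (hXY0 φ hφ η₀ hη₀).1, mul_zero])
      (by rw [H43.classInner_zsmul_right, (hXY0 _ hcX η₀ hη₀).1, mul_zero])
      (by simp [hc, (hb φ hφS).2, hYdeg η₀ hη₀]; ring)
    change _ ≤ ∑ α ∈ R φ, ‖classInner (V φ) α‖ ^ 2 at hlow
    have horth' : ∀ α ∈ R φ, ∀ η ∈ Y, classInner α (τ₁ η) = 0 := by
      intro α hα η hη
      rw [H43.sys_image_eq_proj hS hτ₁ hτα (hYS hη) hη (hYc η hη), ← classInner_conj_symm,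
        H43.inner_proj_zero, map_zero]
      intro β hβ
      rw [← classInner_conj_symm, H43.sys_R_orth hS (hYS hη) hφS (fun e => hdisj φ hφ (e ▸ hη))
        (fun e => hdisj φ hφ (e ▸ hYc η hη)) α hα β hβ, map_zero]
    have hinj : Set.InjOn τ₁ (↑Y : Set (N → ℂ)) := fun η hη η' hη' e => by
      have h := hτorth η hη η' hη'
      rw [e, hτorth η' hη' η' hη', if_pos rfl] at h
      by_contra hne
      rw [if_neg hne] at h
      exact one_ne_zero h
    have hdj : Disjoint (R φ) (Y.image τ₁) := Finset.disjoint_left.2 fun α hα hα' => by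
      obtain ⟨η, hη, rfl⟩ := mem_image.1 hα'
      have h := horth' _ hα η hη
      rw [(hsgnT η hη).inner_self] at h
      exact one_ne_zero h
    have hon : ∀ α ∈ R φ ∪ Y.image τ₁, ∀ β ∈ R φ ∪ Y.image τ₁,
        classInner α β = if α = β then 1 else 0 := by
      intro α hα β hβ
      rcases mem_union.1 hα with hα | hα <;> rcases mem_union.1 hβ with hβ | hβ
      · exact hS.orthonormal φ hφS α hα β hβ
      · obtain ⟨η, hη, rfl⟩ := mem_image.1 hβ
        rw [horth' α hα η hη, if_neg]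
        exact fun e => Finset.disjoint_left.1 hdj hα (by rw [e]; exact mem_image_of_mem _ hη)
      · obtain ⟨η, hη, rfl⟩ := mem_image.1 hα
        rw [← classInner_conj_symm, horth' β hβ η hη, map_zero, if_neg]
        exact fun e => Finset.disjoint_left.1 hdj hβ (by rw [← e]; exact mem_image_of_mem _ hη)
      · obtain ⟨η, hη, rfl⟩ := mem_image.1 hα
        obtain ⟨η', hη', rfl⟩ := mem_image.1 hβ
        rw [hτorth η hη η' hη']
        exact if_congr ⟨fun e => e ▸ rfl, fun e => hinj hη hη' e⟩ rfl rfl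
    have h := bessel hon (V φ)
    rw [sum_union hdj, sum_image hinj, H43.iso_inner hS.isometry (hVmem φ hφS) (hVmem φ hφS)] at h
    simp only [classInner_sub_left, classInner_sub_right, H43.classInner_zsmul_left,
      H43.classInner_zsmul_right, (hXY0 φ hφ η₀ hη₀).1, (hXY0 φ hφ η₀ hη₀).2, hYn η₀ hη₀,
      mul_zero, sub_zero, zero_sub, mul_one, Int.cast_natCast] at h
    have hsum : ∑ η ∈ Y, ‖classInner (V φ) (τ₁ η)‖ ^ 2
        = ((∑ η ∈ Y, (y φ - if η = η₀ then c else 0) ^ 2 : ℤ) : ℝ) := by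
      push_cast
      refine sum_congr rfl fun η hη => ?_
      rw [hVY φ hφ η hη, show ((y φ : ℂ) - if η = η₀ then (b φ : ℂ) else 0)
        = ((y φ - if η = η₀ then c else 0 : ℤ) : ℂ) by split_ifs <;> simp [hc],
        Complex.norm_intCast, sq_abs]
      push_cast
      rfl
    have hval : ∑ η ∈ Y, (y φ - if η = η₀ then c else 0) ^ 2
        = (Y.card : ℤ) * y φ ^ 2 - 2 * c * y φ + c ^ 2 := by
      rw [sum_congr rfl fun η _ => show (y φ - if η = η₀ then c else 0) ^ 2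
          = y φ ^ 2 + if η = η₀ then c ^ 2 - 2 * c * y φ else 0 by split_ifs <;> ring,
        sum_add_distrib, sum_ite_eq', if_pos hη₀, sum_const, nsmul_eq_mul]
      ring
    have hmain : (Y.card : ℤ) * y φ ^ 2 - 2 * c * y φ ≤ 0 := by
      rw [hsum, hval] at h
      simp only [Complex.add_re, Complex.sub_re, Complex.neg_re, Complex.mul_re, Complex.natCast_re,
        Complex.natCast_im, mul_zero, sub_zero] at h
      have h2 : (((Y.card : ℤ) * y φ ^ 2 - 2 * c * y φ : ℤ) : ℝ) ≤ 0 := by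
        simp only [hc] at h ⊢
        push_cast at h ⊢
        linarith
      exact_mod_cast h2
    have hc0 : 0 ≤ c := by positivity
    have hn : (2 : ℤ) ≤ Y.card := by exact_mod_cast hnY
    have hy0 : 0 ≤ y φ := by
      by_contra hlt
      have h1 : c * y φ ≤ 0 := mul_nonpos_of_nonneg_of_nonpos hc0 (by omega)
      have h2 : 0 < y φ ^ 2 := sq_pos_of_ne_zero (by omega)
      nlinarith
    refine ⟨hy0, ?_, by linarith⟩
    by_contra hlt
    nlinarith [mul_le_mul_of_nonneg_right hn (sq_nonneg (y φ))]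
  -- the restriction of `τ₁ η₀`
  set f : N → ℂ := fun g => T₀ g with hf
  have hfgen : Cfsg.IsGeneralizedCharacter N f := CharInduce.IsGen.comp (hgenT η₀ hη₀) N.subtype
  have hrec : ∀ (η : N → ℂ), η ∈ Y → ∀ α : N → ℂ,
      classInner α (fun g : N => τ₁ η g) = classInner (Cfsg.indFun N α) (τ₁ η) := fun η h α =>
    (classInner_indFun_left N α _ (H43.gen_isClassFunction (hgenT η h))).symm
  obtain ⟨κ, hκ⟩ : ∃ κ : ℤ, classInner η₀ f = (κ : ℂ) + 1 := by
    obtain ⟨n, hn⟩ := H43.gen_inner_int (H43.gen_of_irr (hirr η₀ hη₀)) hfgen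
    exact ⟨n - 1, by rw [hn]; push_cast; ring⟩
  have hcoef : ∀ φ ∈ X, classInner φ f = (((b φ : ℤ) * κ + y φ : ℤ) : ℂ) := by
    intro φ hφ
    have h := hrec η₀ hη₀ (φ - (b φ : ℤ) • η₀)
    rw [classInner_sub_left, H43.classInner_zsmul_left, ← hT₀, ← hf, hκ, hy φ hφ] at h
    push_cast at h ⊢
    linear_combination h
  -- field automorphisms fix the coefficients
  have hautX : ∀ (σ : ℂ ≃+* ℂ), ∀ φ ∈ X, (fun g => σ (φ g)) ∈ X := by
    intro σ φ hφ
    refine mem_outside.2 ⟨seqInd_aut σ (mem_outside.1 hφ).1, fun h => (mem_outside.1 hφ).2 ?_⟩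
    simpa using seqInd_aut σ.symm h
  have hinv : ∀ (σ : ℂ ≃+* ℂ), ∀ φ ∈ X, classInner (fun g => σ (φ g)) f = classInner φ f := by
    intro σ φ hφ
    set φ' : N → ℂ := fun g => σ (φ g) with hφ'
    set η₁ : N → ℂ := fun g => σ (η₀ g) with hη₁'
    have hφX : φ' ∈ X := hautX σ φ hφ
    have hη₁ : η₁ ∈ Y := seqInd_aut σ hη₀
    have hb' : b φ' = b φ := by
      have h1 := (hb φ' (hXS hφX)).2
      rw [show φ' 1 = σ (φ 1) from rfl, (hb φ (hXS hφ)).2, map_natCast, Nat.cast_inj] at h1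
      exact (Nat.eq_of_mul_eq_mul_left he0 h1).symm
    have hηc : ((fun g => σ (Cfsg.conjFun η₀ g)) : N → ℂ) ∈ Y := seqInd_aut σ (hYc η₀ hη₀)
    have hσ1 : σ (T₀ 1) = T₀ 1 := by
      obtain ⟨n, hn⟩ := H43.gen_one_int (hgenT η₀ hη₀)
      rw [hT₀, hn, map_intCast]
    have hequiv : τ₁ η₁ = fun g => σ (T₀ g) := by
      refine signed_eq_of_sub (H43.aut_signed σ (hsgnT η₀ hη₀)) (hsgnT η₁ hη₁) (hsgnT _ hηc)
        (B := fun g => σ (τ₁ (Cfsg.conjFun η₀) g)) ?_ ?_ ((hτdeg η₁ hη₁).trans hσ1.symm)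
        ((hτdeg _ hηc).trans hσ1.symm)
      · rw [classInner_aut σ _ (hgenT _ (hYc η₀ hη₀)), hτorth η₀ hη₀ _ (hYc η₀ hη₀),
          if_neg (hS.conj_ne η₀ (hYS hη₀)).symm, map_zero]
      · rw [← hτimg η₁ hη₁ _ hηc]
        funext g
        rw [show η₁ - (fun g => σ (Cfsg.conjFun η₀ g)) = fun k => σ ((η₀ - Cfsg.conjFun η₀) k) from
          funext fun k => by simp [hη₁'], indFun_aut, hτimg η₀ hη₀ _ (hYc η₀ hη₀)]
        simp [hT₀]
    set f₁ : N → ℂ := fun g => τ₁ η₁ g with hf₁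
    have hff : f₁ = fun g => σ (f g) := funext fun g => congrFun hequiv g
    have e1 : classInner φ' f₁ = classInner φ f := by
      rw [hff, classInner_aut σ _ hfgen, hcoef φ hφ, map_intCast]
    have e2 : classInner η₁ f₁ = classInner η₀ f := by
      rw [hff, classInner_aut σ _ hfgen, hκ, map_add, map_intCast, map_one]
    have e3 := hrec η₁ hη₁ (φ' - (b φ' : ℤ) • η₀)
    rw [show Cfsg.indFun N (φ' - (b φ' : ℤ) • η₀) = V φ' from rfl, hVY φ' hφX η₁ hη₁,
      classInner_sub_left, H43.classInner_zsmul_left, ← hf₁, e1] at e3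
    have e4 := hrec η₁ hη₁ (η₁ - η₀)
    rw [hτimg η₁ hη₁ η₀ hη₀, classInner_sub_left, classInner_sub_left, ← hf₁, e2,
      hτorth η₁ hη₁ η₁ hη₁, if_pos rfl, hτorth η₀ hη₀ η₁ hη₁] at e4
    rw [hb', Int.cast_natCast] at e3
    rw [hcoef φ' hφX, hb']
    push_cast
    by_cases h : η₁ = η₀
    · rw [if_pos h] at e3
      rw [if_pos h.symm] at e4
      linear_combination -e3 + (b φ : ℂ) * (e4 - hκ)
    · rw [if_neg h] at e3
      rw [if_neg (Ne.symm h)] at e4
      linear_combination -e3 + (b φ : ℂ) * (e4 - hκ)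
  -- the values of `f` on `Z`
  set Z' := Z.subgroupOf K with hZ'
  haveI : Fintype Z' := Fintype.ofFinite _
  have hZ'card : Nat.card Z' = p := by
    rw [Nat.card_congr (Subgroup.subgroupOfEquivOfLe hZK').toEquiv, hZp]
  have hZ'c : ∀ z ∈ Z', ∀ g : K, g * z = z * g := fun z hz g =>
    Subtype.ext (hZc z (Subgroup.mem_subgroupOf.1 hz) g)
  let I : Finset (IrrCharacter K) :=
    univ.filter fun θ => ∃ z ∈ Z', (θ : K → ℂ) z ≠ (θ : K → ℂ) 1
  have hIX : ∀ θ ∈ I, indFun K (θ : K → ℂ) ∈ X := fun θ hθ => by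
    obtain ⟨z, hz, hne⟩ := (mem_filter.1 hθ).2
    exact indFun_mem_outside (Subgroup.mem_subgroupOf.1 hz) hne
  let m : IrrCharacter K → ℕ := fun θ => b (indFun K (θ : K → ℂ))
  have hm : ∀ θ ∈ I, (θ : K → ℂ) 1 = (m θ : ℂ) := fun θ hθ => by
    have h := (hb _ (hXS (hIX θ hθ))).2
    rw [indFun_one, Nat.cast_mul] at h
    exact mul_left_cancel₀ heC h
  let cc : IrrCharacter K → ℂ := fun θ => classInner (indFun K (θ : K → ℂ)) f
  have hout : ∀ θ : IrrCharacter K, θ ∉ I → ∀ z ∈ Z', (θ : K → ℂ) z = (θ : K → ℂ) 1 :=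
    fun θ h z hz => by
      by_contra hne
      exact h (mem_filter.2 ⟨mem_univ _, z, hz, hne⟩)
  have hdiff : ∀ z ∈ Z', f (z : N) - f 1
      = ∑ θ ∈ I, cc θ * ((θ : K → ℂ) z - (θ : K → ℂ) 1) := by
    intro z hz
    have hgK : Cfsg.IsGeneralizedCharacter K (fun k : K => f k) :=
      CharInduce.IsGen.comp hfgen K.subtype
    have hexp := classFunction_expansion (H43.gen_isClassFunction hgK)
    have e1 := congrFun hexp z
    have e2 := congrFun hexp 1
    simp only [Finset.sum_apply, Pi.smul_apply, smul_eq_mul, OneMemClass.coe_one] at e1 e2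
    rw [e1, e2, ← sum_sub_distrib, sum_subset (subset_univ I) fun θ _ h => by
      rw [hout θ h z hz, sub_self, mul_zero]]
    refine sum_congr rfl fun θ _ => ?_
    simp only [cc]
    rw [← H43.gen_inner_symm (H43.gen_of_irr θ.2) hgK,
      classInner_indFun_left K _ _ (H43.gen_isClassFunction hfgen)]
    ring
  have hfix : ∀ (σ : ℂ ≃+* ℂ), ∀ z ∈ Z', σ (f (z : N)) = f (z : N) := by
    intro σ z hz
    have h1 : σ (f 1) = f 1 := by
      obtain ⟨n, hn⟩ := H43.gen_one_int hfgen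
      rw [hn, map_intCast]
    have h2 : σ (f (z : N) - f 1) = f (z : N) - f 1 := by
      rw [hdiff z hz, map_sum]
      refine sum_bij (fun θ _ => ⟨fun k => σ ((θ : K → ℂ) k), H43.aut_irr σ θ.2⟩) (fun θ hθ => ?_)
        (fun θ _ θ' _ e => Subtype.ext (funext fun k => σ.injective
          (congrFun (congrArg Subtype.val e) k))) (fun θ hθ => ?_) fun θ hθ => ?_
      · obtain ⟨w, hw, hne⟩ := (mem_filter.1 hθ).2
        exact mem_filter.2 ⟨mem_univ _, w, hw, fun e => hne (σ.injective e)⟩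
      · refine ⟨⟨fun k => σ.symm ((θ : K → ℂ) k), H43.aut_irr σ.symm θ.2⟩, ?_,
          Subtype.ext (funext fun k => σ.apply_symm_apply _)⟩
        obtain ⟨w, hw, hne⟩ := (mem_filter.1 hθ).2
        exact mem_filter.2 ⟨mem_univ _, w, hw, fun e => hne (σ.symm.injective e)⟩
      · have hcσ : σ (cc θ) = cc θ := by
          simp only [cc]
          rw [hcoef _ (hIX θ hθ), map_intCast]
        rw [map_mul, map_sub, hcσ]
        simp only [cc]
        rw [show indFun K (fun k => σ ((θ : K → ℂ) k)) = fun g => σ (indFun K (θ : K → ℂ) g) from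
          funext fun g => indFun_aut σ K _ g, hinv σ _ (hIX θ hθ)]
    rw [map_sub, h1] at h2
    exact sub_left_inj.1 h2
  have hconst : ∀ z ∈ Z, ∀ z' ∈ Z, z ≠ 1 → z' ≠ 1 → T₀ (z : G) = T₀ (z' : G) := by
    intro z hz z' hz' h h'
    have hord : orderOf z = p := by
      have h1 := orderOf_dvd_natCard (⟨z, hz⟩ : Z)
      rw [hZp, Subgroup.orderOf_mk] at h1
      exact ((Nat.dvd_prime hp).1 h1).resolve_left fun e => h (orderOf_eq_one_iff.1 e)
    obtain ⟨t, ht⟩ : ∃ t : ℕ, z ^ t = z' := by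
      obtain ⟨t, ht⟩ := (Submonoid.mem_powers_iff _ _).1
        (mem_powers_of_prime_card (g := (⟨z, hz⟩ : Z)) (g' := ⟨z', hz'⟩) hZp
          fun e => h (congrArg Subtype.val e))
      exact ⟨t, congrArg Subtype.val ht⟩
    have hcop : t.Coprime p := by
      refine Nat.Coprime.symm (hp.coprime_iff_not_dvd.2 fun hd => h' ?_)
      rw [← ht, ← orderOf_dvd_iff_pow_eq_one, hord]
      exact hd
    obtain ⟨σ, hσ⟩ := H43.exists_aut_pow hp.ne_zero hcop
    have e1 := aut_apply_pow hfgen z σ (t := t) fun w hw => hσ w (by rwa [hord] at hw)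
    rw [ht] at e1
    have e2 := hfix σ ⟨z, hZK' hz⟩ (Subgroup.mem_subgroupOf.2 hz)
    exact e2.symm.trans e1
  obtain ⟨z₀, hz₀, hz₀1⟩ : ∃ z ∈ Z, z ≠ (1 : N) := by
    by_contra hc
    push Not at hc
    exact hZ1 ((Subgroup.eq_bot_iff_forall Z).2 hc)
  obtain ⟨k, hk⟩ : ∃ k : ℤ, f 1 - f z₀ = ((k * (Nat.card K : ℤ) : ℤ) : ℂ) := by
    rcases hsgnT η₀ hη₀ with h | h
    · obtain ⟨n, d, hn, hd, k, hk⟩ := hdiv T₀ h hconst z₀ hz₀ hz₀1
      refine ⟨k, ?_⟩
      show T₀ 1 - T₀ (z₀ : G) = _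
      rw [hn, hd, ← Int.cast_sub, hk, mul_comm]
    · obtain ⟨n, d, hn, hd, k, hk⟩ := hdiv (-T₀) h
        (fun w hw w' hw' h1 h1' => by simp [hconst w hw w' hw' h1 h1']) z₀ hz₀ hz₀1
      refine ⟨-k, ?_⟩
      show T₀ 1 - T₀ (z₀ : G) = _
      simp only [Pi.neg_apply] at hn hd
      rw [neg_eq_iff_eq_neg.1 hn, neg_eq_iff_eq_neg.1 hd, neg_mul, Int.cast_neg, mul_comm, ← hk,
        Int.cast_sub]
      ring
  -- averaging over `Z`
  have hsumθ : ∀ θ ∈ I, ∑ z : Z', ((θ : K → ℂ) 1 - (θ : K → ℂ) z) = (p : ℂ) * (m θ : ℂ) := by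
    intro θ hθ
    rw [sum_sub_distrib, sum_central_eq_zero θ.2 Z' hZ'c (mem_filter.1 hθ).2, sum_const, card_univ,
      ← Nat.card_eq_fintype_card, hZ'card, nsmul_eq_mul, sub_zero, hm θ hθ]
  have hsq : (p : ℤ) * ∑ θ ∈ I, (m θ : ℤ) ^ 2 = ((p : ℤ) - 1) * (Nat.card K : ℤ) := by
    have h1 : ∀ z : Z', ∑ θ ∈ I, (θ : K → ℂ) 1 * ((θ : K → ℂ) 1 - (θ : K → ℂ) z)
        = (Nat.card K : ℂ) - if (z : K) = 1 then (Nat.card K : ℂ) else 0 := by
      intro z
      rw [sum_subset (subset_univ I) fun θ _ h => by rw [hout θ h z z.2, sub_self, mul_zero]]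
      simp only [mul_sub, sum_sub_distrib, sum_degree_mul_apply, if_true]
    have h2 := sum_congr (rfl : (univ : Finset Z') = univ) fun z _ => h1 z
    rw [sum_comm, sum_congr rfl fun θ hθ => by
      rw [← mul_sum, hsumθ θ hθ, hm θ hθ]] at h2
    simp only [sum_sub_distrib, sum_const, card_univ, ← Nat.card_eq_fintype_card, hZ'card,
      OneMemClass.coe_eq_one, sum_ite_eq', mem_univ, if_true, nsmul_eq_mul] at h2
    have h3 : (((p : ℤ) * ∑ θ ∈ I, (m θ : ℤ) ^ 2 : ℤ) : ℂ)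
        = ((((p : ℤ) - 1) * (Nat.card K : ℤ) : ℤ) : ℂ) := by
      push_cast
      rw [sub_mul, one_mul, ← h2, mul_sum]
      exact sum_congr rfl fun θ _ => by ring
    exact_mod_cast h3
  have hlin : ((p : ℤ) - 1) * (k * (Nat.card K : ℤ))
      = (p : ℤ) * ∑ θ ∈ I, ((m θ : ℤ) * κ + y (indFun K (θ : K → ℂ))) * m θ := by
    have h1 : ∀ z : Z', f 1 - f ((z : K) : N)
        = if (z : K) = 1 then 0 else ((k * (Nat.card K : ℤ) : ℤ) : ℂ) := by
      intro z
      split_ifs with h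
      · rw [h, OneMemClass.coe_one, sub_self]
      · rw [← hk]
        have := hconst z₀ hz₀ ((z : K) : N) (Subgroup.mem_subgroupOf.1 z.2) hz₀1
          fun e => h (Subtype.ext e)
        show T₀ 1 - T₀ (((z : K) : N) : G) = T₀ 1 - T₀ (z₀ : G)
        rw [this]
    have h2 : ∑ z : Z', (f 1 - f ((z : K) : N))
        = ∑ θ ∈ I, cc θ * ((p : ℂ) * (m θ : ℂ)) := by
      rw [sum_congr rfl fun (z : Z') _ => show f 1 - f ((z : K) : N)
          = ∑ θ ∈ I, cc θ * ((θ : K → ℂ) 1 - (θ : K → ℂ) z) by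
        rw [← neg_sub, hdiff z z.2, ← sum_neg_distrib]
        exact sum_congr rfl fun θ _ => by ring, sum_comm]
      exact sum_congr rfl fun θ hθ => by rw [← mul_sum, hsumθ θ hθ]
    rw [sum_congr rfl fun z _ => h1 z] at h2
    simp only [OneMemClass.coe_eq_one] at h2
    rw [sum_congr rfl fun z _ => show (if z = (1 : Z') then (0 : ℂ)
        else ((k * (Nat.card K : ℤ) : ℤ) : ℂ))
        = ((k * (Nat.card K : ℤ) : ℤ) : ℂ) - if z = 1 then ((k * (Nat.card K : ℤ) : ℤ) : ℂ) else 0 by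
      split_ifs <;> simp, sum_sub_distrib, sum_ite_eq', if_pos (mem_univ _), sum_const, card_univ,
      ← Nat.card_eq_fintype_card, hZ'card, nsmul_eq_mul] at h2
    have h3 : ((((p : ℤ) - 1) * (k * (Nat.card K : ℤ)) : ℤ) : ℂ)
        = (((p : ℤ) * ∑ θ ∈ I, ((m θ : ℤ) * κ + y (indFun K (θ : K → ℂ))) * m θ : ℤ) : ℂ) := by
      push_cast
      push_cast at h2
      rw [sub_mul, one_mul, h2, mul_sum]
      refine sum_congr rfl fun θ hθ => ?_
      simp only [cc, hcoef _ (hIX θ hθ), m]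
      push_cast
      ring
    exact_mod_cast h3
  have hT : ((p : ℤ) - 1) * (Nat.card K : ℤ) * (k - κ)
      = (p : ℤ) * ∑ θ ∈ I, y (indFun K (θ : K → ℂ)) * m θ := by
    rw [sum_congr rfl fun θ _ => show ((m θ : ℤ) * κ + y (indFun K (θ : K → ℂ))) * m θ
        = (m θ : ℤ) ^ 2 * κ + y (indFun K (θ : K → ℂ)) * m θ by ring, sum_add_distrib, ← sum_mul,
      mul_add, ← mul_assoc (p : ℤ), hsq] at hlin
    linear_combination hlin
  have hall : (∀ φ ∈ X, y φ = 0) ∨ ∀ φ ∈ X, y φ = b φ := by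
    have hp1 : (0 : ℤ) < ((p : ℤ) - 1) * (Nat.card K : ℤ) :=
      mul_pos (by have := hp.two_le; omega) (by exact_mod_cast Nat.card_pos)
    have h0 : 0 ≤ ∑ θ ∈ I, y (indFun K (θ : K → ℂ)) * m θ :=
      sum_nonneg fun θ hθ => mul_nonneg (hbound _ (hIX θ hθ)).1 (by positivity)
    have h1 : ∑ θ ∈ I, y (indFun K (θ : K → ℂ)) * m θ ≤ ∑ θ ∈ I, (m θ : ℤ) ^ 2 :=
      sum_le_sum fun θ hθ => by
        rw [sq]
        exact mul_le_mul_of_nonneg_right (hbound _ (hIX θ hθ)).2.1 (by positivity)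
    have hp0 : (0 : ℤ) < p := by exact_mod_cast hp.pos
    have hk01 : k - κ = 0 ∨ k - κ = 1 := by
      have l0 : 0 ≤ k - κ := by
        by_contra hlt
        nlinarith
      have l1 : k - κ ≤ 1 := by
        by_contra hlt
        nlinarith
      omega
    have hcover : ∀ φ ∈ X, ∃ θ ∈ I, indFun K (θ : K → ℂ) = φ := by
      intro φ hφ
      obtain ⟨h1', h2'⟩ := mem_outside.1 hφ
      obtain ⟨θ, hθ, rfl⟩ := (mem_seqInd K).1 h1'
      refine ⟨θ, by_contra fun hn => h2' ((mem_seqInd K).2 ⟨θ, (mem_thetas K).2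
        ⟨((mem_thetas K).1 hθ).1, fun a ha => hout θ hn a (Subgroup.mem_subgroupOf.2 ha)⟩, rfl⟩), rfl⟩
    have hmpos : ∀ θ ∈ I, (0 : ℤ) < m θ := fun θ hθ => by
      exact_mod_cast (hb _ (hXS (hIX θ hθ))).1
    rcases hk01 with h | h <;> rw [h] at hT
    · refine Or.inl fun φ hφ => ?_
      obtain ⟨θ, hθ, rfl⟩ := hcover φ hφ
      have hz : ∑ θ ∈ I, y (indFun K (θ : K → ℂ)) * m θ = 0 := by
        rw [mul_zero, eq_comm, mul_eq_zero] at hT
        exact hT.resolve_left hp0.ne'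
      have := (sum_eq_zero_iff_of_nonneg fun θ hθ =>
        mul_nonneg (hbound _ (hIX θ hθ)).1 (by positivity)).1 hz θ hθ
      exact (mul_eq_zero.1 this).resolve_right (hmpos θ hθ).ne'
    · refine Or.inr fun φ hφ => ?_
      obtain ⟨θ, hθ, rfl⟩ := hcover φ hφ
      have hz : ∑ θ ∈ I, ((m θ : ℤ) - y (indFun K (θ : K → ℂ))) * m θ = 0 := by
        rw [mul_one, ← hsq] at hT
        simp only [sub_mul, sum_sub_distrib, ← mul_left_cancel₀ hp0.ne' hT, sq, sub_self]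
      have := (sum_eq_zero_iff_of_nonneg fun θ hθ =>
        mul_nonneg (sub_nonneg.2 (hbound _ (hIX θ hθ)).2.1) (by positivity)).1 hz θ hθ
      exact (sub_eq_zero.1 ((mul_eq_zero.1 this).resolve_right (hmpos θ hθ).ne')).symm
  -- choose the pivot
  obtain ⟨ζ, hζ, hζn, hζX, hζY⟩ : ∃ ζ : G → ℂ, Cfsg.IsGeneralizedCharacter G ζ ∧
      classInner ζ ζ = 1 ∧ (∀ φ ∈ X, classInner (V φ) ζ = -(b φ : ℂ)) ∧
      ∀ η ∈ Y, classInner (V η) ζ = (if η = η₀ then (1 : ℂ) else 0) - 1 := by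
    have hVY' : ∀ η ∈ Y, V η = τ₁ η - T₀ := fun η hη => by
      simp only [V, hYb η hη, Nat.cast_one, one_smul]
      exact hτimg η hη η₀ hη₀
    rcases hall with h | h
    · refine ⟨T₀, hgenT η₀ hη₀, (hsgnT η₀ hη₀).inner_self, fun φ hφ => ?_, fun η hη => ?_⟩
      · rw [hy φ hφ, h φ hφ, Int.cast_zero, zero_sub]
      · rw [hVY' η hη, classInner_sub_left, hT₀, hτorth η hη η₀ hη₀, hτorth η₀ hη₀ η₀ hη₀,
          if_pos rfl]
    · obtain ⟨φ₀, hφ₀⟩ := outside_nonempty (K := K) hZ1 hZK'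
      have hcard : Y.card = 2 := by
        have h' := (hbound φ₀ hφ₀).2.2
        rw [h φ₀ hφ₀] at h'
        have hb0 : (0 : ℤ) < b φ₀ := by exact_mod_cast (hb φ₀ (hXS hφ₀)).1
        have : (Y.card : ℤ) ≤ 2 := by
          by_contra hlt
          nlinarith [mul_pos hb0 hb0]
        omega
      have hne₀ : Cfsg.conjFun η₀ ≠ η₀ := hS.conj_ne η₀ (hYS hη₀)
      have hYeq : ∀ η ∈ Y, η = η₀ ∨ η = Cfsg.conjFun η₀ := fun η hη => by
        rw [← eq_of_subset_of_card_le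
          (show ({η₀, Cfsg.conjFun η₀} : Finset (N → ℂ)) ⊆ Y from
            insert_subset hη₀ (singleton_subset_iff.2 (hYc η₀ hη₀)))
          (by rw [card_pair hne₀.symm, hcard])] at hη
        simpa using hη
      set ηc := Cfsg.conjFun η₀ with hηc
      have hηcY : ηc ∈ Y := hYc η₀ hη₀
      refine ⟨-τ₁ ηc, H43.gen_neg (hgenT ηc hηcY), by
        rw [classInner_neg_left, classInner_neg_right, (hsgnT ηc hηcY).inner_self, neg_neg],
        fun φ hφ => ?_, fun η hη => ?_⟩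
      · rw [classInner_neg_right, hVY φ hφ ηc hηcY, if_neg hne₀, h φ hφ, sub_zero,
          Int.cast_natCast]
      · rw [classInner_neg_right, hVY' η hη, classInner_sub_left, hT₀, hτorth η hη ηc hηcY,
          hτorth η₀ hη₀ ηc hηcY, if_neg hne₀.symm]
        rcases hYeq η hη with rfl | rfl
        · rw [if_neg hne₀.symm, if_pos rfl]; ring
        · rw [if_pos rfl, if_neg hne₀]; ring
  rw [← coe_union]
  refine coherent_of_pivot (X ∪ Y) (↑S : Set (N → ℂ)) (coe_subset.2 (union_subset hXS hYS))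
    (Cfsg.indFun N) hS.isometry (fun a ha => H43.sys_ne_zero hS (union_subset hXS hYS ha))
    (fun a ha c hc => horth a (union_subset hXS hYS ha) c (union_subset hXS hYS hc))
    (mem_union_right _ hη₀) (hYn η₀ hη₀) he0 (hYdeg η₀ hη₀) b
    (fun a ha => (hb a (union_subset hXS hYS ha)).2) hζ hζn (fun a ha => ?_)
    ⟨_, mem_union_right _ (hYc η₀ hη₀), hS.conj_ne η₀ (hYS hη₀)⟩
  rcases mem_union.1 ha with h | h
  · rw [show Cfsg.indFun N (a - (b a : ℤ) • η₀) = V a from rfl, hζX a h, (hXY0 a h η₀ hη₀).1,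
      zero_sub]
  · rw [show Cfsg.indFun N (a - (b a : ℤ) • η₀) = V a from rfl, hζY a h, hYb a h,
      classInner_irr (hirr a h) (hirr η₀ hη₀), Nat.cast_one]

end Main

end Cfsg.Agent.OddOrder.PF6
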