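import Cfsg.Agent.OddOrder.PF6.Coherence

/-!
# Peterfalvi (6.6): the irreducible members outside `S(Z)` for a central `Z`
-/

set_option autoImplicit false

namespace Cfsg.Agent.OddOrder.PF6

open Cfsg.Agent Cfsg.Agent.CharInduce Finset
open scoped commutatorElement

universe u v

variable {L : Type u} [Group L] [Fintype L] {G : Type v} [Group G] [Fintype G]
  {K : Subgroup L} [hK : K.Normal] {τ : (L → ℂ) → (G → ℂ)} {R : (L → ℂ) → Finset (G → ℂ)}

variable (K) in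
open scoped Classical in
/-- The members of `S` outside `S(Z)`. -/
noncomputable def outside (Z : Subgroup L) : Finset (L → ℂ) := seqInd K ⊥ \ seqInd K Z

omit hK in
theorem mem_outside {Z : Subgroup L} {φ : L → ℂ} :
    φ ∈ outside K Z ↔ φ ∈ seqInd K ⊥ ∧ φ ∉ seqInd K Z := by
  simp [outside]

omit hK in
theorem coe_outside (Z : Subgroup L) :
    (↑(outside K Z) : Set (L → ℂ))
      = Cfsg.inducedIrrAbove K ⊥ \ Cfsg.inducedIrrAbove K Z := by
  ext φ
  rw [mem_coe, mem_outside, Set.mem_diff, ← coe_seqInd, ← coe_seqInd, mem_coe, mem_coe]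

omit hK in
theorem outside_conj {Z : Subgroup L} {φ : L → ℂ} (h : φ ∈ outside K Z) :
    Cfsg.conjFun φ ∈ outside K Z := by
  rw [mem_outside] at h ⊢
  exact ⟨seqInd_conj K h.1, fun h' => h.2 (by simpa [H43.conjFun_conjFun] using seqInd_conj K h')⟩

theorem indFun_mem_outside {Z : Subgroup L} [Z.Normal] {θ : IrrCharacter K} {z : K}
    (hz : (z : L) ∈ Z) (hne : (θ : K → ℂ) z ≠ (θ : K → ℂ) 1) :
    indFun K (θ : K → ℂ) ∈ outside K Z := by
  refine mem_outside.2 ⟨(mem_seqInd K).2 ⟨θ, (mem_thetas K).2 ⟨fun e => hne (by rw [e]), fun a ha =>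
    ?_⟩, rfl⟩, fun h => ?_⟩
  · rw [show a = 1 from Subtype.ext (Subgroup.mem_bot.1 ha)]
  · obtain ⟨θ', hθ', e⟩ := (mem_seqInd K).1 h
    exact hne (((mem_thetas K).1 (mem_thetas_of_indFun_eq K hθ' e)).2 z hz)

theorem outside_nonempty {Z : Subgroup L} [Z.Normal] (hZ1 : Z ≠ ⊥) (hZK : Z ≤ K) :
    (outside K Z).Nonempty := by
  obtain ⟨z, hz, hz1⟩ := exists_ne_one_of_ne_bot hZ1
  obtain ⟨θ, hθ⟩ := CharBasic.exists_irr_ne_of_ne_one (g := (⟨z, hZK hz⟩ : K))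
    fun e => hz1 (congrArg Subtype.val e)
  exact ⟨_, indFun_mem_outside (θ := θ) hz hθ⟩
where
  exists_ne_one_of_ne_bot {Z : Subgroup L} (h : Z ≠ ⊥) : ∃ z ∈ Z, z ≠ (1 : L) := by
    by_contra hc
    push Not at hc
    exact h ((Subgroup.eq_bot_iff_forall Z).2 hc)

/-- The members outside `S(Z)` are the irreducible characters nontrivial on `Z`. -/
theorem outside_eq {Z : Subgroup L} [Z.Normal] (hZK : Z ≤ K)
    (hirr : ∀ χ ∈ outside K Z, Cfsg.IsIrrCharacter L χ) :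
    (↑(outside K Z) : Set (L → ℂ)) = {χ | Cfsg.IsIrrCharacter L χ ∧ ∃ z ∈ Z, χ z ≠ χ 1} := by
  classical
  haveI := Fintype.ofFinite K
  ext χ
  constructor
  · intro hχ
    obtain ⟨h1, h2⟩ := mem_outside.1 hχ
    obtain ⟨θ, hθ, rfl⟩ := (mem_seqInd K).1 h1
    refine ⟨hirr _ hχ, ?_⟩
    by_contra hc
    push Not at hc
    refine h2 ((mem_seqInd K).2 ⟨θ, (mem_thetas K).2 ⟨((mem_thetas K).1 hθ).1, fun a ha => ?_⟩, rfl⟩)
    refine eq_one_of_constituent (χ := fun k : K => indFun K (θ : K → ℂ) k) (IsChar.res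
      (CharBasic.IsIrr.isCharacter (hirr _ hχ)) K) θ.2 ?_ (hc _ ha)
    rw [← conj_classInner, ← classInner_indFun_left K _ _ (isClassFunction_indFun K _),
      CharBasic.classInner_irr_self (hirr _ hχ)]
    simp
  · rintro ⟨hχ, z, hz, hne⟩
    obtain ⟨θ, hc, hθ⟩ : ∃ θ : IrrCharacter K, classInner (fun k : K => χ k) (θ : K → ℂ) ≠ 0 ∧
        (θ : K → ℂ) ⟨z, hZK hz⟩ ≠ (θ : K → ℂ) 1 := by
      by_contra hcon
      push Not at hcon
      apply hne
      have he := CharBasic.classFunction_expansion (ψ := fun k : K => χ k)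
        (fun a b => CharBasic.IsIrr.isClassFunction hχ (a : L) (b : L))
      have e1 := congrFun he ⟨z, hZK hz⟩
      have e2 := congrFun he 1
      simp only [Finset.sum_apply, Pi.smul_apply, smul_eq_mul, OneMemClass.coe_one] at e1 e2
      rw [e1, e2]
      refine sum_congr rfl fun θ _ => ?_
      by_cases h0 : classInner (fun k : K => χ k) (θ : K → ℂ) = 0
      · rw [h0, zero_mul, zero_mul]
      · rw [hcon θ h0]
    have hm : indFun K (θ : K → ℂ) ∈ outside K Z :=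
      indFun_mem_outside (z := ⟨z, hZK hz⟩) hz hθ
    have h1 : classInner (indFun K (θ : K → ℂ)) χ ≠ 0 := by
      rw [classInner_indFun_left K _ _ (CharBasic.IsIrr.isClassFunction hχ), ← conj_classInner]
      simpa using hc
    by_contra hn
    exact h1 (CharBasic.classInner_irr_of_ne (hirr _ hm) hχ fun e => hn (e ▸ hm))

/-- Peterfalvi (6.6), coherence part. -/
theorem coherent_outside (hsolv : Group.IsSolvable K)
    (hS : Cfsg.IsCoherenceSystem (Cfsg.inducedIrrAbove K ⊥) τ R) (hodd : Odd (Nat.card L))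
    (hnil : Group.IsNilpotent K) (hH₁K : ⁅K, K⁆ < K) (hKL : K < ⊤)
    (hfrob : ∀ k ∈ K, k ∉ ⁅K, K⁆ → ∀ x : L, x * k * x⁻¹ * k⁻¹ ∈ ⁅K, K⁆ → x ∈ K)
    (Z : Subgroup L) [Z.Normal] (hZ1 : Z ≠ ⊥) (hZK : Z ≤ K)
    (hZc : ∀ z ∈ Z, ∀ k ∈ K, z * k = k * z)
    (hirr : ∀ χ ∈ outside K Z, Cfsg.IsIrrCharacter L χ) :
    Cfsg.IsCoherent (↑(outside K Z) : Set (L → ℂ)) {1}ᶜ τ := by
  classical
  haveI := Fintype.ofFinite K
  have hXS : (↑(outside K Z) : Set (L → ℂ)) ⊆ Cfsg.inducedIrrAbove K ⊥ := by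
    rw [coe_outside]
    exact Set.diff_subset
  have hXne := outside_nonempty (K := K) hZ1 hZK
  have hXc : ∀ φ ∈ outside K Z, Cfsg.conjFun φ ∈ outside K Z := fun φ h => outside_conj h
  by_cases hpp : ∃ p m : ℕ, p.Prime ∧ Nat.card K = p ^ m
  swap
  · refine coherent_sub hS ?_ hXS subset_rfl hXne hXc
    exact coherent_seqInd_chief hsolv hS hodd ⊥ bot_le inferInstance ⁅K, K⁆ (sup_bot_eq _).symm
      hH₁K hKL hfrob (Or.inr (Or.inr (Or.inl (by simpa [Subgroup.relIndex_bot_left] using hpp))))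
  obtain ⟨p, r, hp, hr⟩ := hpp
  haveI hH₁n : (⁅K, K⁆).Normal := inferInstance
  set e := K.index with hedef
  have he0 : 0 < e := Nat.pos_of_ne_zero Subgroup.FiniteIndex.index_ne_zero
  obtain ⟨t, ht⟩ := relIndex_mod_index (H := ⁅K, K⁆) (N := K) hH₁K.le le_rfl le_rfl hfrob
  have hpK : p ∣ (⁅K, K⁆).relIndex K := by
    obtain ⟨j, -, hj⟩ := (Nat.dvd_prime_pow hp).1
      (hr ▸ Subgroup.index_dvd_card ((⁅K, K⁆).subgroupOf K))
    rcases Nat.eq_zero_or_pos j with rfl | hj0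
    · exact absurd (Subgroup.relIndex_eq_one.1 (show (⁅K, K⁆).relIndex K = 1 by
        rw [Subgroup.relIndex, hj, pow_zero])) hH₁K.not_ge
    · rw [Subgroup.relIndex, hj]
      exact dvd_pow_self p hj0.ne'
  have hpe : Nat.Coprime p e := hp.coprime_iff_not_dvd.2 fun h => hp.not_dvd_one <| by
    rw [ht] at hpK
    exact (Nat.dvd_add_left (h.mul_right t)).1 hpK
  have hp3 : 3 ≤ p := by
    rcases hp.eq_two_or_odd' with rfl | ho
    · exfalso
      have h2 : 2 ∣ Nat.card L :=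
        ((hpK.trans (Subgroup.index_dvd_card _)).trans (Subgroup.card_subgroup_dvd_card K))
      exact absurd (even_iff_two_dvd.2 h2) (Nat.not_even_iff_odd.2 hodd)
    · obtain ⟨a, rfl⟩ := ho
      have := hp.two_le
      omega
  set Z' := Z.subgroupOf K with hZ'
  have hdeg : ∀ φ : {φ // φ ∈ outside K Z}, ∃ k : ℕ,
      (φ : L → ℂ) 1 = ((e * p ^ k : ℕ) : ℂ) ∧ p ^ (2 * k) ∣ Z'.index := by
    rintro ⟨φ, hφ⟩
    obtain ⟨θ, -, m, -, -, hm, hd⟩ := seqInd_degree K (mem_outside.1 hφ).1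
    obtain ⟨n, -, hn, hdvd, -⟩ := CharBasic.IsIrr.degree_dvd θ.2
    obtain rfl : m = n := Nat.cast_injective (hm.symm.trans hn)
    rw [hr, Nat.dvd_prime_pow hp] at hdvd
    obtain ⟨k, -, rfl⟩ := hdvd
    refine ⟨k, hd, ?_⟩
    have h := degree_sq_mul_le θ.2 Z' hm fun x hx =>
      norm_eq_of_commutator_mem θ.2 x fun c => by
        refine congrArg (θ : K → ℂ) (Subtype.ext ?_)
        push_cast
        rw [hZc _ (Subgroup.mem_subgroupOf.1 hx) _ c.2]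
        group
    rw [← Z'.card_mul_index, mul_comm] at h
    have h2 := Nat.le_of_mul_le_mul_left h Nat.card_pos
    obtain ⟨i, -, hi⟩ := (Nat.dvd_prime_pow hp).1 (hr ▸ Z'.index_dvd_card)
    rw [hi] at h2 ⊢
    rw [← pow_mul, mul_comm k 2] at h2
    exact pow_dvd_pow p ((Nat.pow_le_pow_iff_right hp.one_lt).1 h2)
  choose k hk hkdvd using hdeg
  let kk : (L → ℂ) → ℕ := fun φ => if h : φ ∈ outside K Z then k ⟨φ, h⟩ else 0
  have hkk : ∀ φ ∈ outside K Z, φ 1 = ((e * p ^ kk φ : ℕ) : ℂ) ∧ p ^ (2 * kk φ) ∣ Z'.index := by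
    intro φ h
    simp only [kk, dif_pos h]
    exact ⟨hk ⟨φ, h⟩, hkdvd ⟨φ, h⟩⟩
  have hweight : ∀ φ ∈ outside K Z, weight φ = (((e * p ^ kk φ) ^ 2 : ℕ) : ℝ) := by
    intro φ h
    rw [weight, (hkk φ h).1, CharBasic.classInner_irr_self (hirr φ h), Complex.natCast_re,
      Complex.one_re, div_one, Nat.cast_pow]
  have htot : ∑ φ ∈ outside K Z, (e * p ^ kk φ) ^ 2 + e * Z'.index = e * Nat.card K := by
    have h1 := sum_sdiff (f := weight (L := L)) (seqInd_subset_bot K Z)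
    rw [← outside, sum_weight_seqInd K Z, sum_weight_seqInd K ⊥, sum_congr rfl hweight,
      Subgroup.relIndex_bot_left] at h1
    have h2 : ((∑ φ ∈ outside K Z, (e * p ^ kk φ) ^ 2 + e * Z'.index : ℕ) : ℝ)
        = ((e * Nat.card K : ℕ) : ℝ) := by
      push_cast at h1 ⊢
      rw [hZ', ← Subgroup.relIndex]
      linarith
    exact_mod_cast h2
  obtain ⟨χ₀, hχ₀, hmin⟩ := (outside K Z).exists_min_image kk hXne
  set T₀ := (outside K Z).filter fun φ => kk φ = kk χ₀ with hT₀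
  have hkkc : ∀ φ ∈ outside K Z, kk (Cfsg.conjFun φ) = kk φ := by
    intro φ h
    have h1 : Cfsg.conjFun φ 1 = φ 1 := by
      show (starRingEnd ℂ) (φ 1) = φ 1
      rw [(hkk φ h).1, Complex.conj_natCast]
    rw [(hkk φ h).1, (hkk _ (hXc φ h)).1, Nat.cast_inj] at h1
    exact Nat.pow_right_injective hp.two_le (Nat.eq_of_mul_eq_mul_left he0 h1)
  have hT₀c : ∀ φ ∈ T₀, Cfsg.conjFun φ ∈ T₀ := fun φ h => by
    rw [hT₀, mem_filter] at h ⊢
    exact ⟨hXc φ h.1, (hkkc φ h.1).trans h.2⟩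
  have hT₀S : (↑T₀ : Set (L → ℂ)) ⊆ Cfsg.inducedIrrAbove K ⊥ :=
    (coe_subset.2 (filter_subset _ _)).trans hXS
  refine coherent_of_step hS _ hXS hXne hXc T₀ hT₀S hT₀c ?_ fun T h0 hTS hTc hTcoh hne => ?_
  · refine coherent_const_degree hS hT₀S ⟨χ₀, mem_filter.2 ⟨hχ₀, rfl⟩⟩ hT₀c fun φ hφ ψ hψ => ?_
    rw [mem_coe, hT₀, mem_filter] at hφ hψ
    rw [(hkk φ hφ.1).1, (hkk ψ hψ.1).1, hφ.2, hψ.2]
  obtain ⟨χ, hχ, hχmin⟩ := (outside K Z \ T).exists_min_image kk hne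
  refine ⟨χ, hχ, ?_⟩
  rw [Finset.mem_sdiff] at hχ
  have hlt : kk χ₀ < kk χ := lt_of_le_of_ne (hmin χ hχ.1) fun h =>
    hχ.2 (h0 (mem_filter.2 ⟨hχ.1, h.symm⟩))
  refine coherent_insert_pair hS hTS hTc hTcoh (hXS hχ.1) hχ.2
    (h0 (mem_filter.2 ⟨hχ₀, rfl⟩)) (hkk χ₀ hχ₀).1 (hkk χ hχ.1).1
    (Nat.mul_dvd_mul_left e (pow_dvd_pow p hlt.le)) ?_
  set U := (outside K Z).filter fun φ => kk φ < kk χ with hU
  have hUT : U ⊆ T := fun φ hφ => by
    by_contra hc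
    exact absurd (hχmin φ (Finset.mem_sdiff.2 ⟨(mem_filter.1 hφ).1, hc⟩))
      (not_le.2 (mem_filter.1 hφ).2)
  refine lt_of_lt_of_le ?_ (sum_le_sum_of_subset_of_nonneg hUT fun φ _ _ => weight_nonneg φ)
  rw [sum_congr rfl fun φ hφ => hweight φ (mem_filter.1 hφ).1, ← Nat.cast_sum]
  set s := ∑ φ ∈ U, (e * p ^ kk φ) ^ 2 with hs
  have hs0 : 0 < s :=
    sum_pos (fun φ _ => by have := hp.pos; positivity)
      ⟨χ₀, mem_filter.2 ⟨hχ₀, hlt⟩⟩
  have hse : e ^ 2 ∣ s := dvd_sum fun φ _ => ⟨(p ^ kk φ) ^ 2, by ring⟩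
  have hsp : p ^ (2 * kk χ) ∣ s := by
    have h1 : p ^ (2 * kk χ) ∣ ∑ φ ∈ (outside K Z).filter (fun φ => ¬ kk φ < kk χ),
        (e * p ^ kk φ) ^ 2 := dvd_sum fun φ hφ => by
      rw [mul_pow, ← pow_mul]
      exact dvd_mul_of_dvd_right (pow_dvd_pow p (by have := (mem_filter.1 hφ).2; omega)) _
    have hZd := (hkk χ hχ.1).2
    have hKd : p ^ (2 * kk χ) ∣ e * Nat.card K :=
      dvd_mul_of_dvd_right (hZd.trans Z'.index_dvd_card) _
    rw [← htot, ← sum_filter_add_sum_filter_not (outside K Z) (fun φ => kk φ < kk χ)] at hKd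
    exact (Nat.dvd_add_left h1).1 ((Nat.dvd_add_left (dvd_mul_of_dvd_right hZd e)).1 hKd)
  have hle : e ^ 2 * p ^ (2 * kk χ) ≤ s :=
    Nat.le_of_dvd hs0 ((Nat.Coprime.pow _ _ hpe.symm).mul_dvd_of_dvd_of_dvd hse hsp)
  have h3 : 3 * p ^ kk χ₀ ≤ p ^ kk χ :=
    calc 3 * p ^ kk χ₀ ≤ p * p ^ kk χ₀ := Nat.mul_le_mul_right _ hp3
      _ = p ^ (kk χ₀ + 1) := by ring
      _ ≤ p ^ kk χ := Nat.pow_le_pow_right hp.pos hlt
  have hmain : 2 * (e * p ^ kk χ) * (e * p ^ kk χ₀) < s := by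
    refine lt_of_lt_of_le ?_ hle
    have hpos : 0 < e * e * p ^ kk χ := by have := hp.pos; positivity
    have : 2 * p ^ kk χ₀ < p ^ kk χ := by have := hp.pos; have : 0 < p ^ kk χ₀ := by positivity
                                          omega
    calc 2 * (e * p ^ kk χ) * (e * p ^ kk χ₀) = e * e * p ^ kk χ * (2 * p ^ kk χ₀) := by ring
      _ < e * e * p ^ kk χ * p ^ kk χ := Nat.mul_lt_mul_of_pos_left this hpos
      _ = e ^ 2 * p ^ (2 * kk χ) := by ring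
  exact_mod_cast hmain

end Cfsg.Agent.OddOrder.PF6
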