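import Cfsg.Agent.OddOrder.PF6.Central
import Cfsg.Agent.H28.FrobChar
import Cfsg.Agent.S1514

/-!
# The set `S` of a Frobenius group with nilpotent kernel
-/

set_option autoImplicit false

namespace Cfsg.Agent.OddOrder.PF6

open Cfsg.Agent Cfsg.Agent.CharInduce Finset
open scoped commutatorElement

universe u v

variable {L : Type u} [Group L] [Fintype L] {K : Subgroup L} [hK : K.Normal]

theorem seqInd_irr (hF : H28.Frob.IsFrobKer K) {A : Subgroup L} {φ : L → ℂ} (hφ : φ ∈ seqInd K A) :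
    Cfsg.IsIrrCharacter L φ := by
  obtain ⟨θ, hθ, rfl⟩ := (mem_seqInd K).1 hφ
  exact H28.Frob.ind_isIrr hF θ.2 ((mem_thetas K).1 hθ).1

theorem seqInd_vanish {A : Subgroup L} {φ : L → ℂ} (hφ : φ ∈ seqInd K A) {x : L} (hx : x ∉ K) :
    φ x = 0 := by
  obtain ⟨θ, -, rfl⟩ := (mem_seqInd K).1 hφ
  exact indFun_eq_zero_of_normal K _ hx

theorem mem_thetas_bot {θ : IrrCharacter K} (h : (θ : K → ℂ) ≠ fun _ => 1) : θ ∈ thetas K ⊥ :=
  (mem_thetas K).2 ⟨h, fun a ha => by rw [show a = 1 from Subtype.ext (Subgroup.mem_bot.1 ha)]⟩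

/-- `S` is the set of irreducible characters nontrivial on the kernel. -/
theorem coe_seqInd_bot (hF : H28.Frob.IsFrobKer K) :
    (↑(seqInd K ⊥) : Set (L → ℂ)) = {χ | Cfsg.IsIrrCharacter L χ ∧ ∃ k ∈ K, χ k ≠ χ 1} := by
  ext χ
  constructor
  · intro hχ
    obtain ⟨θ, hθ, rfl⟩ := (mem_seqInd K).1 hχ
    exact ⟨seqInd_irr hF hχ, H28.Frob.ind_not_const hF θ.2 ((mem_thetas K).1 hθ).1⟩
  · rintro ⟨hχ, hne⟩
    obtain ⟨θ, hθ, hθ1, rfl⟩ := H28.Frob.exists_ind_eq hF hχ hne
    exact (mem_seqInd K).2 ⟨⟨θ, hθ⟩, mem_thetas_bot hθ1, rfl⟩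

theorem seqInd_conj_ne (hF : H28.Frob.IsFrobKer K) (hodd : Odd (Nat.card L)) (hKL : K < ⊤)
    {φ : L → ℂ} (hφ : φ ∈ seqInd K ⊥) : Cfsg.conjFun φ ≠ φ := by
  intro h
  have h1 := eq_one_of_real_of_odd hodd (seqInd_irr hF hφ) fun g => congrFun h g
  obtain ⟨x, -, hx⟩ := SetLike.exists_of_lt hKL
  have := seqInd_vanish hφ hx
  rw [h1] at this
  exact one_ne_zero this

theorem exists_system {G : Type v} [Group G] [Fintype G] (hF : H28.Frob.IsFrobKer K)
    (hodd : Odd (Nat.card L)) (hKL : K < ⊤) (hne : (seqInd K ⊥).Nonempty)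
    {τ : (L → ℂ) → (G → ℂ)}
    (hτ : Cfsg.IsLinearIsometryOn (Cfsg.zspanOn (↑(seqInd K ⊥) : Set (L → ℂ)) {1}ᶜ) τ)
    (hτ1 : ∀ α ∈ Cfsg.zspanOn (↑(seqInd K ⊥) : Set (L → ℂ)) {1}ᶜ, τ α 1 = 0) :
    ∃ R, Cfsg.IsCoherenceSystem (Cfsg.inducedIrrAbove K ⊥) τ R := by
  rw [← coe_seqInd]
  exact Cfsg.Agent.S1514.result _ (by simpa using hne) (fun χ h => seqInd_irr hF h)
    (fun χ h => ⟨seqInd_conj K h, seqInd_conj_ne hF hodd hKL h⟩) τ hτ hτ1

/-- The quotient by the derived subgroup of the kernel is again a Frobenius group. -/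
theorem mem_of_commutator_mem_derived (hF : H28.Frob.IsFrobKer K) :
    ∀ k ∈ K, k ∉ ⁅K, K⁆ → ∀ x : L, x * k * x⁻¹ * k⁻¹ ∈ ⁅K, K⁆ → x ∈ K := by
  intro k hk hk' x hx
  by_contra hxK
  set σ : Abelianization K →* Abelianization K :=
    Abelianization.map (MulAut.conjNormal x : K ≃* K).toMonoidHom with hσ
  let ψ : Abelianization K →* Abelianization K :=
    { toFun := fun a => σ a / a
      map_one' := by simp
      map_mul' := fun a b => by rw [map_mul, mul_div_mul_comm] }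
  have hkbar : (Abelianization.of (⟨k, hk⟩ : K)) ≠ 1 := fun e => hk' <| by
    have h : (⟨k, hk⟩ : K) ∈ _root_.commutator ↥K :=
      (QuotientGroup.eq_one_iff _).1 e
    rw [← Subgroup.map_subtype_commutator]
    exact ⟨_, h, rfl⟩
  have hfix : σ (Abelianization.of (⟨k, hk⟩ : K)) = Abelianization.of (⟨k, hk⟩ : K) := by
    rw [hσ, Abelianization.map_of, ← mul_inv_eq_one, ← map_inv, ← map_mul]
    refine (QuotientGroup.eq_one_iff _).2 ?_
    rw [← Subgroup.map_subtype_commutator, Subgroup.mem_map] at hx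
    obtain ⟨c, hc, hc'⟩ := hx
    convert hc using 1
    refine Subtype.ext ?_
    rw [Subgroup.coe_subtype] at hc'
    rw [hc']
    simp
  have hnot : ¬ Function.Surjective ψ := fun hs =>
    hkbar ((Finite.injective_iff_surjective.2 hs) (by
      rw [map_one]
      show σ _ / _ = 1
      rw [hfix, div_self']))
  have hr : ψ.range ≠ ⊤ := fun e => hnot (MonoidHom.range_eq_top.1 e)
  haveI : Nontrivial (Abelianization K ⧸ ψ.range) := QuotientGroup.nontrivial_iff.2 hr
  obtain ⟨g, hg⟩ := exists_ne (1 : Abelianization K ⧸ ψ.range)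
  obtain ⟨χ, hχ⟩ := CharBasic.exists_irr_ne_of_ne_one hg
  let π : K →* Abelianization K ⧸ ψ.range := (QuotientGroup.mk' ψ.range).comp Abelianization.of
  have hπ : Function.Surjective π :=
    (QuotientGroup.mk'_surjective _).comp (QuotientGroup.mk'_surjective _)
  have hθ := CharInduce.IsIrr.comp χ.2 π hπ
  have hinv : CharInduce.conjFun K (fun a => (χ : Abelianization K ⧸ ψ.range → ℂ) (π a)) x
      = fun a => (χ : Abelianization K ⧸ ψ.range → ℂ) (π a) := by
    funext a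
    refine congrArg (χ : Abelianization K ⧸ ψ.range → ℂ) ?_
    show QuotientGroup.mk' ψ.range (Abelianization.of _) = QuotientGroup.mk' ψ.range _
    rw [← mul_inv_eq_one, ← map_inv, ← map_mul]
    exact (QuotientGroup.eq_one_iff _).2 ⟨Abelianization.of a, div_eq_mul_inv _ _⟩
  have h1 := H28.Frob.eq_one_of_fixed hF hθ hinv hxK
  obtain ⟨a, rfl⟩ := hπ g
  apply hχ
  rw [congrFun h1 a, ← map_one π, congrFun h1 1]

theorem derived_lt (hnil : Group.IsNilpotent K) (hK1 : K ≠ ⊥) : ⁅K, K⁆ < K := by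
  haveI := (Subgroup.nontrivial_iff_ne_bot K).2 hK1
  have h := Group.IsSolvable.commutator_lt_top_of_nontrivial (G := K)
  refine lt_of_le_of_ne (Subgroup.commutator_le_left K K) fun e => h.ne ?_
  refine Subgroup.map_injective K.subtype_injective ?_
  rw [Subgroup.map_subtype_commutator, e, ← MonoidHom.range_eq_map, Subgroup.range_subtype]

theorem lcs_normal : ∀ j, (K.lowerCentralSeries j).Normal
  | 0 => hK
  | j + 1 => by
    haveI := lcs_normal j
    rw [Subgroup.lowerCentralSeries_succ]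
    infer_instance

/-- A central normal subgroup inside the derived subgroup of a non-abelian nilpotent group. -/
theorem exists_central (hnil : Group.IsNilpotent K) (hna : ⁅K, K⁆ ≠ ⊥) :
    ∃ Z : Subgroup L, Z.Normal ∧ Z ≠ ⊥ ∧ Z ≤ ⁅K, K⁆ ∧ ∀ z ∈ Z, ∀ k ∈ K, z * k = k * z := by
  classical
  have hex := (Subgroup.isNilpotent_iff_lowerCentralSeries K).1 hnil
  set n := Nat.find hex with hn
  have hbot : K.lowerCentralSeries n = ⊥ := Nat.find_spec hex
  have h1 : K.lowerCentralSeries 1 = ⁅K, K⁆ := by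
    rw [Subgroup.lowerCentralSeries_succ, Subgroup.lowerCentralSeries_zero]
  have h2 : 2 ≤ n := by
    by_contra hlt
    exact hna (le_bot_iff.1 (h1 ▸ hbot ▸ K.lowerCentralSeries_antitone (by omega)))
  refine ⟨K.lowerCentralSeries (n - 1), lcs_normal _, Nat.find_min hex (by omega), ?_,
    fun z hz k hk => ?_⟩
  · exact h1 ▸ K.lowerCentralSeries_antitone (by omega)
  · have h : ⁅z, k⁆ ∈ K.lowerCentralSeries n := by
      rw [show n = (n - 1) + 1 by omega, Subgroup.lowerCentralSeries_succ]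
      exact Subgroup.commutator_mem_commutator hz hk
    rw [hbot, Subgroup.mem_bot] at h
    exact commutatorElement_eq_one_iff_commute.1 h

end Cfsg.Agent.OddOrder.PF6
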